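import Mathlib
import Cfsg.Agent.H67.ProdCard

set_option autoImplicit false

namespace Cfsg.Agent.H67

open scoped commutatorElement

variable {S : Type*} [Group S]

/-- A subgroup of index `p` in a finite `p`-group is normal. -/
theorem normal_of_index_eq_prime [Finite S] {p : ℕ} [Fact p.Prime] (hS : IsPGroup p S)
    (Q : Subgroup S) (hQ : Q.index = p) : Q.Normal := by
  have hp : p.Prime := Fact.out
  obtain ⟨k, hk⟩ := IsPGroup.iff_card.1 hS
  apply Subgroup.normal_of_index_eq_minFac_card
  have hk0 : k ≠ 0 := by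
    rintro rfl
    have h1 : Q.index ∣ Nat.card S := Subgroup.index_dvd_card Q
    rw [hk, pow_zero, hQ] at h1
    exact hp.one_lt.ne' (Nat.dvd_one.1 h1)
  rw [hQ, hk, hp.pow_minFac hk0]

/-- A nontrivial normal subgroup of a finite `p`-group meets the centre nontrivially. -/
theorem exists_ne_one_mem_center_of_normal [Finite S] {p : ℕ} [Fact p.Prime] (hS : IsPGroup p S)
    (N : Subgroup S) [N.Normal] (hN : N ≠ ⊥) : ∃ z ∈ N, z ≠ 1 ∧ z ∈ Subgroup.center S := by
  have hS' : IsPGroup p (ConjAct S) := hS
  have hNp : IsPGroup p N := hS.to_subgroup N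
  have hdvd : p ∣ Nat.card N := by
    rcases hNp.card_eq_or_dvd with h | h
    · exfalso
      apply hN
      exact (Subgroup.card_eq_one).1 h
    · exact h
  have h1 : (1 : N) ∈ MulAction.fixedPoints (ConjAct S) N := by
    intro g
    exact smul_one g
  obtain ⟨b, hb, hb1⟩ := hS'.exists_fixed_point_of_prime_dvd_card_of_fixed_point N hdvd h1
  refine ⟨(b : S), b.2, ?_, ?_⟩
  · intro h
    apply hb1
    exact (Subtype.ext h).symm
  · rw [Subgroup.mem_center_iff]
    intro g
    have := hb (ConjAct.toConjAct g)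
    have h2 := congrArg (fun x : N => (x : S)) this
    simp only [ConjAct.Subgroup.val_conj_smul, ConjAct.toConjAct_smul] at h2
    calc g * (b : S) = (g * (b : S) * g⁻¹) * g := by group
      _ = (b : S) * g := by rw [h2]

/-- A normal subgroup of prime order of a finite `p`-group is central. -/
theorem le_center_of_normal_of_card_eq_prime [Finite S] {p : ℕ} [Fact p.Prime]
    (hS : IsPGroup p S) (N : Subgroup S) [N.Normal] (hN : Nat.card N = p) :
    N ≤ Subgroup.center S := by
  have hp : p.Prime := Fact.out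
  have hNbot : N ≠ ⊥ := by
    intro h
    rw [h, Subgroup.card_bot] at hN
    exact hp.one_lt.ne hN
  obtain ⟨z, hzN, hz1, hzc⟩ := exists_ne_one_mem_center_of_normal hS N hNbot
  have hzp : Subgroup.zpowers z = N := by
    apply Subgroup.eq_of_le_of_card_ge (by rw [Subgroup.zpowers_le]; exact hzN)
    rw [hN, Nat.card_zpowers]
    have h1 : orderOf z ∣ p := by
      have := orderOf_dvd_natCard (⟨z, hzN⟩ : N)
      rw [hN] at this
      rwa [← Subgroup.orderOf_coe] at this
    rcases (Nat.dvd_prime hp).1 h1 with h | h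
    · exact absurd (orderOf_eq_one_iff.1 h) hz1
    · exact h.ge
  rw [← hzp, Subgroup.zpowers_le]
  exact hzc

/-- If all commutators `⁅s, y⁆` are central, `s ↦ ⁅s, y⁆` is a homomorphism into the centre. -/
def commHom (y : S) (h : ∀ s : S, ⁅s, y⁆ ∈ Subgroup.center S) : S →* Subgroup.center S where
  toFun s := ⟨⁅s, y⁆, h s⟩
  map_one' := by
    apply Subtype.ext
    simp [commutatorElement_def]
  map_mul' a b := by
    apply Subtype.ext
    have hb := Subgroup.mem_center_iff.1 (h b)
    show ⁅a * b, y⁆ = ⁅a, y⁆ * ⁅b, y⁆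
    have e1 : ⁅a * b, y⁆ = a * ⁅b, y⁆ * a⁻¹ * ⁅a, y⁆ := by
      simp only [commutatorElement_def]; group
    rw [e1, hb a, mul_inv_cancel_right, hb ⁅a, y⁆]

theorem commHom_ker (y : S) (h : ∀ s : S, ⁅s, y⁆ ∈ Subgroup.center S) :
    (commHom y h).ker = Subgroup.centralizer {y} := by
  ext s
  rw [MonoidHom.mem_ker, Subgroup.mem_centralizer_iff]
  constructor
  · intro hs x hx
    rw [Set.mem_singleton_iff] at hx
    subst hx
    have h1 : ⁅s, x⁆ = 1 := congrArg Subtype.val hs
    rw [commutatorElement_eq_one_iff_mul_comm] at h1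
    exact h1.symm
  · intro hs
    apply Subtype.ext
    show ⁅s, y⁆ = 1
    rw [commutatorElement_eq_one_iff_mul_comm]
    exact (hs y rfl).symm

/-- If all commutators with `y` are central, then `|S : C_S(y)|` divides `|Z(S)|`. -/
theorem index_centralizer_dvd_card_center (y : S) (h : ∀ s : S, ⁅s, y⁆ ∈ Subgroup.center S) :
    (Subgroup.centralizer ({y} : Set S)).index ∣ Nat.card (Subgroup.center S) := by
  rw [← commHom_ker y h, Subgroup.index_ker]
  exact Subgroup.card_dvd_of_le le_top |>.trans (by rw [Subgroup.card_top])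

end Cfsg.Agent.H67
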