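import Mathlib
import Cfsg.Prelude.Def_Transfer
import Cfsg.Agent.H67.PGroup

set_option autoImplicit false

namespace Cfsg.Agent.H67

open scoped commutatorElement

variable {S : Type*} [Group S]

/-- The centre of a subgroup `Q`, as a subgroup of the ambient group. -/
abbrev ZQ (Q : Subgroup S) : Subgroup S := (Subgroup.center ↥Q).map Q.subtype

theorem mem_ZQ_iff (Q : Subgroup S) (z : S) :
    z ∈ ZQ Q ↔ z ∈ Q ∧ ∀ q ∈ Q, q * z = z * q := by
  constructor
  · rintro ⟨w, hw, rfl⟩
    refine ⟨w.2, fun q hq => ?_⟩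
    have := Subgroup.mem_center_iff.1 hw ⟨q, hq⟩
    exact congrArg Subtype.val this
  · rintro ⟨hz, hc⟩
    refine ⟨⟨z, hz⟩, ?_, rfl⟩
    rw [SetLike.mem_coe, Subgroup.mem_center_iff]
    intro g
    exact Subtype.ext (hc g g.2)

theorem ZQ_le (Q : Subgroup S) : ZQ Q ≤ Q := fun _ hz => ((mem_ZQ_iff Q _).1 hz).1

theorem card_ZQ (Q : Subgroup S) : Nat.card (ZQ Q) = Nat.card (Subgroup.center ↥Q) :=
  Subgroup.card_map_of_injective Q.subtype_injective

theorem center_inf_le_ZQ (Q : Subgroup S) : Subgroup.center S ⊓ Q ≤ ZQ Q := by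
  intro z hz
  rw [mem_ZQ_iff]
  exact ⟨hz.2, fun q _ => Subgroup.mem_center_iff.1 hz.1 q⟩

section extraspecial

variable [Finite S] {p : ℕ} [Fact p.Prime]

theorem ZQ_le_center (hS : IsPGroup p S) (Q : Subgroup S) (hZ : Nat.card (Subgroup.center ↥Q) = p)
    (hQi : Q.index = p) : ZQ Q ≤ Subgroup.center S := by
  have : Q.Normal := normal_of_index_eq_prime hS Q hQi
  exact le_center_of_normal_of_card_eq_prime hS (ZQ Q) ((card_ZQ Q).trans hZ)

theorem center_inf_eq_ZQ (hS : IsPGroup p S) (Q : Subgroup S)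
    (hZ : Nat.card (Subgroup.center ↥Q) = p) (hQi : Q.index = p) :
    Subgroup.center S ⊓ Q = ZQ Q :=
  le_antisymm (center_inf_le_ZQ Q) (le_inf (ZQ_le_center hS Q hZ hQi) (ZQ_le Q))

/-- a subgroup of prime index is maximal: anything not inside it generates everything with it. -/
theorem sup_eq_top_of_index_eq_prime (Q K : Subgroup S) (hQi : Q.index = p) (hK : ¬ K ≤ Q) :
    Q ⊔ K = ⊤ := by
  have hp : p.Prime := Fact.out
  have h1 := Subgroup.relIndex_mul_index (le_sup_left : Q ≤ Q ⊔ K)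
  rw [hQi] at h1
  have h2 : (Q ⊔ K).index ∣ p := Dvd.intro_left _ h1
  rcases (Nat.dvd_prime hp).1 h2 with h | h
  · exact Subgroup.index_eq_one.1 h
  · exfalso
    rw [h] at h1
    have h3 : Q.relIndex (Q ⊔ K) = 1 := by
      have hp0 : 0 < p := hp.pos
      exact Nat.eq_of_mul_eq_mul_right hp0 (by rw [h1, one_mul])
    rw [Subgroup.relIndex_eq_one] at h3
    exact hK (le_sup_right.trans h3)

/-- S3808: the centre of a `p`-group with an extraspecial subgroup of index `p`. -/
theorem center_dichotomy (hS : IsPGroup p S) (Q : Subgroup S)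
    (hZ : Nat.card (Subgroup.center ↥Q) = p) (hQi : Q.index = p) :
    Subgroup.center S = ZQ Q ∨ (Q ⊔ Subgroup.center S = ⊤ ∧ Nat.card (Subgroup.center S) = p ^ 2) := by
  have : Q.Normal := normal_of_index_eq_prime hS Q hQi
  by_cases h : Subgroup.center S ≤ Q
  · left
    rw [← center_inf_eq_ZQ hS Q hZ hQi, inf_eq_left.2 h]
  · right
    have htop := sup_eq_top_of_index_eq_prime Q _ hQi h
    refine ⟨htop, ?_⟩
    have h1 := card_eq_card_inf_mul_relIndex (Subgroup.center S) Q
    rw [center_inf_eq_ZQ hS Q hZ hQi, card_ZQ, hZ] at h1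
    have h2 : Q.relIndex (Subgroup.center S) = p := by
      rw [← Subgroup.relIndex_sup_left (K := Q) (H := Subgroup.center S), htop,
        Subgroup.relIndex_top_right, hQi]
    rw [h1, h2, sq]

end extraspecial

end Cfsg.Agent.H67
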