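import Mathlib
import Cfsg.Agent.H67.Extraspecial

set_option autoImplicit false

namespace Cfsg.Agent.H67

open scoped commutatorElement

universe u

section commHomK

variable {S : Type*} [Group S]

/-- If all commutators `⁅s, y⁆` lie in a central subgroup `K`, `s ↦ ⁅s, y⁆` is a homomorphism
into `K`. -/
def commHomK (K : Subgroup S) (hK : K ≤ Subgroup.center S) (y : S) (h : ∀ s : S, ⁅s, y⁆ ∈ K) :
    S →* K where
  toFun s := ⟨⁅s, y⁆, h s⟩
  map_one' := by
    apply Subtype.ext
    simp
  map_mul' a b := by
    apply Subtype.ext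
    have hb := Subgroup.mem_center_iff.1 (hK (h b))
    show ⁅a * b, y⁆ = ⁅a, y⁆ * ⁅b, y⁆
    have e1 : ⁅a * b, y⁆ = a * ⁅b, y⁆ * a⁻¹ * ⁅a, y⁆ := by
      simp only [commutatorElement_def]; group
    rw [e1, hb a, mul_inv_cancel_right, hb ⁅a, y⁆]

theorem commHomK_apply (K : Subgroup S) (hK : K ≤ Subgroup.center S) (y : S)
    (h : ∀ s : S, ⁅s, y⁆ ∈ K) (s : S) : ((commHomK K hK y h s : K) : S) = ⁅s, y⁆ := rfl

theorem commHomK_ker (K : Subgroup S) (hK : K ≤ Subgroup.center S) (y : S)
    (h : ∀ s : S, ⁅s, y⁆ ∈ K) : (commHomK K hK y h).ker = Subgroup.centralizer {y} := by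
  ext s
  rw [MonoidHom.mem_ker, Subgroup.mem_centralizer_iff]
  constructor
  · intro hs x hx
    rw [Set.mem_singleton_iff] at hx
    subst hx
    have h1 : ⁅s, x⁆ = 1 := congrArg Subtype.val hs
    rw [commutatorElement_eq_one_iff_mul_comm] at h1
    exact h1.symm
  · intro hs
    apply Subtype.ext
    show ⁅s, y⁆ = 1
    rw [commutatorElement_eq_one_iff_mul_comm]
    exact (hs y rfl).symm

/-- If all commutators with `y` lie in a central subgroup `K`, then `|S : C_S(y)|` divides `|K|`. -/
theorem index_centralizer_dvd_card (K : Subgroup S) (hK : K ≤ Subgroup.center S) (y : S)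
    (h : ∀ s : S, ⁅s, y⁆ ∈ K) :
    (Subgroup.centralizer ({y} : Set S)).index ∣ Nat.card K := by
  rw [← commHomK_ker K hK y h, Subgroup.index_ker]
  exact Subgroup.card_dvd_of_le le_top |>.trans (by rw [Subgroup.card_top])

theorem centralizer_singleton_normal (K : Subgroup S) (hK : K ≤ Subgroup.center S) (y : S)
    (h : ∀ s : S, ⁅s, y⁆ ∈ K) : (Subgroup.centralizer ({y} : Set S)).Normal := by
  rw [← commHomK_ker K hK y h]
  exact MonoidHom.normal_ker _

/-- If all commutators with `y` lie in a central subgroup `K` of prime order, and `y` is not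
central, then `|S : C_S(y)| = p`. -/
theorem index_centralizer_eq_prime {p : ℕ} [Fact p.Prime] (K : Subgroup S)
    (hK : K ≤ Subgroup.center S) (hKp : Nat.card K = p) (y : S)
    (h : ∀ s : S, ⁅s, y⁆ ∈ K) (hy : y ∉ Subgroup.center S) :
    (Subgroup.centralizer ({y} : Set S)).index = p := by
  have hp : p.Prime := Fact.out
  have h1 := index_centralizer_dvd_card K hK y h
  rw [hKp] at h1
  rcases (Nat.dvd_prime hp).1 h1 with h2 | h2
  · exfalso
    apply hy
    rw [Subgroup.index_eq_one] at h2
    rw [Subgroup.mem_center_iff]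
    intro g
    have : g ∈ Subgroup.centralizer ({y} : Set S) := by rw [h2]; trivial
    exact (Subgroup.mem_centralizer_iff.1 this y rfl).symm
  · exact h2

/-- relative maximality of a subgroup of prime relative index. -/
theorem le_of_relIndex_eq_prime {p : ℕ} [Fact p.Prime] {H K D : Subgroup S} (hHK : H ≤ K)
    (hp : H.relIndex K = p) (hHD : H ≤ D) (d : S) (hdD : d ∈ D) (hdK : d ∈ K) (hdH : d ∉ H) :
    K ≤ D := by
  have hpp : p.Prime := Fact.out
  have h1 := Subgroup.relIndex_mul_relIndex H (D ⊓ K) K (le_inf hHD hHK) inf_le_right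
  rw [hp] at h1
  have h2 : (D ⊓ K).relIndex K ∣ p := Dvd.intro_left _ h1
  rcases (Nat.dvd_prime hpp).1 h2 with h | h
  · rw [Subgroup.relIndex_eq_one] at h
    exact h.trans inf_le_left
  · exfalso
    rw [h] at h1
    have h3 : H.relIndex (D ⊓ K) = 1 :=
      Nat.eq_of_mul_eq_mul_right hpp.pos (by rw [h1, one_mul])
    rw [Subgroup.relIndex_eq_one] at h3
    exact hdH (h3 ⟨hdD, hdK⟩)

end commHomK

/-- **Even rank**: if `Q' ≤ Z(Q)` and `|Q'| = p` then `|Q : Z(Q)| = p^(2m)` with `m ≥ 1`. -/
theorem index_center_eq_pow_two_mul_aux (p : ℕ) [Fact p.Prime] (n : ℕ) :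
    ∀ (Q : Type u) [Group Q] [Finite Q], Nat.card Q = n →
      commutator Q ≤ Subgroup.center Q → Nat.card (commutator Q) = p →
      ∃ m : ℕ, 1 ≤ m ∧ (Subgroup.center Q).index = p ^ (2 * m) := by
  have hp : p.Prime := Fact.out
  induction n using Nat.strong_induction_on with
  | _ n ih =>
    intro Q _ _ hn hcc hcp
    -- Q is not abelian
    have hne : ∃ x y : Q, x * y ≠ y * x := by
      by_contra hcon
      simp only [not_exists, not_not] at hcon
      have : commutator Q = ⊥ := by
        rw [commutator_def, Subgroup.commutator_eq_bot_iff_le_centralizer]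
        intro a _
        rw [Subgroup.mem_centralizer_iff]
        intro b _
        exact hcon b a
      rw [this, Subgroup.card_bot] at hcp
      exact hp.one_lt.ne hcp
    obtain ⟨x, y, hxy⟩ := hne
    have hcomm : ∀ s t : Q, ⁅s, t⁆ ∈ commutator Q := by
      intro s t
      rw [commutator_def]
      exact Subgroup.commutator_mem_commutator (Subgroup.mem_top s) (Subgroup.mem_top t)
    have hxc : x ∉ Subgroup.center Q := by
      intro h
      exact hxy ((Subgroup.mem_center_iff.1 h y).symm)
    have hyc : y ∉ Subgroup.center Q := by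
      intro h
      exact hxy (Subgroup.mem_center_iff.1 h x)
    set Cx := Subgroup.centralizer ({x} : Set Q) with hCx
    set Cy := Subgroup.centralizer ({y} : Set Q) with hCy
    have hCxi : Cx.index = p :=
      index_centralizer_eq_prime (commutator Q) hcc hcp x (fun s => hcomm s x) hxc
    have hCyi : Cy.index = p :=
      index_centralizer_eq_prime (commutator Q) hcc hcp y (fun s => hcomm s y) hyc
    have hCyn : Cy.Normal := centralizer_singleton_normal (commutator Q) hcc y (fun s => hcomm s y)
    have hxCx : x ∈ Cx := by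
      rw [hCx, Subgroup.mem_centralizer_iff]
      intro h hh
      rw [Set.mem_singleton_iff.1 hh]
    have hyCy : y ∈ Cy := by
      rw [hCy, Subgroup.mem_centralizer_iff]
      intro h hh
      rw [Set.mem_singleton_iff.1 hh]
    have hxCy : x ∉ Cy := by
      intro h
      exact hxy (Subgroup.mem_centralizer_iff.1 h y rfl).symm
    have hyCx : y ∉ Cx := by
      intro h
      exact hxy (Subgroup.mem_centralizer_iff.1 h x rfl)
    set C := Cy ⊓ Cx with hC
    have hsup : Cy ⊔ Cx = ⊤ :=
      sup_eq_top_of_index_eq_prime Cy Cx hCyi (fun h => hxCy (h hxCx))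
    have hrel : Cy.relIndex Cx = p := by
      rw [← Subgroup.relIndex_sup_left (K := Cy) (H := Cx), hsup, Subgroup.relIndex_top_right, hCyi]
    have hCrel : C.relIndex Cx = p := by
      rw [hC, Subgroup.inf_relIndex_right, hrel]
    have hCi : C.index = p * p := by
      have := Subgroup.relIndex_mul_index (inf_le_right : C ≤ Cx)
      rw [hCrel, hCxi] at this
      exact this.symm
    -- centre of C is centre of Q
    have hZ : ZQ C = Subgroup.center Q := by
      apply le_antisymm
      · intro z hz
        rw [mem_ZQ_iff] at hz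
        obtain ⟨hzC, hzc⟩ := hz
        -- D = centralizer of z
        have hCD : C ≤ Subgroup.centralizer ({z} : Set Q) := by
          intro c hc
          rw [Subgroup.mem_centralizer_iff]
          intro w hw
          rw [Set.mem_singleton_iff.1 hw]
          exact (hzc c hc).symm
        have hxD : x ∈ Subgroup.centralizer ({z} : Set Q) := by
          rw [Subgroup.mem_centralizer_iff]
          intro w hw
          rw [Set.mem_singleton_iff.1 hw]
          exact (Subgroup.mem_centralizer_iff.1 hzC.2 x rfl).symm
        have hyD : y ∈ Subgroup.centralizer ({z} : Set Q) := by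
          rw [Subgroup.mem_centralizer_iff]
          intro w hw
          rw [Set.mem_singleton_iff.1 hw]
          exact (Subgroup.mem_centralizer_iff.1 hzC.1 y rfl).symm
        have h1 : Cx ≤ Subgroup.centralizer ({z} : Set Q) :=
          le_of_relIndex_eq_prime (inf_le_right : C ≤ Cx) hCrel hCD x hxD hxCx
            (fun h => hxCy h.1)
        have h2 : (⊤ : Subgroup Q) ≤ Subgroup.centralizer ({z} : Set Q) :=
          le_of_relIndex_eq_prime (le_top : Cx ≤ ⊤) (by rw [Subgroup.relIndex_top_right, hCxi])
            h1 y hyD (Subgroup.mem_top y) hyCx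
        rw [Subgroup.mem_center_iff]
        intro g
        exact (Subgroup.mem_centralizer_iff.1 (h2 (Subgroup.mem_top g)) z rfl).symm
      · intro z hz
        rw [mem_ZQ_iff]
        have hzc := Subgroup.mem_center_iff.1 hz
        refine ⟨⟨?_, ?_⟩, fun q _ => hzc q⟩
        · show z ∈ Subgroup.centralizer ({y} : Set Q)
          rw [Subgroup.mem_centralizer_iff]
          intro w hw
          exact hzc w
        · show z ∈ Subgroup.centralizer ({x} : Set Q)
          rw [Subgroup.mem_centralizer_iff]
          intro w hw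
          exact hzc w
    have hidx : (Subgroup.center Q).index = p * p * (Subgroup.center ↥C).index := by
      have h1 := Subgroup.relIndex_mul_index (ZQ_le C)
      rw [hZ, hCi] at h1
      have h2 : (Subgroup.center Q).relIndex C = (Subgroup.center ↥C).index := by
        rw [← hZ]
        unfold Subgroup.relIndex
        congr 1
        ext w
        rw [Subgroup.mem_subgroupOf, mem_ZQ_iff, Subgroup.mem_center_iff]
        constructor
        · rintro ⟨-, hw⟩ g
          exact Subtype.ext (hw g g.2)
        · intro hw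
          exact ⟨w.2, fun q hq => congrArg Subtype.val (hw ⟨q, hq⟩)⟩
      rw [h2] at h1
      rw [← h1]; ring
    -- commutator of C
    have hcC : commutator ↥C ≤ Subgroup.center ↥C := by
      rw [commutator_def, Subgroup.commutator_le]
      intro a _ b _
      rw [Subgroup.mem_center_iff]
      intro g
      have h1 : ⁅(a : Q), (b : Q)⁆ ∈ Subgroup.center Q := hcc (hcomm a b)
      have h2 := Subgroup.mem_center_iff.1 h1 (g : Q)
      exact Subtype.ext h2
    have hcCle : (commutator ↥C).map C.subtype ≤ commutator Q := by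
      rw [commutator_def, commutator_def, Subgroup.map_commutator]
      exact Subgroup.commutator_mono le_top le_top
    have hcCcard : Nat.card (commutator ↥C) ∣ p := by
      rw [← hcp, ← Subgroup.card_map_of_injective C.subtype_injective]
      exact Subgroup.card_dvd_of_le hcCle
    rcases (Nat.dvd_prime hp).1 hcCcard with h1 | h1
    · -- C abelian
      refine ⟨1, le_rfl, ?_⟩
      have h2 : commutator ↥C = ⊥ := Subgroup.card_eq_one.1 h1
      rw [commutator_eq_bot_iff_center_eq_top] at h2
      rw [hidx, h2, Subgroup.index_top]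
      ring
    · have hcardC : Nat.card C < n := by
        rw [← hn]
        have h2 := Subgroup.card_mul_index C
        rw [hCi] at h2
        have h3 : 0 < Nat.card C := Nat.card_pos
        have h4 : 2 ≤ p := hp.two_le
        have h5 : 4 ≤ p * p := by nlinarith
        have h6 : Nat.card C * 4 ≤ Nat.card C * (p * p) := Nat.mul_le_mul_left _ h5
        omega
      obtain ⟨m, hm, hmi⟩ := ih _ hcardC ↥C rfl hcC h1
      refine ⟨m + 1, by omega, ?_⟩
      rw [hidx, hmi]
      ring

theorem index_center_eq_pow_two_mul (p : ℕ) [Fact p.Prime] (Q : Type u) [Group Q] [Finite Q]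
    (hcc : commutator Q ≤ Subgroup.center Q) (hcp : Nat.card (commutator Q) = p) :
    ∃ m : ℕ, 1 ≤ m ∧ (Subgroup.center Q).index = p ^ (2 * m) :=
  index_center_eq_pow_two_mul_aux p _ Q rfl hcc hcp

/-- An extraspecial `p`-group has order `p^(1+2m)` with `m ≥ 1`. -/
theorem card_of_isExtraspecial (p : ℕ) [Fact p.Prime] (Q : Type u) [Group Q] [Finite Q]
    (hQ : Cfsg.IsExtraspecial p Q) : ∃ m : ℕ, 1 ≤ m ∧ Nat.card Q = p ^ (1 + 2 * m) := by
  obtain ⟨m, hm, hmi⟩ := index_center_eq_pow_two_mul p Q (hQ.1.2.2.le) (by rw [hQ.1.2.2]; exact hQ.2)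
  refine ⟨m, hm, ?_⟩
  rw [← Subgroup.card_mul_index (Subgroup.center Q), hQ.2, hmi]
  ring

end Cfsg.Agent.H67
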