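import Mathlib
import Cfsg.Agent.H67.EvenRank

set_option autoImplicit false

namespace Cfsg.Agent.H67

open scoped commutatorElement

variable {S : Type*} [Group S]

theorem mul_comm_of_isMulCommutative {A : Subgroup S} (hA : IsMulCommutative ↥A) {a b : S}
    (ha : a ∈ A) (hb : b ∈ A) : a * b = b * a := by
  have := hA.is_comm.comm ⟨a, ha⟩ ⟨b, hb⟩
  exact congrArg Subtype.val this

/-- a central subgroup together with one more element generates an abelian subgroup. -/
theorem sup_zpowers_le_centralizer_self (Z : Subgroup S) (hZ : Z ≤ Subgroup.center S) (x : S) :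
    Z ⊔ Subgroup.zpowers x ≤ Subgroup.centralizer ((Z ⊔ Subgroup.zpowers x : Subgroup S) : Set S) := by
  refine sup_le (hZ.trans (Subgroup.center_le_centralizer _)) ?_
  rw [Subgroup.le_centralizer_iff]
  refine sup_le (hZ.trans (Subgroup.center_le_centralizer _)) ?_
  exact Subgroup.le_centralizer (Subgroup.zpowers x)

theorem isMulCommutative_sup_zpowers (Z : Subgroup S) (hZ : Z ≤ Subgroup.center S) (x : S) :
    IsMulCommutative ↥(Z ⊔ Subgroup.zpowers x) :=
  Subgroup.le_centralizer_iff_isMulCommutative.1 (sup_zpowers_le_centralizer_self Z hZ x)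

theorem card_lt_card_of_lt [Finite S] {H K : Subgroup S} (h : H < K) : Nat.card H < Nat.card K := by
  by_contra hle
  exact h.ne (Subgroup.eq_of_le_of_card_ge h.le (not_lt.1 hle))

/-- if the centre has index dividing a prime, the group is abelian. -/
theorem isMulCommutative_of_index_center_dvd_prime [Finite S] {p : ℕ} [Fact p.Prime]
    (h : (Subgroup.center S).index ∣ p) : IsMulCommutative S := by
  have hp : p.Prime := Fact.out
  rcases (Nat.dvd_prime hp).1 h with h1 | h1
  · rw [Subgroup.index_eq_card] at h1
    have : Subsingleton (S ⧸ Subgroup.center S) := (Nat.card_eq_one_iff_unique.1 h1).1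
    have := isCyclic_of_subsingleton (α := S ⧸ Subgroup.center S)
    exact isMulCommutative_of_isCyclic_quotient_center_self S
  · rw [Subgroup.index_eq_card] at h1
    have := isCyclic_of_prime_card h1
    exact isMulCommutative_of_isCyclic_quotient_center_self S

/-- a subgroup `C` with a "central in `C`" subgroup `M` of relative index dividing `p` is
abelian. -/
theorem isMulCommutative_of_central_relIndex_dvd_prime [Finite S] {p : ℕ} [Fact p.Prime]
    {M C : Subgroup S} (hMC : M ≤ C) (hcen : C ≤ Subgroup.centralizer (M : Set S))
    (h : M.relIndex C ∣ p) : IsMulCommutative ↥C := by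
  apply isMulCommutative_of_index_center_dvd_prime (p := p)
  have hle : M.subgroupOf C ≤ Subgroup.center ↥C := by
    intro m hm
    rw [Subgroup.mem_subgroupOf] at hm
    rw [Subgroup.mem_center_iff]
    intro g
    have := Subgroup.mem_centralizer_iff.1 (hcen g.2) (m : S) hm
    exact Subtype.ext this.symm
  exact (Subgroup.index_dvd_of_le hle).trans h

/-- An extraspecial group is not abelian. -/
theorem exists_not_comm_of_card_commutator_eq_prime {Q : Type*} [Group Q] {p : ℕ} [Fact p.Prime]
    (hcp : Nat.card (commutator Q) = p) : ∃ x y : Q, x * y ≠ y * x := by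
  have hp : p.Prime := Fact.out
  by_contra hcon
  simp only [not_exists, not_not] at hcon
  have : commutator Q = ⊥ := by
    rw [commutator_def, Subgroup.commutator_eq_bot_iff_le_centralizer]
    intro a _
    rw [Subgroup.mem_centralizer_iff]
    intro b _
    exact hcon b a
  rw [this, Subgroup.card_bot] at hcp
  exact hp.one_lt.ne hcp

end Cfsg.Agent.H67
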