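import Mathlib
import Cfsg.Agent.H67.Abelian

set_option autoImplicit false

namespace Cfsg.Agent.H67

open scoped commutatorElement

variable {S : Type*} [Group S]

/-- an abelian subgroup together with an element centralizing it generates an abelian subgroup. -/
theorem sup_zpowers_le_centralizer_self' (A : Subgroup S) (hA : A ≤ Subgroup.centralizer (A : Set S))
    (x : S) (hx : x ∈ Subgroup.centralizer (A : Set S)) :
    A ⊔ Subgroup.zpowers x ≤ Subgroup.centralizer ((A ⊔ Subgroup.zpowers x : Subgroup S) : Set S) := by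
  have hxA : Subgroup.zpowers x ≤ Subgroup.centralizer (A : Set S) := by
    rw [Subgroup.zpowers_le]; exact hx
  refine sup_le ?_ ?_
  · rw [Subgroup.le_centralizer_iff]
    exact sup_le hA hxA
  · rw [Subgroup.le_centralizer_iff]
    refine sup_le ?_ (Subgroup.le_centralizer (Subgroup.zpowers x))
    rw [Subgroup.le_centralizer_iff]
    exact hxA

theorem isMulCommutative_of_sup_zpowers_eq_top (A : Subgroup S) (hA : IsMulCommutative ↥A)
    (x : S) (hx : ∀ a ∈ A, a * x = x * a) (h : A ⊔ Subgroup.zpowers x = ⊤) :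
    IsMulCommutative S := by
  have h1 := sup_zpowers_le_centralizer_self' A (Subgroup.le_centralizer A) x
    (by rw [Subgroup.mem_centralizer_iff]; exact hx)
  rw [h] at h1
  refine ⟨⟨fun a b => ?_⟩⟩
  have ha : a ∈ Subgroup.centralizer (((⊤ : Subgroup S) : Set S)) := h1 (Subgroup.mem_top a)
  exact (Subgroup.mem_centralizer_iff.1 ha b (Subgroup.mem_top b)).symm

theorem mem_normalizer_of_forall_conj_mem [Finite S] (R : Subgroup S) (g : S)
    (h : ∀ r ∈ R, g * r * g⁻¹ ∈ R) : g ∈ Subgroup.normalizer (R : Set S) := by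
  rw [mem_normalizer_iff_map_conj]
  apply Subgroup.eq_of_le_of_card_ge
  · rintro _ ⟨r, hr, rfl⟩
    exact h r hr
  · rw [card_map_conj]

section

variable [Finite S] {p : ℕ} [Fact p.Prime]

theorem ne_top_of_index_eq_prime (A : Subgroup S) (hAi : A.index = p) : A ≠ ⊤ := by
  have hp : p.Prime := Fact.out
  intro h
  rw [h, Subgroup.index_top] at hAi
  exact hp.one_lt.ne hAi

theorem exists_not_mem_of_index_eq_prime (A : Subgroup S) (hAi : A.index = p) : ∃ x : S, x ∉ A := by
  by_contra hcon
  simp only [not_exists, not_not] at hcon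
  exact ne_top_of_index_eq_prime A hAi (eq_top_iff.2 (fun x _ => hcon x))

/-- In a non-abelian group, an abelian subgroup of prime index contains the centre. -/
theorem center_le_of_abelian_index_prime (hna : ¬ IsMulCommutative S) (A : Subgroup S)
    (hA : IsMulCommutative ↥A) (hAi : A.index = p) : Subgroup.center S ≤ A := by
  by_contra hle
  obtain ⟨z, hz, hzA⟩ := SetLike.not_le_iff_exists.1 hle
  apply hna
  have hsup : A ⊔ Subgroup.zpowers z = ⊤ :=
    sup_eq_top_of_index_eq_prime A _ hAi (fun h => hzA (h (Subgroup.mem_zpowers z)))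
  exact isMulCommutative_of_sup_zpowers_eq_top A hA z
    (fun a _ => Subgroup.mem_center_iff.1 hz a) hsup

/-- an element of an abelian subgroup `A` of prime index commuting with some `x ∉ A` is central. -/
theorem mem_center_of_comm_of_not_mem (A : Subgroup S) (hA : IsMulCommutative ↥A) (hAi : A.index = p)
    (x : S) (hx : x ∉ A) (a : S) (ha : a ∈ A) (hax : a * x = x * a) : a ∈ Subgroup.center S := by
  have h1 : A ≤ Subgroup.centralizer ({a} : Set S) := by
    intro b hb
    rw [Subgroup.mem_centralizer_iff]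
    intro w hw
    rw [Set.mem_singleton_iff.1 hw]
    exact mul_comm_of_isMulCommutative hA ha hb
  have h2 : x ∈ Subgroup.centralizer ({a} : Set S) := by
    rw [Subgroup.mem_centralizer_iff]
    intro w hw
    rw [Set.mem_singleton_iff.1 hw]
    exact hax
  have h3 := sup_eq_top_of_index_eq_prime A (Subgroup.centralizer ({a} : Set S)) hAi
    (fun h => hx (h h2))
  rw [sup_eq_right.2 h1] at h3
  rw [Subgroup.mem_center_iff]
  intro g
  have : g ∈ Subgroup.centralizer ({a} : Set S) := by rw [h3]; trivial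
  exact (Subgroup.mem_centralizer_iff.1 this a rfl).symm

/-- `[S : Z(S)] = p |S'|` for a non-abelian `p`-group with an abelian subgroup of index `p`. -/
theorem index_center_eq_of_abelian_index_prime (hS : IsPGroup p S) (hna : ¬ IsMulCommutative S)
    (A : Subgroup S) (hA : IsMulCommutative ↥A) (hAi : A.index = p) :
    (Subgroup.center S).index = p * Nat.card (commutator S) := by
  have hAn : A.Normal := normal_of_index_eq_prime hS A hAi
  obtain ⟨x, hx⟩ := exists_not_mem_of_index_eq_prime A hAi
  have hsup : A ⊔ Subgroup.zpowers x = ⊤ :=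
    sup_eq_top_of_index_eq_prime A _ hAi (fun h => hx (h (Subgroup.mem_zpowers x)))
  have hZA : Subgroup.center S ≤ A := center_le_of_abelian_index_prime hna A hA hAi
  have hcA : ∀ a ∈ A, ⁅a, x⁆ ∈ A := by
    intro a ha
    have h1 : ⁅a, x⁆ = a * (x * a⁻¹ * x⁻¹) := by
      rw [commutatorElement_def]; group
    rw [h1]
    exact A.mul_mem ha (hAn.conj_mem a⁻¹ (A.inv_mem ha) x)
  let φ : ↥A →* ↥A :=
    { toFun := fun a => ⟨⁅(a : S), x⁆, hcA a a.2⟩
      map_one' := by
        apply Subtype.ext
        simp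
      map_mul' := by
        intro a b
        apply Subtype.ext
        show ⁅(a : S) * b, x⁆ = ⁅(a : S), x⁆ * ⁅(b : S), x⁆
        have e1 : ⁅(a : S) * b, x⁆ = a * ⁅(b : S), x⁆ * (a : S)⁻¹ * ⁅(a : S), x⁆ := by
          simp only [commutatorElement_def]; group
        have e2 : (a : S) * ⁅(b : S), x⁆ = ⁅(b : S), x⁆ * a :=
          mul_comm_of_isMulCommutative hA a.2 (hcA b b.2)
        have e3 : ⁅(b : S), x⁆ * ⁅(a : S), x⁆ = ⁅(a : S), x⁆ * ⁅(b : S), x⁆ :=
          mul_comm_of_isMulCommutative hA (hcA b b.2) (hcA a a.2)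
        rw [e1, e2, mul_inv_cancel_right, e3] }
  have hφ : ∀ a : ↥A, ((φ a : ↥A) : S) = ⁅(a : S), x⁆ := fun a => rfl
  have hker : φ.ker = (Subgroup.center S).subgroupOf A := by
    ext a
    rw [MonoidHom.mem_ker, Subgroup.mem_subgroupOf]
    constructor
    · intro h
      have h1 : ⁅(a : S), x⁆ = 1 := by rw [← hφ, h]; rfl
      rw [commutatorElement_eq_one_iff_mul_comm] at h1
      exact mem_center_of_comm_of_not_mem A hA hAi x hx a a.2 h1
    · intro h
      apply Subtype.ext
      rw [hφ]
      show ⁅(a : S), x⁆ = 1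
      rw [commutatorElement_eq_one_iff_mul_comm]
      exact (Subgroup.mem_center_iff.1 h x).symm
  set R := φ.range.map A.subtype with hR
  have hRmem : ∀ r : S, r ∈ R ↔ ∃ a ∈ A, r = ⁅a, x⁆ := by
    intro r
    constructor
    · rintro ⟨_, ⟨a, rfl⟩, rfl⟩
      exact ⟨a, a.2, rfl⟩
    · rintro ⟨a, ha, rfl⟩
      exact ⟨φ ⟨a, ha⟩, ⟨⟨a, ha⟩, rfl⟩, rfl⟩
  have hRA : R ≤ A := by
    intro r hr
    obtain ⟨a, ha, rfl⟩ := (hRmem r).1 hr
    exact hcA a ha
  have hRcomm : R ≤ commutator S := by
    intro r hr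
    obtain ⟨a, ha, rfl⟩ := (hRmem r).1 hr
    rw [commutator_def]
    exact Subgroup.commutator_mem_commutator (Subgroup.mem_top _) (Subgroup.mem_top _)
  have hxN : x ∈ Subgroup.normalizer (R : Set S) := by
    apply mem_normalizer_of_forall_conj_mem
    intro r hr
    obtain ⟨a, ha, rfl⟩ := (hRmem r).1 hr
    rw [hRmem]
    refine ⟨x * a * x⁻¹, hAn.conj_mem a ha x, ?_⟩
    simp only [commutatorElement_def]; group
  have hAN : A ≤ Subgroup.normalizer (R : Set S) := by
    intro b hb
    apply mem_normalizer_of_forall_conj_mem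
    intro r hr
    have : b * r * b⁻¹ = r := by
      rw [mul_comm_of_isMulCommutative hA hb (hRA hr), mul_inv_cancel_right]
    rw [this]; exact hr
  have hRn : R.Normal := by
    rw [← Subgroup.normalizer_eq_top_iff, eq_top_iff, ← hsup]
    exact sup_le hAN (by rw [Subgroup.zpowers_le]; exact hxN)
  have hcomm : commutator S ≤ R := by
    rw [← Subgroup.Normal.quotient_commutative_iff_commutator_le]
    let π := QuotientGroup.mk' R
    have hπ : Function.Surjective π := QuotientGroup.mk'_surjective R
    have hA' : IsMulCommutative ↥(A.map π) := by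
      refine ⟨⟨?_⟩⟩
      rintro ⟨_, ⟨a, ha, rfl⟩⟩ ⟨_, ⟨b, hb, rfl⟩⟩
      apply Subtype.ext
      show π a * π b = π b * π a
      rw [← map_mul, ← map_mul, mul_comm_of_isMulCommutative hA ha hb]
    apply isMulCommutative_of_sup_zpowers_eq_top (A.map π) hA' (π x)
    · rintro _ ⟨a, ha, rfl⟩
      have h1 : ⁅a, x⁆ ∈ R := (hRmem _).2 ⟨a, ha, rfl⟩
      have h2 : π ⁅a, x⁆ = 1 := (QuotientGroup.eq_one_iff _).2 h1
      rw [map_commutatorElement, commutatorElement_eq_one_iff_mul_comm] at h2
      exact h2
    · rw [← MonoidHom.map_zpowers, ← Subgroup.map_sup, hsup, Subgroup.map_top_of_surjective π hπ]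
  have hReq : R = commutator S := le_antisymm hRcomm hcomm
  have h1 : φ.ker.index = Nat.card (commutator S) := by
    rw [Subgroup.index_ker, ← hReq, hR, Subgroup.card_map_of_injective A.subtype_injective]
  have h2 : (Subgroup.center S).relIndex A = Nat.card (commutator S) := by
    rw [← h1, hker]; rfl
  have h3 := Subgroup.relIndex_mul_index hZA
  rw [← h3, h2, hAi, mul_comm]

/-- two distinct abelian subgroups of index `p` force `[S : Z(S)] ≤ p²`. -/
theorem index_center_le_of_two_abelian
    (A B : Subgroup S) (hA : IsMulCommutative ↥A) (hAi : A.index = p)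
    (hB : IsMulCommutative ↥B) (hBi : B.index = p) (hne : B ≠ A) :
    (Subgroup.center S).index ≤ p * p := by
  have hBA : ¬ B ≤ A := by
    intro h
    apply hne
    apply Subgroup.eq_of_le_of_card_ge h
    have h1 := Subgroup.card_mul_index A
    have h2 := Subgroup.card_mul_index B
    rw [hAi] at h1
    rw [hBi, ← h1] at h2
    exact (Nat.eq_of_mul_eq_mul_right (Fact.out : p.Prime).pos h2).ge
  obtain ⟨b, hb, hbA⟩ := SetLike.not_le_iff_exists.1 hBA
  have hle : A ⊓ B ≤ Subgroup.center S := by
    intro z hz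
    exact mem_center_of_comm_of_not_mem A hA hAi b hbA z hz.1
      (mul_comm_of_isMulCommutative hB hz.2 hb)
  have h1 : (Subgroup.center S).index ∣ (A ⊓ B).index := Subgroup.index_dvd_of_le hle
  have h2 : (A ⊓ B).index ≤ A.index * B.index := Subgroup.index_inf_le
  have h4 : (A ⊓ B).index ≠ 0 := Subgroup.index_ne_zero_of_finite
  have h5 := Nat.le_of_dvd (Nat.pos_of_ne_zero h4) h1
  rw [hAi, hBi] at h2
  exact h5.trans h2

end

end Cfsg.Agent.H67
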