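import Mathlib
import Cfsg.Prelude.Def_Transfer
import Cfsg.Prelude.Def_TwoFusion
import Cfsg.Agent.H67.PNilp
import Cfsg.Agent.H67.AbelianIndexP

set_option autoImplicit false

namespace Cfsg.Agent.H67

universe u

section
variable {G : Type u} [Group G]

theorem IsStronglyClosed.conj_mem {D S : Subgroup G} (hD : Cfsg.IsStronglyClosed D S) {x s : G}
    (hx : x ∈ D) (hs : s ∈ S) : s * x * s⁻¹ ∈ D :=
  hD.2 x hx s (mul_mem (mul_mem hs (hD.1 hx)) (inv_mem hs))

/-- The image of a subgroup of a strongly closed subgroup under conjugation, if it lands in `S`,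
lands in `D`. -/
theorem IsStronglyClosed.map_conj_le {D S : Subgroup G} (hD : Cfsg.IsStronglyClosed D S)
    {R : Subgroup G} (hR : R ≤ D) (h : G) (hRS : R.map (MulAut.conj h).toMonoidHom ≤ S) :
    R.map (MulAut.conj h).toMonoidHom ≤ D := by
  rintro _ ⟨r, hr, rfl⟩
  exact hD.2 r (hR hr) h (hRS ⟨r, hr, rfl⟩)

variable [Finite G] {p : ℕ} [Fact p.Prime]

/-- Every `p`-subgroup has a conjugate inside `S` which is fully normalised. -/
theorem exists_conj_fully_normalized (S : Sylow p G) (Q : Subgroup G) (hQ : IsPGroup p Q) :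
    ∃ h : G, Q.map (MulAut.conj h).toMonoidHom ≤ S ∧
      ¬ p ∣ (S : Subgroup G).relIndex
        (Subgroup.normalizer ((Q.map (MulAut.conj h).toMonoidHom : Subgroup G) : Set G)) := by
  set M := Subgroup.normalizer (Q : Set G) with hM
  have hQ₁ : IsPGroup p (Q.subgroupOf M) := hQ.comap_subtype
  obtain ⟨T₀, hT₀⟩ := hQ₁.exists_le_sylow
  set T₁ : Subgroup G := (T₀ : Subgroup M).map M.subtype with hT₁
  have hT₁p : IsPGroup p T₁ := T₀.isPGroup'.map _
  obtain ⟨S', hS'⟩ := hT₁p.exists_le_sylow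
  obtain ⟨h, hh⟩ := MulAction.exists_smul_eq G S' S
  have hSS' : (S : Subgroup G) = (S' : Subgroup G).map (MulAut.conj h).toMonoidHom := by
    rw [← hh, Sylow.coe_subgroup_smul, map_conj_eq_smul]
  have hQT : Q ≤ T₁ := by
    intro x hx
    exact ⟨⟨x, Subgroup.le_normalizer hx⟩, hT₀ (Subgroup.mem_subgroupOf.mpr hx), rfl⟩
  have hTS : T₁.map (MulAut.conj h).toMonoidHom ≤ S := by
    rw [hSS']; exact Subgroup.map_mono hS'
  refine ⟨h, (Subgroup.map_mono hQT).trans hTS, ?_⟩
  have hnorm : Subgroup.normalizer ((Q.map (MulAut.conj h).toMonoidHom : Subgroup G) : Set G) =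
      M.map (MulAut.conj h).toMonoidHom := (Subgroup.map_equiv_normalizer_eq Q (MulAut.conj h)).symm
  rw [hnorm]
  intro hdvd
  have h1 := Subgroup.relIndex_dvd_of_le_left (M.map (MulAut.conj h).toMonoidHom) hTS
  have h2 : (T₁.map (MulAut.conj h).toMonoidHom).relIndex (M.map (MulAut.conj h).toMonoidHom) =
      T₁.relIndex M := Subgroup.relIndex_map_map_of_injective T₁ M (MulAut.conj h).injective
  have h3 : T₁.relIndex M = (T₀ : Subgroup M).index := by
    have h4 : T₁.subgroupOf M = (T₀ : Subgroup M) :=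
      Subgroup.comap_map_eq_self_of_injective Subtype.val_injective _
    rw [Subgroup.relIndex, h4]
  rw [h2, h3] at h1
  exact T₀.not_dvd_index (hdvd.trans h1)

/-- Normal `p`-complements of normalisers are invariant under conjugation. -/
theorem hnpc_normalizer_of_conj (Q : Subgroup G) (h : G)
    (hh : Cfsg.HasNormalPComplement p
      ↥(Subgroup.normalizer ((Q.map (MulAut.conj h).toMonoidHom : Subgroup G) : Set G))) :
    Cfsg.HasNormalPComplement p ↥(Subgroup.normalizer (Q : Set G)) := by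
  have hmem : ∀ x : ↥(Subgroup.normalizer (Q : Set G)),
      ((MulAut.conj h).toMonoidHom.comp (Subgroup.normalizer (Q : Set G)).subtype) x ∈
        Subgroup.normalizer ((Q.map (MulAut.conj h).toMonoidHom : Subgroup G) : Set G) := by
    intro x
    rw [← Subgroup.map_equiv_normalizer_eq Q (MulAut.conj h)]
    exact Subgroup.mem_map_of_mem _ x.2
  refine hnpc_of_injective (((MulAut.conj h).toMonoidHom.comp
    (Subgroup.normalizer (Q : Set G)).subtype).codRestrict _ hmem) ?_ hh
  intro x y hxy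
  have h1 := congrArg Subtype.val hxy
  apply Subtype.ext
  exact (MulAut.conj h).injective h1

/-- The induction step for a proper subgroup `M` in which `S ⊓ M` is a Sylow subgroup. -/
theorem hnpc_subgroup_of_ih
    (ih : ∀ (H : Type u) [Group H] [Finite H], Nat.card H < Nat.card G →
      ∀ (S : Sylow p H) (D : Subgroup H), Cfsg.IsStronglyClosed D (S : Subgroup H) →
      (∀ U : Subgroup H, U ≤ D → D ⊓ Subgroup.centralizer (U : Set H) ≤ U →
        Cfsg.HasNormalPComplement p ↥(Subgroup.normalizer (U : Set H))) →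
      Cfsg.HasNormalPComplement p H)
    (S : Sylow p G) (D : Subgroup G) (hD : Cfsg.IsStronglyClosed D (S : Subgroup G))
    (M : Subgroup G) (hM : M ≠ ⊤) (hSyl : ¬ p ∣ (S : Subgroup G).relIndex M)
    (hyp : ∀ U : Subgroup G, U ≤ D ⊓ M → (D ⊓ M) ⊓ Subgroup.centralizer (U : Set G) ≤ U →
      Cfsg.HasNormalPComplement p ↥(Subgroup.normalizer (U : Set G) ⊓ M)) :
    Cfsg.HasNormalPComplement p ↥M := by
  have hcard : Nat.card M < Nat.card G := by
    have h1 : M < ⊤ := lt_top_iff_ne_top.mpr hM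
    have := card_lt_card_of_lt h1
    rwa [Subgroup.card_top] at this
  set T : Sylow p M := IsPGroup.toSylow (P := (S : Subgroup G).subgroupOf M)
    (S.isPGroup'.comap_subtype) hSyl with hT
  have hTcoe : (T : Subgroup M) = (S : Subgroup G).subgroupOf M := rfl
  apply ih ↥M hcard T (D.subgroupOf M)
  · refine ⟨?_, ?_⟩
    · intro x hx
      rw [hTcoe, Subgroup.mem_subgroupOf]
      exact hD.1 (Subgroup.mem_subgroupOf.mp hx)
    · intro x hx m hm
      rw [hTcoe, Subgroup.mem_subgroupOf] at hm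
      rw [Subgroup.mem_subgroupOf]
      exact hD.2 x (Subgroup.mem_subgroupOf.mp hx) m hm
  · intro U' hU'D hU'c
    set U : Subgroup G := U'.map M.subtype with hU
    have hUM : U ≤ M := Subgroup.map_subtype_le U'
    have hmemU : ∀ (y : G) (hy : y ∈ M), y ∈ U ↔ (⟨y, hy⟩ : M) ∈ U' := by
      intro y hy
      constructor
      · rintro ⟨z, hz, rfl⟩
        exact hz
      · intro h
        exact ⟨_, h, rfl⟩
    have hU1 : U ≤ D ⊓ M := by
      intro y hy
      have hyM := hUM hy
      exact ⟨Subgroup.mem_subgroupOf.mp (hU'D ((hmemU y hyM).mp hy)), hyM⟩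
    have hU2 : (D ⊓ M) ⊓ Subgroup.centralizer (U : Set G) ≤ U := by
      intro x hx
      have hxD : x ∈ D := hx.1.1
      have hxM : x ∈ M := hx.1.2
      have hxC : x ∈ Subgroup.centralizer (U : Set G) := hx.2
      rw [hmemU x hxM]
      apply hU'c
      refine ⟨Subgroup.mem_subgroupOf.mpr hxD, ?_⟩
      show (⟨x, hxM⟩ : M) ∈ Subgroup.centralizer (U' : Set M)
      rw [Subgroup.mem_centralizer_iff]
      intro u hu
      apply Subtype.ext
      exact Subgroup.mem_centralizer_iff.mp hxC u ⟨u, hu, rfl⟩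
    have h1 := hyp U hU1 hU2
    have hmem : ∀ y : ↥(Subgroup.normalizer (U' : Set M)),
        (M.subtype.comp (Subgroup.normalizer (U' : Set M)).subtype) y ∈
          Subgroup.normalizer (U : Set G) ⊓ M := by
      intro y
      refine ⟨?_, (y : M).2⟩
      apply mem_normalizer_of_forall_conj_mem
      rintro _ ⟨u, hu, rfl⟩
      refine ⟨(y : M) * u * (y : M)⁻¹, ?_, rfl⟩
      exact (Subgroup.mem_normalizer_iff.mp y.2 u).mp hu
    refine hnpc_of_injective ((M.subtype.comp
      (Subgroup.normalizer (U' : Set M)).subtype).codRestrict _ hmem) ?_ h1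
    intro x y hxy
    have h2 := congrArg Subtype.val hxy
    apply Subtype.ext
    apply Subtype.ext
    exact h2

/-- If `Q` is a normal `p`-subgroup and some `p`-nilpotent normaliser `N(U)` contains `Q` and
`N(D ∩ C(Q))`, then every `p'`-element centralises `Q`. -/
theorem coprime_mem_centralizer_of_normal (S : Sylow p G) (D : Subgroup G)
    (hD : Cfsg.IsStronglyClosed D (S : Subgroup G)) (Q : Subgroup G) [hQn : Q.Normal]
    (hQ : IsPGroup p Q) (U : Subgroup G) (hQU : Q ≤ Subgroup.normalizer (U : Set G))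
    (hNU : Subgroup.normalizer ((D ⊓ Subgroup.centralizer (Q : Set G) : Subgroup G) : Set G) ≤
      Subgroup.normalizer (U : Set G))
    (hU : Cfsg.HasNormalPComplement p ↥(Subgroup.normalizer (U : Set G))) (g : G)
    (hg : (orderOf g).Coprime p) : g ∈ Subgroup.centralizer (Q : Set G) := by
  set C := Subgroup.centralizer (Q : Set G) with hC
  have hCn : C.Normal := Subgroup.normal_centralizer
  -- Frattini argument
  have hF : ∃ c ∈ C, c * g ∈ Subgroup.normalizer ((D ⊓ C : Subgroup G) : Set G) := by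
    set P₁ : Subgroup G := (S : Subgroup G) ⊓ C with hP₁
    have hP₁p : IsPGroup p P₁ := S.isPGroup'.to_le inf_le_left
    have hP₁i : ¬ p ∣ P₁.relIndex C := by
      rw [hP₁, Subgroup.inf_relIndex_right]
      exact H40.sylow_relIndex_normal_not_dvd S C
    set P₂ : Subgroup G := P₁.map (MulAut.conj g).toMonoidHom with hP₂
    have hP₂C : P₂ ≤ C := by
      have h1 : P₂ ≤ C.map (MulAut.conj g).toMonoidHom := Subgroup.map_mono inf_le_right
      rwa [map_conj_of_normal] at h1
    have hP₂p : IsPGroup p P₂ := hP₁p.map _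
    have hP₂i : ¬ p ∣ P₂.relIndex C := by
      have h1 : P₂.relIndex (C.map (MulAut.conj g).toMonoidHom) = P₁.relIndex C :=
        Subgroup.relIndex_map_map_of_injective P₁ C (MulAut.conj g).injective
      rw [map_conj_of_normal] at h1
      rw [h1]; exact hP₁i
    obtain ⟨c, hc, hcP⟩ := exists_conj_eq_of_isPGroup_of_not_dvd_relIndex hP₂C inf_le_right
      hP₂p hP₂i hP₁p hP₁i
    have hcP' : P₁ = P₂.map (MulAut.conj c).toMonoidHom := hcP
    refine ⟨c, hc, ?_⟩
    apply mem_normalizer_of_forall_conj_mem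
    intro x hx
    have hxD : x ∈ D := hx.1
    have hxC : x ∈ C := hx.2
    have hxS : x ∈ (S : Subgroup G) := hD.1 hxD
    have h1 : c * g * x * (c * g)⁻¹ ∈ P₁ := by
      rw [hcP']
      refine ⟨g * x * g⁻¹, ⟨x, ⟨hxS, hxC⟩, rfl⟩, ?_⟩
      show c * (g * x * g⁻¹) * c⁻¹ = c * g * x * (c * g)⁻¹
      group
    exact ⟨hD.2 x hxD (c * g) h1.1, h1.2⟩
  obtain ⟨c, hc, hcg⟩ := hF
  set N := Subgroup.normalizer (U : Set G) with hN
  have hnN : c * g ∈ N := hNU hcg
  obtain ⟨K, hKn, hcop, hq⟩ := hnpc_iff.mp hU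
  obtain ⟨k, hk⟩ := hq ⟨c * g, hnN⟩
  -- y = (c g)^(p^k) is a p'-element of N
  have hyC : (c * g) ^ (p ^ k) ∈ C := by
    have hyN : (c * g) ^ (p ^ k) ∈ N := N.pow_mem hnN _
    have hyo : (orderOf ((c * g) ^ (p ^ k))).Coprime p := by
      have h1 := orderOf_dvd_natCard (⟨_, hk⟩ : K)
      rw [Subgroup.orderOf_mk] at h1
      have h2 : orderOf ((⟨c * g, hnN⟩ : N) ^ (p ^ k)) = orderOf ((c * g) ^ (p ^ k)) := by
        rw [← Subgroup.orderOf_coe]; rfl
      rw [h2] at h1
      exact Nat.Coprime.coprime_dvd_left h1 hcop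
    have hyn : (c * g) ^ (p ^ k) ∈ Subgroup.normalizer (Q : Set G) := by
      rw [Subgroup.normalizer_eq_top_iff.mpr hQn]; trivial
    exact mem_centralizer_of_hnpc_subgroup N hU Q hQU hQ _ hyN hyn hyo
  -- pass to G ⧸ C
  have h1 : ((g : G ⧸ C)) ^ (p ^ k) = 1 := by
    have h2 : ((c * g : G) : G ⧸ C) = (g : G ⧸ C) := by
      rw [QuotientGroup.mk_mul, (QuotientGroup.eq_one_iff c).mpr hc, one_mul]
    rw [← h2, ← QuotientGroup.mk_pow]
    exact (QuotientGroup.eq_one_iff _).mpr hyC
  have h3 : orderOf (g : G ⧸ C) ∣ p ^ k := orderOf_dvd_of_pow_eq_one h1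
  have h4 : orderOf (g : G ⧸ C) ∣ orderOf g := orderOf_map_dvd (QuotientGroup.mk' C) g
  have h5 : orderOf (g : G ⧸ C) = 1 :=
    Nat.eq_one_of_dvd_coprimes (Nat.Coprime.pow_right k hg) h4 h3
  exact (QuotientGroup.eq_one_iff g).mp (orderOf_eq_one_iff.mp h5)

end

end Cfsg.Agent.H67
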