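import Cfsg.Agent.H45.S8Defs1

/-!
# S8-NORMH (helper67, for helper45's S1158)

`|N(H¹)| = 2(q - 1)` in `²G₂(q)`, `q = 3^(2m+1) ≥ 27`.
-/

set_option autoImplicit false
set_option linter.unusedVariables false
set_option linter.unusedSectionVars false
set_option linter.style.haveILetI false

open Cfsg Cfsg.Lie Cfsg.Agent.H22 Cfsg.Agent.H22.GEx Cfsg.Agent.H22.Ree Cfsg.Agent.H7.RT
  Cfsg.Agent.H45.S8

namespace Cfsg.Agent.H67.S8

universe u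

variable {K : Type u} [Field K] [Fintype K] [CharP K 3] {m : ℕ}

/-- an element `g` of `²G₂` conjugating one element `h₀ ∈ H¹` with `h₀² ≠ 1` into `H` lies in
`H ∪ H n₀`. -/
theorem normH_aux (C : Ctx K (3 ^ m)) (hK : Fintype.card K = 3 ^ (2 * m + 1))
    (hcan : CanonG2 K) (hW : WeylG2 K) (g h₀ : GL chevG2.Idx K) (hg : g ∈ twistedG2 K (3 ^ m))
    (hh₀ : h₀ ∈ chevG2.diagonalSubgroup K ⊓ twistedG2 K (3 ^ m)) (hh₀2 : h₀ * h₀ ≠ 1)
    (hconj : g * h₀ * g⁻¹ ∈ chevG2.diagonalSubgroup K) :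
    g ∈ chevG2.diagonalSubgroup K ∨
      g * (C.n0 : GL chevG2.Idx K)⁻¹ ∈ chevG2.diagonalSubgroup K := by
  have key : ∀ (u k : GL chevG2.Idx K), u ∈ chevG2.posUnipotent K →
      k ∈ chevG2.diagonalSubgroup K ⊓ twistedG2 K (3 ^ m) → k * k ≠ 1 →
      u * k * u⁻¹ ∈ chevG2.diagonalSubgroup K → u = 1 := by
    intro u k hu hk hk2 hc
    have h1 : u * k * u⁻¹ * k⁻¹ ∈ chevG2.diagonalSubgroup K := mul_mem hc (inv_mem hk.1)
    have h2 : u * k * u⁻¹ * k⁻¹ ∈ chevG2.posUnipotent K := by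
      have := C.H_conj_U k u⁻¹ hk.1 (inv_mem hu)
      have e : u * k * u⁻¹ * k⁻¹ = u * (k * u⁻¹ * k⁻¹) := by group
      rw [e]; exact mul_mem hu this
    have h3 := C.U_inf_H hcan _ h2 h1
    have hcomm : k * u = u * k := by
      have e : k * u = (u * k * u⁻¹ * k⁻¹)⁻¹ * (u * k) := by group
      rw [e, h3]; group
    exact C.centralizer_trivial k u hk hk2 hu hcomm
  rcases C.mem_decomp hK hcan hW g hg with hB | ⟨b, hb, u, hu, hge⟩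
  · left
    obtain ⟨hgG, hfix⟩ := C.fixed_of_mem g hg
    obtain ⟨u₁, hu₁, h₁, hh₁, e⟩ := C.fixed_B_decomp hK hcan ⟨g, hgG⟩ hB.1 hfix
    have e' : g = u₁ * h₁ := e
    have hk : h₁ * h₀ * h₁⁻¹ ∈ chevG2.diagonalSubgroup K ⊓ twistedG2 K (3 ^ m) :=
      mul_mem (mul_mem hh₁ hh₀) (inv_mem hh₁)
    have hk2 : h₁ * h₀ * h₁⁻¹ * (h₁ * h₀ * h₁⁻¹) ≠ 1 := by
      intro h
      apply hh₀2
      have e2 : h₀ * h₀ = h₁⁻¹ * (h₁ * h₀ * h₁⁻¹ * (h₁ * h₀ * h₁⁻¹)) * h₁ := by group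
      rw [e2, h]; group
    have hc : u₁ * (h₁ * h₀ * h₁⁻¹) * u₁⁻¹ ∈ chevG2.diagonalSubgroup K := by
      have e3 : u₁ * (h₁ * h₀ * h₁⁻¹) * u₁⁻¹ = g * h₀ * g⁻¹ := by rw [e']; group
      rw [e3]; exact hconj
    have hu1 := key u₁ _ hu₁.1 hk hk2 hc
    rw [e', hu1, one_mul]; exact hh₁.1
  · right
    have hh' : g * h₀ * g⁻¹ ∈ chevG2.diagonalSubgroup K ⊓ twistedG2 K (3 ^ m) :=
      Subgroup.mem_inf.mpr ⟨hconj, mul_mem (mul_mem hg hh₀.2) (inv_mem hg)⟩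
    have hh'2 : g * h₀ * g⁻¹ * (g * h₀ * g⁻¹) ≠ 1 := by
      intro h
      apply hh₀2
      have e2 : h₀ * h₀ = g⁻¹ * (g * h₀ * g⁻¹ * (g * h₀ * g⁻¹)) * g := by group
      rw [e2, h]; group
    have hnh : (C.n0 : GL chevG2.Idx K) * h₀ * (C.n0 : GL chevG2.Idx K)⁻¹ ∈
        chevG2.diagonalSubgroup K := (N_conj_H _ h₀ C.n0_mem_N hh₀.1).1
    have hUm1 : h₀⁻¹ * u * h₀⁻¹⁻¹ ∈ Um K (C.n0 : GL chevG2.Idx K) := by
      rw [C.Um_n0]; exact C.H_conj_U _ _ (inv_mem hh₀.1) hu.1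
    have hUm2 : u ∈ Um K (C.n0 : GL chevG2.Idx K) := by rw [C.Um_n0]; exact hu.1
    have heq : b * ((C.n0 : GL chevG2.Idx K) * h₀ * (C.n0 : GL chevG2.Idx K)⁻¹) *
        (C.n0 : GL chevG2.Idx K) * (h₀⁻¹ * u * h₀⁻¹⁻¹) =
        (g * h₀ * g⁻¹) * b * (C.n0 : GL chevG2.Idx K) * u := by
      rw [hge]; group
    obtain ⟨hb1, hu1⟩ := (hcan.2 _ _ C.n0 C.n0 _ _ (mul_mem hb.1 (H_le_B hnh))
      (mul_mem (H_le_B hh'.1) hb.1) C.n0_mem_N C.n0_mem_N hUm1 hUm2 heq).2 rfl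
    have hu_one : u = 1 := by
      have hcomm : h₀ * u = u * h₀ := by
        calc h₀ * u = h₀ * (h₀⁻¹ * u * h₀⁻¹⁻¹) := by rw [hu1]
          _ = u * h₀ := by group
      exact C.centralizer_trivial h₀ u hh₀ hh₀2 hu.1 hcomm
    obtain ⟨hbG, hfix⟩ := C.fixed_of_mem b hb.2
    obtain ⟨u₁, hu₁, h₁, hh₁, e⟩ := C.fixed_B_decomp hK hcan ⟨b, hbG⟩ hb.1 hfix
    have e' : b = u₁ * h₁ := e
    have hc : u₁⁻¹ * (g * h₀ * g⁻¹) * u₁⁻¹⁻¹ ∈ chevG2.diagonalSubgroup K := by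
      have e3 : u₁⁻¹ * (g * h₀ * g⁻¹) * u₁⁻¹⁻¹ =
          h₁ * ((C.n0 : GL chevG2.Idx K) * h₀ * (C.n0 : GL chevG2.Idx K)⁻¹) * h₁⁻¹ := by
        have e4 : g * h₀ * g⁻¹ =
            b * ((C.n0 : GL chevG2.Idx K) * h₀ * (C.n0 : GL chevG2.Idx K)⁻¹) * b⁻¹ := by
          rw [hb1]; group
        rw [e4, e']; group
      rw [e3]; exact mul_mem (mul_mem hh₁.1 hnh) (inv_mem hh₁.1)
    have hu1_one : u₁⁻¹ = 1 := key u₁⁻¹ _ (inv_mem hu₁.1) hh' hh'2 hc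
    have e5 : g * (C.n0 : GL chevG2.Idx K)⁻¹ = h₁ := by
      rw [hge, hu_one, e', inv_eq_one.mp hu1_one]; group
    rw [e5]; exact hh₁.1

theorem normH (C : Ctx K (3 ^ m)) (hK : Fintype.card K = 3 ^ (2 * m + 1)) (hm : 1 ≤ m)
    (hcan : CanonG2 K) (hW : WeylG2 K) : StNormH K m := by
  unfold StNormH
  haveI : IsCyclic ↥(chevG2.diagonalSubgroup K ⊓ twistedG2 K (3 ^ m)) := C.H1_cyclic
  obtain ⟨γ, hγ⟩ := IsCyclic.exists_generator
    (α := ↥(chevG2.diagonalSubgroup K ⊓ twistedG2 K (3 ^ m)))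
  have hord : orderOf γ = 3 ^ (2 * m + 1) - 1 := by
    rw [orderOf_eq_card_of_forall_mem_zpowers hγ, C.card_H1 hK]
  have hq : 27 ≤ 3 ^ (2 * m + 1) := by
    calc 27 = 3 ^ 3 := by norm_num
      _ ≤ 3 ^ (2 * m + 1) := Nat.pow_le_pow_right (by norm_num) (by omega)
  have hγ2 : (γ : GL chevG2.Idx K) * (γ : GL chevG2.Idx K) ≠ 1 := by
    intro h
    have h2 : γ ^ 2 = 1 := by
      apply Subtype.ext
      rw [pow_two]; exact h
    have h3 := orderOf_dvd_of_pow_eq_one h2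
    rw [hord] at h3
    have h4 := Nat.le_of_dvd (by norm_num) h3
    omega
  have hHN : H1G K (3 ^ m) ≤ Subgroup.normalizer ((H1G K (3 ^ m) :
      Subgroup ↥(twistedG2 K (3 ^ m))) : Set ↥(twistedG2 K (3 ^ m))) := Subgroup.le_normalizer
  have hn0N : C.n0G ∈ Subgroup.normalizer ((H1G K (3 ^ m) :
      Subgroup ↥(twistedG2 K (3 ^ m))) : Set ↥(twistedG2 K (3 ^ m))) := by
    rw [Subgroup.mem_normalizer_iff]
    intro h
    rw [mem_H1G, mem_H1G]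
    constructor
    · intro hh
      exact (N_conj_H _ _ C.n0_mem_N hh).1
    · intro hh
      have h1 := (N_conj_H _ _ C.n0_mem_N hh).2
      have e : (C.n0 : GL chevG2.Idx K)⁻¹ * ((C.n0 : GL chevG2.Idx K) * (h : GL chevG2.Idx K) *
          (C.n0 : GL chevG2.Idx K)⁻¹) * (C.n0 : GL chevG2.Idx K) = (h : GL chevG2.Idx K) := by
        group
      rw [← e]; exact h1
  have hidx : ((H1G K (3 ^ m)).subgroupOf (Subgroup.normalizer ((H1G K (3 ^ m) :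
      Subgroup ↥(twistedG2 K (3 ^ m))) : Set ↥(twistedG2 K (3 ^ m))))).index = 2 := by
    rw [Subgroup.index_eq_two_iff_exists_notMem_and]
    refine ⟨⟨C.n0G, hn0N⟩⁻¹, ?_, ?_⟩
    · intro h
      rw [Subgroup.mem_subgroupOf] at h
      have h' : C.n0G⁻¹ ∈ H1G K (3 ^ m) := h
      have h'' := inv_mem h'
      rw [inv_inv, mem_H1G, C.n0G_coe] at h''
      exact C.n0_not_H hcan h''
    · intro b
      rw [Subgroup.mem_subgroupOf, Subgroup.mem_subgroupOf]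
      have hb := b.2
      rw [Subgroup.mem_normalizer_iff] at hb
      have hconj : ((b : ↥(twistedG2 K (3 ^ m))) : GL chevG2.Idx K) * (γ : GL chevG2.Idx K) *
          ((b : ↥(twistedG2 K (3 ^ m))) : GL chevG2.Idx K)⁻¹ ∈ chevG2.diagonalSubgroup K := by
        have h1 := (hb ⟨(γ : GL chevG2.Idx K), γ.2.2⟩).mp ((mem_H1G _).mpr γ.2.1)
        rw [mem_H1G] at h1
        exact h1
      rcases normH_aux C hK hcan hW _ _ (b : ↥(twistedG2 K (3 ^ m))).2 γ.2 hγ2 hconj with h | h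
      · right
        exact (mem_H1G _).mpr h
      · left
        exact (mem_H1G _).mpr h
  have hcard := Subgroup.card_mul_index ((H1G K (3 ^ m)).subgroupOf (Subgroup.normalizer
    ((H1G K (3 ^ m) : Subgroup ↥(twistedG2 K (3 ^ m))) : Set ↥(twistedG2 K (3 ^ m)))))
  rw [hidx] at hcard
  have hc1 : Nat.card ↥((H1G K (3 ^ m)).subgroupOf (Subgroup.normalizer
      ((H1G K (3 ^ m) : Subgroup ↥(twistedG2 K (3 ^ m))) : Set ↥(twistedG2 K (3 ^ m))))) =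
      3 ^ (2 * m + 1) - 1 := by
    rw [Nat.card_congr (Subgroup.subgroupOfEquivOfLe hHN).toEquiv]
    unfold H1G
    rw [Nat.card_congr (Subgroup.subgroupOfEquivOfLe inf_le_right).toEquiv, C.card_H1 hK]
  rw [hc1] at hcard
  unfold qq
  omega

example (C : Ctx K (3 ^ m)) (hK : Fintype.card K = 3 ^ (2 * m + 1)) (hm : 1 ≤ m)
    (hcan : CanonG2 K) (hW : WeylG2 K) : StNormH K m := normH C hK hm hcan hW

end Cfsg.Agent.H67.S8
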