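import Mathlib
import Cfsg.Agent.H64.TtDefs

/-!
# TT-REG (helper67, for helper64's S3385)

Abstract regularity on paths: in a finite faithful transitive group on the vertices of an
invariant connected digraph of out-valency 2 with vertex stabilisers of order `2^k`, the pointwise
stabiliser of `e₀, g e₀, …, g^(m-1) e₀` has order `2^(k+1-m)`.
-/

set_option autoImplicit false
set_option linter.unusedVariables false
set_option linter.style.haveILetI false
set_option maxHeartbeats 1000000

namespace Cfsg.Agent.H67.Tt

open MulAction Cfsg.Agent.H64.Tt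

universe u v

theorem reg : RegStmt.{u, v} := by
  intro G _ _ E _ R k htr hfaith hinv htwo hconn hcard e₀ g hR
  classical
  obtain ⟨e, he⟩ : ∃ e : ℕ → E, ∀ j, e j = g ^ j • e₀ := ⟨fun j => g ^ j • e₀, fun j => rfl⟩
  obtain ⟨S, hS⟩ : ∃ S : ℕ → Subgroup G,
      ∀ m, S m = ⨅ j ∈ Finset.range m, stabilizer G (g ^ j • e₀) := ⟨_, fun m => rfl⟩
  have he0 : e 0 = e₀ := by rw [he]; simp
  have hes : ∀ j, g • e j = e (j + 1) := by
    intro j
    rw [he, he, ← mul_smul, ← pow_succ']
  have hpath : ∀ j, R (e j) (e (j + 1)) := by
    intro j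
    have h0 := hinv (g ^ j) e₀ (g • e₀) hR
    rw [← mul_smul, ← pow_succ, ← he, ← he] at h0
    exact h0
  have hmemS : ∀ m (h : G), h ∈ S m ↔ ∀ j < m, h • e j = e j := by
    intro m h
    rw [hS]
    simp only [Subgroup.mem_iInf, Finset.mem_range, mem_stabilizer_iff, he]
  have hSle : ∀ m, S (m + 1) ≤ S m := by
    intro m h hh
    rw [hmemS] at hh ⊢
    intro j hj
    exact hh j (by omega)
  have hsucc_inv : ∀ (h : G) (x y : E), R (h • x) y ↔ R x (h⁻¹ • y) := by
    intro h x y
    constructor
    · intro hxy
      have h0 := hinv h⁻¹ _ _ hxy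
      rwa [inv_smul_smul] at h0
    · intro hxy
      have h0 := hinv h _ _ hxy
      rwa [smul_inv_smul] at h0
  have hstep : ∀ m, 1 ≤ m → S (m + 1) ≠ S m → Nat.card (S m) = 2 * Nat.card (S (m + 1)) := by
    intro m hm hne
    have h1 : (S (m + 1)).relIndex (S m) ≤ 2 := by
      have e1 : (S (m + 1)).relIndex (S m) = (stabilizer (S m) (e m)).index := by
        rw [Subgroup.relIndex]
        congr 1
        ext x
        rw [Subgroup.mem_subgroupOf, mem_stabilizer_iff, hmemS]
        constructor
        · intro hx
          exact hx m (by omega)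
        · intro hx j hj
          rcases Nat.lt_succ_iff_lt_or_eq.mp hj with hj | rfl
          · exact (hmemS m x).mp x.2 j hj
          · exact hx
      rw [e1, index_stabilizer]
      have hsub : orbit (S m) (e m) ⊆ {e' | R (e (m - 1)) e'} := by
        rintro _ ⟨x, rfl⟩
        show R (e (m - 1)) ((x : G) • e m)
        have hx := (hmemS m x).mp x.2 (m - 1) (by omega)
        have h0 := hinv (x : G) _ _ (hpath (m - 1))
        rw [hx] at h0
        have hm' : m - 1 + 1 = m := by omega
        rwa [hm'] at h0
      have hfin : {e' | R (e (m - 1)) e'}.Finite :=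
        Set.finite_of_ncard_ne_zero (by rw [htwo]; norm_num)
      calc (orbit (S m) (e m)).ncard ≤ {e' | R (e (m - 1)) e'}.ncard :=
            Set.ncard_le_ncard hsub hfin
        _ = 2 := htwo _
    have h2 : (S (m + 1)).relIndex (S m) ≠ 1 := by
      intro h
      exact hne (le_antisymm (hSle m) (Subgroup.relIndex_eq_one.mp h))
    have h3 : (S (m + 1)).relIndex (S m) ≠ 0 := Subgroup.index_ne_zero_of_finite
    have h4 : (S (m + 1)).relIndex (S m) = 2 := by omega
    have h5 := Subgroup.relIndex_mul_relIndex ⊥ (S (m + 1)) (S m) bot_le (hSle m)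
    rw [Subgroup.relIndex_bot_left, Subgroup.relIndex_bot_left, h4] at h5
    omega
  have hP : ∀ m, 1 ≤ m → (∀ i, 1 ≤ i → i < m → S (i + 1) ≠ S i) →
      Nat.card (S m) = 2 ^ (k + 1 - m) ∧ m ≤ k + 1 := by
    intro m hm
    induction m, hm using Nat.le_induction with
    | base =>
      intro _
      refine ⟨?_, by omega⟩
      have h0 : S 1 = stabilizer G e₀ := by
        ext h
        rw [hmemS, mem_stabilizer_iff]
        constructor
        · intro hh
          have h1 := hh 0 (by omega)
          rwa [he0] at h1
        · intro hh j hj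
          have hj0 : j = 0 := by omega
          subst hj0
          rw [he0]
          exact hh
      rw [h0, hcard]
      simp
    | succ m hm ih =>
      intro hall
      obtain ⟨h1, h2⟩ := ih (fun i hi him => hall i hi (by omega))
      have h3 := hstep m hm (hall m hm (by omega))
      rw [h1] at h3
      have h4 : k + 1 - m ≠ 0 := by
        intro h0
        rw [h0, pow_zero] at h3
        omega
      refine ⟨?_, by omega⟩
      have h5 : k + 1 - m = (k + 1 - (m + 1)) + 1 := by omega
      rw [h5, pow_succ] at h3
      omega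
  have hex : ∃ n, 1 ≤ n ∧ S (n + 1) = S n := by
    by_contra hcon
    push Not at hcon
    have h0 := (hP (k + 2) (by omega) (fun i hi _ => hcon i hi)).2
    omega
  obtain ⟨n, ⟨hn1, hnS⟩, hmin⟩ : ∃ n, (1 ≤ n ∧ S (n + 1) = S n) ∧
      ∀ i, i < n → ¬ (1 ≤ i ∧ S (i + 1) = S i) :=
    ⟨Nat.find hex, Nat.find_spec hex, fun i hi => Nat.find_min hex hi⟩
  have hmin' : ∀ i, 1 ≤ i → i < n → S (i + 1) ≠ S i := fun i hi hin h => hmin i hin ⟨hi, h⟩
  have hPn : ∀ m, 1 ≤ m → m ≤ n → Nat.card (S m) = 2 ^ (k + 1 - m) ∧ m ≤ k + 1 :=
    fun m hm hmn => hP m hm (fun i hi him => hmin' i hi (by omega))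
  have hTbot : S n = ⊥ := by
    obtain ⟨n', rfl⟩ : ∃ n', n = n' + 1 := ⟨n - 1, by omega⟩
    have hTfix : ∀ t ∈ S (n' + 1), ∀ j ≤ n' + 1, t • e j = e j := by
      intro t ht j hj
      have ht' : t ∈ S (n' + 1 + 1) := by
        rw [hnS]
        exact ht
      exact (hmemS _ t).mp ht' j (by omega)
    obtain ⟨x₁, x₂, hx12, hx⟩ := Set.ncard_eq_two.mp (htwo (e n'))
    have hRiff : ∀ w, R (e n') w ↔ (w = x₁ ∨ w = x₂) := by
      intro w
      have h0 : R (e n') w ↔ w ∈ {e' | R (e n') e'} := Iff.rfl
      rw [h0, hx]
      simp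
    obtain ⟨e', hne', hsucc⟩ : ∃ e' : E, e' ≠ e (n' + 1) ∧
        ∀ w, R (e n') w ↔ (w = e (n' + 1) ∨ w = e') := by
      rcases (hRiff _).mp (hpath n') with h | h
      · refine ⟨x₂, ?_, ?_⟩
        · rw [h]
          exact hx12.symm
        · intro w
          rw [hRiff, h]
      · refine ⟨x₁, ?_, ?_⟩
        · rw [h]
          exact hx12
        · intro w
          rw [hRiff, h, or_comm]
    have hTe' : ∀ t ∈ S (n' + 1), t • e' = e' := by
      intro t ht
      have h1 : R (e n') (t • e') := by
        have h0 := hinv t _ _ ((hsucc e').mpr (Or.inr rfl))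
        rwa [hTfix t ht n' (by omega)] at h0
      rcases (hsucc _).mp h1 with h | h
      · exfalso
        apply hne'
        have h2 := hTfix t ht (n' + 1) le_rfl
        rw [← h2] at h
        exact MulAction.injective t h
      · exact h
    obtain ⟨c, hc1, hc2⟩ : ∃ c : G, (∀ j, j < n' → c • e j = e (j + 1)) ∧ c • e n' = e' := by
      rcases Nat.eq_zero_or_pos n' with h0 | hpos
      · subst h0
        obtain ⟨c, hc⟩ := MulAction.exists_smul_eq G (e 0) e'
        exact ⟨c, fun j hj => absurd hj (by omega), hc⟩
      · have hne : S (n' + 1) ≠ S n' := hmin' n' hpos (by omega)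
        have hnle : ¬ (S n' ≤ S (n' + 1)) := fun hle => hne (le_antisymm (hSle n') hle)
        obtain ⟨t, ht1, ht2⟩ := SetLike.not_le_iff_exists.mp hnle
        have htfix : ∀ j < n', t • e j = e j := (hmemS n' t).mp ht1
        have htn : t • e n' ≠ e n' := by
          intro h
          apply ht2
          rw [hmemS]
          intro j hj
          rcases Nat.lt_succ_iff_lt_or_eq.mp hj with hj | rfl
          · exact htfix j hj
          · exact h
        refine ⟨g * t, ?_, ?_⟩
        · intro j hj
          rw [mul_smul, htfix j hj, hes]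
        · have h1 : R (e n') ((g * t) • e n') := by
            have h0 := hinv (g * t) _ _ (hpath (n' - 1))
            have hn'' : n' - 1 + 1 = n' := by omega
            rw [hn''] at h0
            rw [mul_smul (g) t (e (n' - 1)), htfix (n' - 1) (by omega), hes, hn''] at h0
            exact h0
          rcases (hsucc _).mp h1 with h | h
          · exfalso
            apply htn
            rw [mul_smul, ← hes] at h
            exact MulAction.injective g h
          · exact h
    have hsuccw : ∀ (w : G) (x : E),
        R (w • e n') x ↔ (x = (w * g) • e n' ∨ x = (w * c) • e n') := by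
      intro w x
      rw [hsucc_inv, hsucc, mul_smul, mul_smul, hes, hc2]
      constructor
      · rintro (h | h)
        · left
          rw [← h, smul_inv_smul]
        · right
          rw [← h, smul_inv_smul]
      · rintro (h | h)
        · left
          rw [h, inv_smul_smul]
        · right
          rw [h, inv_smul_smul]
    obtain ⟨L, hL⟩ : ∃ L : Submonoid G, L = Submonoid.closure {g, c} := ⟨_, rfl⟩
    have hgL : g ∈ L := by
      rw [hL]
      exact Submonoid.subset_closure (by simp)
    have hcL : c ∈ L := by
      rw [hL]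
      exact Submonoid.subset_closure (by simp)
    have hΦg : ∀ t ∈ S (n' + 1), g⁻¹ * t * g ∈ S (n' + 1) := by
      intro t ht
      rw [hmemS]
      intro j hj
      rw [mul_smul, mul_smul, hes, hTfix t ht (j + 1) (by omega), ← hes, inv_smul_smul]
    have hΦc : ∀ t ∈ S (n' + 1), c⁻¹ * t * c ∈ S (n' + 1) := by
      intro t ht
      rw [hmemS]
      intro j hj
      rcases Nat.lt_succ_iff_lt_or_eq.mp hj with hj | rfl
      · rw [mul_smul, mul_smul, hc1 j hj, hTfix t ht (j + 1) (by omega), ← hc1 j hj,
          inv_smul_smul]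
      · rw [mul_smul, mul_smul, hc2, hTe' t ht, ← hc2, inv_smul_smul]
    have hΦ : ∀ w ∈ L, ∀ t ∈ S (n' + 1), w⁻¹ * t * w ∈ S (n' + 1) := by
      intro w hw
      rw [hL] at hw
      induction hw using Submonoid.closure_induction with
      | mem x hx =>
        rcases hx with rfl | hx
        · exact hΦg
        · rw [Set.mem_singleton_iff] at hx
          subst hx
          exact hΦc
      | one =>
        intro t ht
        simpa using ht
      | mul x y hx hy ihx ihy =>
        intro t ht
        have h0 := ihy _ (ihx t ht)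
        have h1 : (x * y)⁻¹ * t * (x * y) = y⁻¹ * (x⁻¹ * t * x) * y := by group
        rw [h1]
        exact h0
    have hLinv : ∀ w ∈ L, w⁻¹ ∈ L := by
      intro w hw
      have h0 : w⁻¹ = w ^ (orderOf w - 1) := by
        apply inv_eq_of_mul_eq_one_right
        rw [← pow_succ', Nat.sub_add_cancel (orderOf_pos w), pow_orderOf_eq_one]
      rw [h0]
      exact pow_mem hw _
    obtain ⟨C₀, hC₀⟩ : ∃ C₀ : Set E, ∀ x, x ∈ C₀ ↔ ∃ w ∈ L, x = w • e n' :=
      ⟨{x | ∃ w ∈ L, x = w • e n'}, fun x => Iff.rfl⟩
    have hC₀univ : C₀ = Set.univ := by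
      apply hconn
      · exact ⟨e n', (hC₀ _).mpr ⟨1, L.one_mem, (one_smul _ _).symm⟩⟩
      · intro x x' hxx'
        constructor
        · intro hxC
          obtain ⟨w, hw, rfl⟩ := (hC₀ _).mp hxC
          rcases (hsuccw w x').mp hxx' with h | h
          · exact (hC₀ _).mpr ⟨w * g, L.mul_mem hw hgL, h⟩
          · exact (hC₀ _).mpr ⟨w * c, L.mul_mem hw hcL, h⟩
        · intro hxC
          obtain ⟨w, hw, rfl⟩ := (hC₀ _).mp hxC
          obtain ⟨y, rfl⟩ := MulAction.exists_smul_eq G (e n') x
          have hD : ∀ w'' ∈ L, ∃ w' ∈ L, (w * w'') • e n' = (y * w') • e n' := by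
            intro w'' hw''
            rw [hL] at hw''
            induction hw'' using Submonoid.closure_induction_right with
            | one =>
              rcases (hsuccw y _).mp hxx' with h | h
              · exact ⟨g, hgL, by rw [mul_one]; exact h⟩
              · exact ⟨c, hcL, by rw [mul_one]; exact h⟩
            | mul_right a ha b hb ih =>
              obtain ⟨w', hw', heq⟩ := ih
              have hR1 : R ((w * a) • e n') ((w * (a * b)) • e n') := by
                rw [hsuccw, ← mul_assoc]
                rcases hb with rfl | hb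
                · left
                  rfl
                · rw [Set.mem_singleton_iff] at hb
                  subst hb
                  right
                  rfl
              rw [heq] at hR1
              rcases (hsuccw _ _).mp hR1 with h | h
              · exact ⟨w' * g, L.mul_mem hw' hgL, by rw [h, mul_assoc]⟩
              · exact ⟨w' * c, L.mul_mem hw' hcL, by rw [h, mul_assoc]⟩
          have hyC : ∀ x ∈ C₀, y⁻¹ • x ∈ C₀ := by
            intro x hx
            obtain ⟨w₁, hw₁, rfl⟩ := (hC₀ _).mp hx
            obtain ⟨w', hw', heq⟩ := hD (w⁻¹ * w₁) (L.mul_mem (hLinv w hw) hw₁)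
            rw [mul_inv_cancel_left] at heq
            refine (hC₀ _).mpr ⟨w', hw', ?_⟩
            rw [heq, mul_smul, inv_smul_smul]
          have hyC' : ∀ j : ℕ, ∀ x ∈ C₀, (y⁻¹) ^ j • x ∈ C₀ := by
            intro j
            induction j with
            | zero =>
              intro x hx
              simpa using hx
            | succ j ih =>
              intro x hx
              rw [pow_succ, mul_smul]
              exact ih _ (hyC x hx)
          have hy : (y⁻¹) ^ (orderOf y⁻¹ - 1) = y := by
            have h1 : (y⁻¹) ^ (orderOf y⁻¹ - 1) * y⁻¹ = 1 := by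
              rw [← pow_succ, Nat.sub_add_cancel (orderOf_pos _), pow_orderOf_eq_one]
            exact (eq_inv_of_mul_eq_one_left h1).trans (inv_inv y)
          have h2 := hyC' (orderOf y⁻¹ - 1) (e n')
            ((hC₀ _).mpr ⟨1, L.one_mem, (one_smul _ _).symm⟩)
          rwa [hy] at h2
    rw [Subgroup.eq_bot_iff_forall]
    intro t ht
    apply hfaith
    intro x
    have hx : x ∈ C₀ := by
      rw [hC₀univ]
      trivial
    obtain ⟨w, hw, rfl⟩ := (hC₀ _).mp hx
    have h1 := hΦ w hw t ht
    have h2 := (hmemS _ _).mp h1 n' (by omega)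
    rw [mul_smul, mul_smul, inv_smul_eq_iff] at h2
    exact h2
  have hnk : n = k + 1 := by
    have h1 := (hPn n hn1 le_rfl)
    rw [hTbot, Subgroup.card_bot] at h1
    have h2 : k + 1 - n = 0 := by
      by_contra h
      have h3 : 2 ≤ 2 ^ (k + 1 - n) := Nat.le_self_pow h 2
      omega
    omega
  intro m hm hmk
  rw [← hS m]
  exact (hPn m hm (by omega)).1

example : RegStmt.{u, v} := reg

end Cfsg.Agent.H67.Tt
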