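import Cfsg.Agent.H87.BCDefs
import Cfsg.Agent.H87.NK
import Cfsg.Agent.H86.FusNormal
import Cfsg.Agent.H86.FusAlperin
import Cfsg.Agent.H86.FusExt
import Cfsg.Agent.H86.PredSys
import Cfsg.Agent.H67.BCFar

set_option autoImplicit false

/-!
# Piece EXT of helper87's S5110 project: every automorphism of `V` extends to a larger invariant subgroup

`E` is a fusion system over a finite `p`-group `N` with a normal subgroup `V`; every subgroup strictly
containing `V` has a fully automized receptive conjugate, `E` is generated by its maps on subgroups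
strictly containing `V`, and either `C_N(V) ≰ V` or `Aut_N(V) ∩ O_p(Aut_E(V)) ≰ Inn(V)`.  Then there is
an `E`-invariant subgroup `V₀ > V` of `N` to which every map of `E` on `V` extends.

`O` is `Inn(V)` in the first case and `O_p(Aut_E(V))` in the second; `V₀` is the subgroup of the elements
of `N` inducing on `V` an element of `O` (`vZero`).
-/

namespace Cfsg.Agent.H67.BC

open Cfsg Cfsg.FusionSystem Cfsg.Agent.H86 Cfsg.Agent.H87

variable {Ω : Type*} [Group Ω]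

/-- Basic consequences of normality of `V` in `E`. -/
lemma normal_facts {N : Subgroup Ω} [Finite N] {E : FusionSystem N} {V : Subgroup Ω}
    (hV : E.IsNormal V) :
    V ≤ N ∧ (∀ (R : Subgroup Ω) (f : Ω → Ω), R ≤ V → Mor E R f → ∀ x ∈ R, f x ∈ V) ∧
    (∀ (P : Subgroup Ω) (f : Ω → Ω), V ≤ P → Mor E P f → imgS V f = V) ∧
    (∀ g ∈ N, g ∈ Subgroup.normalizer (V : Set Ω)) := by
  have hVN : V ≤ N := hV.1
  have hVfin : Finite V := finite_of_le hVN
  have hsc := (stronglyClosed_iff.1 (IsNormal.stronglyClosed hV)).2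
  have keyV : ∀ g ∈ N, ∀ y ∈ V, g * y * g⁻¹ ∈ V :=
    fun g hg y hy => hsc V _ le_rfl (Mor.conj E hVN hg) y hy
  refine ⟨hVN, hsc, fun P f hVP hf => ?_, fun g hg => ?_⟩
  · exact imgS_eq_of_maps (hf.restrict hVP) (hsc V f le_rfl (hf.restrict hVP))
  · refine mem_normalizer_of_forall_conj_mem (keyV g hg) (fun y hy => ?_)
    have := keyV g⁻¹ (N.inv_mem hg) y hy
    rwa [inv_inv] at this

/-- The elements of `N` inducing on `V` an element of `O`. -/
def vZero (N V : Subgroup Ω) (O : Subgroup (MulAut V)) : Subgroup Ω := nkSub N V O (fun x => x)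

lemma mem_vZero {N V : Subgroup Ω} {O : Subgroup (MulAut V)} {g : Ω} :
    g ∈ vZero N V O ↔ g ∈ N ∧ ∃ κ ∈ O, ∀ x ∈ V, g * x * g⁻¹ = autFun V κ x := Iff.rfl

/-- The properties of the subgroup `O` of `Aut_E(V)` used by the argument. -/
structure OData {N : Subgroup Ω} (E : FusionSystem N) (p : ℕ) (V : Subgroup Ω)
    (O : Subgroup (MulAut V)) : Prop where
  le : O ≤ E.autGroup V
  conj : ∀ a ∈ E.autGroup V, ∀ o ∈ O, a * o * a⁻¹ ∈ O
  inn : Inn V ≤ O
  h3 : ∀ X : Subgroup Ω, V ≤ X → X ≤ N → E.IsFullyAutomized p X → ∀ γ ∈ E.autGroup X,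
      (∃ o ∈ O, ∀ x ∈ V, autFun X γ x = autFun V o x) →
      ∃ g ∈ N, g ∈ Subgroup.normalizer (X : Set Ω) ∧ ∀ x ∈ V, autFun X γ x = g * x * g⁻¹
  big : ∃ g ∈ N, g ∉ V ∧ ∃ o ∈ O, ∀ x ∈ V, g * x * g⁻¹ = autFun V o x

lemma vZero_facts {N : Subgroup Ω} [Finite N] {p : ℕ} {E : FusionSystem N} {V : Subgroup Ω}
    (hV : E.IsNormal V) {O : Subgroup (MulAut V)} (hd : OData E p V O) :
    V ≤ vZero N V O ∧ vZero N V O ≤ N ∧
    (∀ (P : Subgroup Ω) (f : Ω → Ω), V ≤ P → Mor E P f → ∀ g ∈ P, g ∈ vZero N V O →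
      f g ∈ vZero N V O) ∧
    (∀ f, Mor E (vZero N V O) f → imgS (vZero N V O) f = vZero N V O) ∧
    (∀ g ∈ N, g ∈ Subgroup.normalizer ((vZero N V O : Subgroup Ω) : Set Ω)) := by
  obtain ⟨hVN, hsc, hscV, hNV⟩ := normal_facts hV
  have hV₀N : vZero N V O ≤ N := fun g hg => hg.1
  have hV₀fin : Finite (vZero N V O) := finite_of_le hV₀N
  have hVV₀ : V ≤ vZero N V O := by
    intro v hv
    obtain ⟨α, Hα⟩ := exists_conjAut (Subgroup.le_normalizer hv : v ∈ Subgroup.normalizer (V : Set Ω))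
    refine mem_vZero.2 ⟨hVN hv, α, hd.inn ((mem_inn_iff α).2 ⟨v, hv, Hα⟩), fun x hx => ?_⟩
    rw [autFun_of_mem α hx, Hα]
  have hsc₀ : ∀ (P : Subgroup Ω) (f : Ω → Ω), V ≤ P → Mor E P f → ∀ g ∈ P, g ∈ vZero N V O →
      f g ∈ vZero N V O := by
    intro P f hVP hf g hgP hg
    obtain ⟨hgN, κ, hκ, H⟩ := mem_vZero.1 hg
    have hfV : Mor E V f := hf.restrict hVP
    have himg : imgS V f = V := hscV P f hVP hf
    refine mem_vZero.2 ⟨hf.mem hgP, mkAut hfV himg * κ * (mkAut hfV himg)⁻¹,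
      hd.conj _ (mkAut_mem hfV himg) κ hκ, fun y hy => ?_⟩
    have hx : autFun V (mkAut hfV himg)⁻¹ y ∈ V := autFun_mem _ hy
    have hκx : autFun V κ (autFun V (mkAut hfV himg)⁻¹ y) ∈ V := autFun_mem κ hx
    have hy' : f (autFun V (mkAut hfV himg)⁻¹ y) = y := by
      rw [← autFun_mkAut hfV himg hx, autFun_apply_inv _ hy]
    rw [autFun_mul _ _ hy, autFun_mul _ _ hx, autFun_mkAut hfV himg hκx, ← H _ hx,
      hf.map_mul (P.mul_mem hgP (hVP hx)) (P.inv_mem hgP), hf.map_mul hgP (hVP hx), hf.map_inv hgP, hy']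
  have hinv : ∀ f, Mor E (vZero N V O) f → imgS (vZero N V O) f = vZero N V O :=
    fun f hf => imgS_eq_of_maps hf (fun x hx => hsc₀ _ f hVV₀ hf x hx hx)
  have key₀ : ∀ g ∈ N, ∀ y ∈ vZero N V O, g * y * g⁻¹ ∈ vZero N V O := by
    intro g hg y hy
    have h1 := hinv _ (Mor.conj E hV₀N hg)
    rw [← h1]
    exact (Mor.conj E hV₀N hg).mem_imgS_of_mem hy
  refine ⟨hVV₀, hV₀N, hsc₀, hinv, fun g hg => ?_⟩
  refine mem_normalizer_of_forall_conj_mem (key₀ g hg) (fun y hy => ?_)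
  have := key₀ g⁻¹ (N.inv_mem hg) y hy
  rwa [inv_inv] at this

/-- The restriction of an automorphism of `X` in `E` to `V` is an automorphism of `V` in `E`. -/
lemma res_mem {N : Subgroup Ω} {E : FusionSystem N} {V X : Subgroup Ω} (hVN : V ≤ N) (hXN : X ≤ N)
    (hVX : V ≤ X) {res : ↥(E.autGroup X) →* MulAut V}
    (hres : ∀ (α : ↥(E.autGroup X)) (x : V), ((res α x : V) : Ω) = autFun X (α : MulAut X) (x : Ω))
    (α : ↥(E.autGroup X)) : res α ∈ E.autGroup V := by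
  rw [mem_autGroup_iff hVN]
  have hm := ((mem_autGroup_iff hXN α.1).1 α.2).restrict hVX
  refine hm.congr (fun x hx => ?_)
  rw [autFun_of_mem _ hx, hres]

/-- An automorphism of `X` that is the identity on `V`, where `V ≤ X ≤ N`, `N` normalizes `V` and
`C_N(V) ≤ V`, has order dividing `|V|`. -/
lemma pow_card_eq_one_of_fix {N V X : Subgroup Ω} [Finite V]
    (hNV : ∀ g ∈ N, g ∈ Subgroup.normalizer (V : Set Ω)) (hC : centralizerIn N V ≤ V) (hVX : V ≤ X)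
    (hXN : X ≤ N) (κ : MulAut X) (hκ : ∀ v ∈ V, autFun X κ v = v) : κ ^ Nat.card V = 1 := by
  have key : ∀ x ∈ X, ∃ z ∈ V, autFun X κ x = x * z := by
    intro x hx
    refine ⟨x⁻¹ * autFun X κ x, hC ?_, by group⟩
    rw [mem_centralizerIn_iff]
    refine ⟨N.mul_mem (N.inv_mem (hXN hx)) (hXN (autFun_mem κ hx)), fun v hv => ?_⟩
    have hxv : x * v * x⁻¹ ∈ V := conj_mem_of_mem_normalizer (hNV x (hXN hx)) hv
    have h1 : autFun X κ (x * v) = autFun X κ x * v := by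
      rw [autFun_map_mul κ hx (hVX hv), hκ v hv]
    have h2 : autFun X κ (x * v) = x * v * x⁻¹ * autFun X κ x := by
      calc autFun X κ (x * v) = autFun X κ ((x * v * x⁻¹) * x) := by
            congr 1
            group
        _ = autFun X κ (x * v * x⁻¹) * autFun X κ x := autFun_map_mul κ (hVX hxv) hx
        _ = x * v * x⁻¹ * autFun X κ x := by rw [hκ _ hxv]
    have h3 : autFun X κ x * v = x * v * x⁻¹ * autFun X κ x := h1.symm.trans h2
    calc v * (x⁻¹ * autFun X κ x) = x⁻¹ * (x * v * x⁻¹ * autFun X κ x) := by group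
      _ = x⁻¹ * (autFun X κ x * v) := by rw [h3]
      _ = x⁻¹ * autFun X κ x * v := by rw [mul_assoc]
  have hpow : ∀ (n : ℕ) (x : Ω), x ∈ X → ∀ z ∈ V, autFun X κ x = x * z →
      autFun X (κ ^ n) x = x * z ^ n := by
    intro n
    induction n with
    | zero =>
      intro x hx z hz h
      rw [pow_zero, pow_zero, autFun_one hx, mul_one]
    | succ n ih =>
      intro x hx z hz h
      rw [pow_succ, autFun_mul _ _ hx, h, autFun_map_mul _ hx (hVX hz), ih x hx z hz h,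
        ih z (hVX hz) 1 V.one_mem (by rw [hκ z hz, mul_one]), one_pow, mul_one, pow_succ, mul_assoc]
  apply autFun_ext
  intro x hx
  obtain ⟨z, hz, hxz⟩ := key x hx
  rw [hpow _ x hx z hz hxz, autFun_one hx]
  have h1 : (⟨z, hz⟩ : V) ^ Nat.card V = 1 := pow_card_eq_one'
  have h2 : z ^ Nat.card V = 1 := by
    have := congrArg Subtype.val h1
    exact (Subgroup.coe_pow V ⟨z, hz⟩ _).symm.trans this
  rw [h2, mul_one]

/-- The Sylow adjustment: for `X ≥ V` fully automized and receptive and a map `β` of `E` from `X` onto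
`X`, some map of `E` defined on a subgroup containing `X` and `V₀ ∩ N_N(X)` agrees with `β` on `V`. -/
lemma exists_adjust {N : Subgroup Ω} [Finite N] {p : ℕ} [Fact p.Prime] {E : FusionSystem N}
    {V : Subgroup Ω} (hN : IsPGroup p N) (hV : E.IsNormal V) {O : Subgroup (MulAut V)}
    (hd : OData E p V O) {X : Subgroup Ω} (hVX : V ≤ X) (hXN : X ≤ N)
    (hfa : E.IsFullyAutomized p X) (hrc : E.IsReceptive X) {β : Ω → Ω} (hβ : Mor E X β)
    (himg : imgS X β = X) :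
    ∃ (T : Subgroup Ω) (β' : Ω → Ω), Mor E T β' ∧ X ≤ T ∧ vZero N V O ⊓ normalizerIn N X ≤ T ∧
      ∀ x ∈ V, β' x = β x := by
  classical
  obtain ⟨hVN, hsc, hscV, hNV⟩ := normal_facts hV
  have hXfin : Finite X := finite_of_le hXN
  have hVfin : Finite V := finite_of_le hVN
  obtain ⟨res, hres⟩ := exists_res hXN hVX (fun f hf => hscV X f hVX hf)
  have hresA : ∀ α : ↥(E.autGroup X), res α ∈ E.autGroup V := res_mem hVN hXN hVX hres
  -- the preimage `OX` of `O` under the restriction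
  obtain ⟨OX, hOX⟩ : ∃ D : Subgroup (MulAut X), ∀ γ, γ ∈ D ↔
      ∃ h : γ ∈ E.autGroup X, res ⟨γ, h⟩ ∈ O := by
    refine ⟨(O.comap res).map (E.autGroup X).subtype, fun γ => ?_⟩
    rw [Subgroup.mem_map]
    constructor
    · rintro ⟨b, hb, rfl⟩
      exact ⟨b.2, hb⟩
    · rintro ⟨h, hb⟩
      exact ⟨⟨γ, h⟩, hb, rfl⟩
  have hOX_le : OX ≤ E.autGroup X := fun γ hγ => ((hOX γ).1 hγ).1
  have hOX_conj : ∀ a ∈ E.autGroup X, ∀ γ ∈ OX, a * γ * a⁻¹ ∈ OX := by
    intro a ha γ hγ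
    obtain ⟨hγA, hγO⟩ := (hOX γ).1 hγ
    have hmem : a * γ * a⁻¹ ∈ E.autGroup X :=
      Subgroup.mul_mem _ (Subgroup.mul_mem _ ha hγA) (Subgroup.inv_mem _ ha)
    refine (hOX _).2 ⟨hmem, ?_⟩
    have e : (⟨a * γ * a⁻¹, hmem⟩ : ↥(E.autGroup X)) = ⟨a, ha⟩ * ⟨γ, hγA⟩ * ⟨a, ha⟩⁻¹ := rfl
    rw [e, map_mul, map_mul, map_inv]
    exact hd.conj _ (hresA _) _ hγO
  have hOX_norm : E.autGroup X ≤ Subgroup.normalizer (OX : Set (MulAut X)) := by
    intro a ha
    rw [Subgroup.mem_normalizer_iff]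
    intro γ
    refine ⟨hOX_conj a ha γ, fun h => ?_⟩
    have := hOX_conj a⁻¹ (Subgroup.inv_mem _ ha) _ h
    have e : a⁻¹ * (a * γ * a⁻¹) * a⁻¹⁻¹ = γ := by group
    rwa [e] at this
  have hsylX : IsSylIn p (autInducedBy N X) (E.autGroup X) := hfa.2
  have hsyl := hsylX.inf_of_normal (autInducedBy_le_autGroup E hXN) hOX_le hOX_norm
  -- `β` as an automorphism
  obtain ⟨bA, hbA, hbAβ⟩ : ∃ bA : MulAut X, bA ∈ E.autGroup X ∧ ∀ x ∈ X, autFun X bA x = β x :=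
    ⟨mkAut hβ himg, mkAut_mem hβ himg, fun x hx => autFun_mkAut hβ himg hx⟩
  have hX'le : (autInducedBy N X ⊓ OX).map (MulAut.conj bA).toMonoidHom ≤ OX := by
    rintro _ ⟨γ, hγ, rfl⟩
    exact hOX_conj bA hbA γ hγ.2
  have hX'p : IsPGroup p ((autInducedBy N X ⊓ OX).map (MulAut.conj bA).toMonoidHom) :=
    ((autInducedBy_isPGroup hN X).to_le inf_le_left).map _
  obtain ⟨δ, hδOX, hδ⟩ := hsyl.exists_conj_le hX'le hX'p
  obtain ⟨hδA, hδO⟩ := (hOX δ).1 hδOX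
  -- (H3)
  obtain ⟨g, hgN, hgX, Hg⟩ := hd.h3 X hVX hXN hfa δ hδA ⟨res ⟨δ, hδA⟩, hδO, fun x hx => by
    rw [autFun_of_mem (res ⟨δ, hδA⟩) hx, hres]⟩
  obtain ⟨σ, Hσ⟩ := exists_conjAut hgX
  have hσind : σ ∈ autInducedBy N X := (mem_autInducedBy_iff N X σ).2 ⟨g, hgN, Hσ⟩
  have hσA : σ ∈ E.autGroup X := autInducedBy_le_autGroup E hXN hσind
  have hresσ : res ⟨σ, hσA⟩ = res ⟨δ, hδA⟩ := by
    ext x
    rw [hres, hres]
    show autFun X σ (x : Ω) = autFun X δ (x : Ω)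
    rw [Hg x x.2, autFun_of_mem σ (hVX x.2), Hσ]
  -- `κ = σ⁻¹ δ` acts trivially on `V`
  have hκA : σ⁻¹ * δ ∈ E.autGroup X := Subgroup.mul_mem _ (Subgroup.inv_mem _ hσA) hδA
  have hκV : ∀ y ∈ V, autFun X (σ⁻¹ * δ) y = y := by
    intro y hy
    have h1 : res ⟨σ⁻¹ * δ, hκA⟩ = 1 := by
      have e : (⟨σ⁻¹ * δ, hκA⟩ : ↥(E.autGroup X)) = ⟨σ, hσA⟩⁻¹ * ⟨δ, hδA⟩ := rfl
      rw [e, map_mul, map_inv, hresσ, inv_mul_cancel]
    have h2 := hres ⟨σ⁻¹ * δ, hκA⟩ ⟨y, hy⟩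
    rw [h1] at h2
    exact h2.symm
  -- `β' = κ β`
  have hβ'A : σ⁻¹ * δ * bA ∈ E.autGroup X := Subgroup.mul_mem _ hκA hbA
  have hm' : Mor E X (autFun X (σ⁻¹ * δ * bA)) := (mem_autGroup_iff hXN _).1 hβ'A
  have himg' : imgS X (autFun X (σ⁻¹ * δ * bA)) = X := imgS_autFun hm'
  have hagree : ∀ x ∈ V, autFun X (σ⁻¹ * δ * bA) x = β x := by
    intro x hx
    have hβx : β x ∈ V := hsc V β le_rfl (hβ.restrict hVX) x hx
    rw [autFun_mul _ _ (hVX hx), hbAβ x (hVX hx), hκV _ hβx]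
  obtain ⟨f', hf', hf'f⟩ := receptive_extend' hrc hm' himg'
  refine ⟨extSub N X (autFun X (σ⁻¹ * δ * bA)), f', hf', le_extSub hm', ?_,
    fun x hx => (hf'f x (hVX hx)).trans (hagree x hx)⟩
  -- `V₀ ∩ N_N(X)` lies in the extender
  intro g' hg'
  obtain ⟨hg'V₀, hg'NX⟩ := Subgroup.mem_inf.1 hg'
  obtain ⟨hg'N, hg'X⟩ := mem_normalizerIn_iff.1 hg'NX
  obtain ⟨-, κ', hκ'O, Hκ'⟩ := mem_vZero.1 hg'V₀
  obtain ⟨s, Hs⟩ := exists_conjAut hg'X
  have hsind : s ∈ autInducedBy N X := (mem_autInducedBy_iff N X s).2 ⟨g', hg'N, Hs⟩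
  have hsA : s ∈ E.autGroup X := autInducedBy_le_autGroup E hXN hsind
  have hsOX : s ∈ OX := by
    refine (hOX s).2 ⟨hsA, ?_⟩
    have e : res ⟨s, hsA⟩ = κ' := by
      ext x
      rw [hres]
      show autFun X s (x : Ω) = _
      rw [autFun_of_mem s (hVX x.2), Hs, Hκ' x x.2, autFun_apply]
    rw [e]
    exact hκ'O
  have hX' : bA * s * bA⁻¹ ∈ (autInducedBy N X ⊓ OX).map (MulAut.conj bA).toMonoidHom :=
    ⟨s, ⟨hsind, hsOX⟩, rfl⟩
  have h2 := (Subgroup.mem_inf.1 (hδ _ hX')).1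
  have h3 : σ⁻¹ * (δ * (bA * s * bA⁻¹) * δ⁻¹) * σ ∈ autInducedBy N X :=
    Subgroup.mul_mem _ (Subgroup.mul_mem _ (Subgroup.inv_mem _ hσind) h2) hσind
  obtain ⟨h', hh', Hh'⟩ := (mem_autInducedBy_iff N X _).1 h3
  rw [mem_extSub_iff hm']
  refine ⟨hg'N, hg'X, h', hh', fun x hx => ?_⟩
  have e : σ⁻¹ * (δ * (bA * s * bA⁻¹) * δ⁻¹) * σ = (σ⁻¹ * δ * bA) * s * (σ⁻¹ * δ * bA)⁻¹ := by
    group
  rw [e] at Hh'
  have := Hh' ((σ⁻¹ * δ * bA) ⟨x, hx⟩)
  rw [MulAut.mul_apply, MulAut.mul_apply, MulAut.inv_apply_self] at this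
  rw [autFun_of_mem _ hx, autFun_of_mem _ (conj_mem_of_mem_normalizer hg'X hx), ← this]
  congr 2
  exact Subtype.ext (Hs ⟨x, hx⟩).symm

/-- The inductive step of the extension claim. -/
lemma claimE_step {N : Subgroup Ω} [Finite N] {p : ℕ} [Fact p.Prime] {E : FusionSystem N}
    {V : Subgroup Ω} (hN : IsPGroup p N) (hV : E.IsNormal V)
    (hover : ∀ X : Subgroup Ω, V < X → X ≤ N → SatClass E p X)
    {O : Subgroup (MulAut V)} (hd : OData E p V O)
    {R : Subgroup Ω} {φ : Ω → Ω} (hφ : Mor E R φ) (hVR : V < R) (hnot : ¬ vZero N V O ≤ R)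
    (ih : ∀ (R' : Subgroup Ω) (φ' : Ω → Ω), Mor E R' φ' → V < R' → Nat.card R < Nat.card R' →
      ∃ φ'', Mor E (vZero N V O) φ'' ∧ ∀ x ∈ V, φ'' x = φ' x) :
    ∃ φ', Mor E (vZero N V O) φ' ∧ ∀ x ∈ V, φ' x = φ x := by
  classical
  obtain ⟨hVN, hsc, hscV, hNV⟩ := normal_facts hV
  obtain ⟨hVV₀, hV₀N, hV₀sc, hV₀inv, hNV₀⟩ := vZero_facts hV hd
  have hRN : R ≤ N := hφ.le
  have hVfin : Finite V := finite_of_le hVN
  -- `R₁ = N_{R V₀}(R)`
  have hRV₀N : R ⊔ vZero N V O ≤ N := sup_le hRN hV₀N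
  have hfinRV : Finite ↥(R ⊔ vZero N V O) := finite_of_le hRV₀N
  have hlt : R < R ⊔ vZero N V O :=
    lt_of_le_of_ne le_sup_left (fun h => hnot (by rw [h]; exact le_sup_right))
  have hR₁ : R < normalizerIn (R ⊔ vZero N V O) R :=
    lt_normalizerIn (S := R ⊔ vZero N V O) (hN.to_le hRV₀N) hlt
  have hR₁le : normalizerIn (R ⊔ vZero N V O) R ≤ normalizerIn N R := inf_le_inf_right _ hRV₀N
  -- the fully automized receptive conjugate `X` of `R`
  obtain ⟨X, hRX, hfa, hrc⟩ := hover R hVR hRN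
  obtain ⟨χ, hχ, hχmaps, hχR⟩ := exists_normalizer_map hN hfa hrc hRX
  have hφR : E.IsConj (imgS R φ) X := isConj_trans (isConj_symm (isConj_iff.2 ⟨φ, hφ, rfl⟩)) hRX
  obtain ⟨χ', hχ', hχ'maps, hχ'R⟩ := exists_normalizer_map hN hfa hrc hφR
  have hXN : X ≤ N := isConj_le_right hRX
  have hRNR : R ≤ normalizerIn N R := Cfsg.Agent.H86.le_normalizerIn hRN
  have hχRm : Mor E R χ := hχ.restrict hRNR
  have hVX : V ≤ X := by
    intro v hv
    have h1 : imgS V χ = V := hscV _ χ (hVR.le.trans hRNR) hχ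
    rw [← h1] at hv
    obtain ⟨v', hv', rfl⟩ := (hχ.restrict (hVR.le.trans hRNR)).mem_imgS.1 hv
    rw [← hχR]
    exact hχRm.mem_imgS_of_mem (hVR.le hv')
  have hXfin : Finite X := finite_of_le hXN
  -- `β = χ' φ χ⁻¹` on `X`
  have hinvχ : Mor E X (invOn R χ) := by
    have := hχRm.inv
    rwa [hχR] at this
  have hinvmem : ∀ y ∈ X, invOn R χ y ∈ R := fun y hy => hχRm.invOn_mem (by rw [hχR]; exact hy)
  have hφRle : imgS R φ ≤ normalizerIn N (imgS R φ) := Cfsg.Agent.H86.le_normalizerIn hφ.imgS_le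
  have hβ1 : Mor E X (φ ∘ invOn R χ) := hinvχ.comp hφ hinvmem
  have hβ : Mor E X (χ' ∘ (φ ∘ invOn R χ)) :=
    hβ1.comp hχ' (fun y hy => hφRle (hφ.mem_imgS_of_mem (hinvmem y hy)))
  have hβimg : imgS X (χ' ∘ (φ ∘ invOn R χ)) = X := by
    refine imgS_eq_of_maps hβ (fun y hy => ?_)
    rw [← hχ'R]
    exact (hχ'.restrict hφRle).mem_imgS_of_mem (hφ.mem_imgS_of_mem (hinvmem y hy))
  obtain ⟨T, β', hβ', hXT, hYT, hβ'β⟩ := exists_adjust hN hV hd hVX hXN hfa hrc hβ hβimg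
  -- `χ` maps `R₁` into `T`
  have hχT : ∀ x ∈ normalizerIn (R ⊔ vZero N V O) R, χ x ∈ T := by
    intro x hx
    have hx1 : x ∈ R ⊔ vZero N V O := (mem_normalizerIn_iff.1 hx).1
    have hcoe := Subgroup.coe_mul_of_left_le_normalizer_right R (vZero N V O)
      (fun r hr => hNV₀ r (hRN hr))
    have hx1' : x ∈ ((R ⊔ vZero N V O : Subgroup Ω) : Set Ω) := hx1
    rw [hcoe] at hx1'
    obtain ⟨r, hr, v, hv, hrv⟩ := Set.mem_mul.1 hx1'
    have hvN : v ∈ normalizerIn N R := by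
      have h1 : v = r⁻¹ * x := by rw [← hrv]; group
      rw [h1]
      exact Subgroup.mul_mem _ (Subgroup.inv_mem _ (hRNR hr)) (hR₁le hx)
    rw [← hrv, hχ.map_mul (hRNR hr) hvN]
    refine T.mul_mem (hXT ?_) (hYT (Subgroup.mem_inf.2 ⟨?_, ?_⟩))
    · rw [← hχR]
      exact hχRm.mem_imgS_of_mem hr
    · exact hV₀sc _ χ (hVR.le.trans hRNR) hχ v hvN hv
    · exact hχmaps v hvN
  have hρ : Mor E (normalizerIn (R ⊔ vZero N V O) R) (β' ∘ χ) :=
    (hχ.restrict hR₁le).comp hβ' hχT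
  have hfinR₁ : Finite ↥(normalizerIn (R ⊔ vZero N V O) R) :=
    finite_of_le (hR₁le.trans inf_le_left)
  obtain ⟨ρh, hρh, hρhρ⟩ := ih _ _ hρ (lt_of_lt_of_le hVR hR₁.le) (card_lt_card_of_lt hR₁)
  -- `χ'` on `N_N(φ R)`
  have hφRN : imgS R φ < N := by
    refine lt_of_le_of_ne hφ.imgS_le (fun h => ?_)
    have hc : Nat.card R = Nat.card N := by rw [← hφ.card_imgS, h]
    have hRe : R = N := Subgroup.eq_of_le_of_card_ge hRN (by rw [hc])
    exact hnot (by rw [hRe]; exact hV₀N)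
  have hφRlt : imgS R φ < normalizerIn N (imgS R φ) := lt_normalizerIn hN hφRN
  have hVφR : V ≤ imgS R φ := by
    intro v hv
    have h1 : imgS V φ = V := hscV _ φ hVR.le hφ
    rw [← h1] at hv
    exact hφ.imgS_mono hVR.le hv
  have hfinNφ : Finite ↥(normalizerIn N (imgS R φ)) := finite_of_le inf_le_left
  obtain ⟨χh, hχh, hχhχ⟩ := ih _ _ hχ' (lt_of_le_of_lt hVφR hφRlt) (by
    rw [← hφ.card_imgS]
    exact card_lt_card_of_lt hφRlt)
  -- assemble
  have himgρ : imgS (vZero N V O) ρh = vZero N V O := hV₀inv ρh hρh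
  have himgχ : imgS (vZero N V O) χh = vZero N V O := hV₀inv χh hχh
  have hinvχh : Mor E (vZero N V O) (invOn (vZero N V O) χh) := by
    have := hχh.inv
    rwa [himgχ] at this
  have hρmem : ∀ x ∈ vZero N V O, ρh x ∈ vZero N V O := by
    intro x hx
    have := hρh.mem_imgS_of_mem hx
    rwa [himgρ] at this
  refine ⟨invOn (vZero N V O) χh ∘ ρh, hρh.comp hinvχh hρmem, fun v hv => ?_⟩
  have hvR : v ∈ R := hVR.le hv
  have hφv : φ v ∈ V := hsc V φ le_rfl (hφ.restrict hVR.le) v hv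
  have hχv : χ v ∈ V := hsc V χ le_rfl (hχ.restrict (hVR.le.trans hRNR)) v hv
  show invOn (vZero N V O) χh (ρh v) = φ v
  rw [hρhρ v hv]
  show invOn (vZero N V O) χh (β' (χ v)) = φ v
  rw [hβ'β _ hχv]
  show invOn (vZero N V O) χh (χ' (φ (invOn R χ (χ v)))) = φ v
  rw [invOn_apply hχRm.injOn hvR, ← hχhχ _ hφv, invOn_apply hχh.injOn (hVV₀ hφv)]

/-- The extension claim: every map of `E` on a subgroup strictly containing `V` agrees on `V` with a
map of `E` on `V₀`. -/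
lemma claimE {N : Subgroup Ω} [Finite N] {p : ℕ} [Fact p.Prime] {E : FusionSystem N}
    {V : Subgroup Ω} (hN : IsPGroup p N) (hV : E.IsNormal V)
    (hover : ∀ X : Subgroup Ω, V < X → X ≤ N → SatClass E p X)
    {O : Subgroup (MulAut V)} (hd : OData E p V O) :
    ∀ (n : ℕ) (R : Subgroup Ω) (φ : Ω → Ω), Mor E R φ → V < R → Nat.card N - Nat.card R ≤ n →
      ∃ φ', Mor E (vZero N V O) φ' ∧ ∀ x ∈ V, φ' x = φ x := by
  intro n
  induction n with
  | zero =>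
    intro R φ hφ hVR hn
    by_cases hle : vZero N V O ≤ R
    · exact ⟨φ, hφ.restrict hle, fun _ _ => rfl⟩
    · refine claimE_step hN hV hover hd hφ hVR hle (fun R' φ' hφ' _ hc => ?_)
      have : Nat.card R' ≤ Nat.card N := Subgroup.card_le_of_le hφ'.le
      omega
  | succ n ih =>
    intro R φ hφ hVR hn
    by_cases hle : vZero N V O ≤ R
    · exact ⟨φ, hφ.restrict hle, fun _ _ => rfl⟩
    · refine claimE_step hN hV hover hd hφ hVR hle (fun R' φ' hφ' hVR' hc => ?_)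
      have : Nat.card R' ≤ Nat.card N := Subgroup.card_le_of_le hφ'.le
      exact ih R' φ' hφ' hVR' (by omega)

/-- The predicate used for the generation argument: `f` on `X` has an extension to `X V` whose
restriction to `V` extends to `V₀`. -/
def GoodExt {N : Subgroup Ω} (E : FusionSystem N) (V V₀ : Subgroup Ω) (X : Subgroup Ω) (f : Ω → Ω) :
    Prop :=
  ∃ f', Mor E (X ⊔ V) f' ∧ (∀ x ∈ X, f' x = f x) ∧ ∃ a', Mor E V₀ a' ∧ ∀ x ∈ V, a' x = f' x

/-- The statement for an abstract subgroup `O` of `Aut_E(V)` with the properties `OData`. -/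
theorem ext_core {N : Subgroup Ω} [Finite N] {p : ℕ} [Fact p.Prime] {E : FusionSystem N}
    {V : Subgroup Ω} (hN : IsPGroup p N) (hV : E.IsNormal V)
    (hover : ∀ X : Subgroup Ω, V < X → X ≤ N → SatClass E p X)
    (hgen : ∀ D : FusionSystem N, (∀ X : Subgroup Ω, V < X → E.Hom X ⊆ D.Hom X) → E ≤ D)
    {O : Subgroup (MulAut V)} (hd : OData E p V O) :
    ∃ V₀ : Subgroup Ω, V < V₀ ∧ V₀ ≤ N ∧ (∀ f, Mor E V₀ f → imgS V₀ f = V₀) ∧
      ∀ a, Mor E V a → ∃ a', Mor E V₀ a' ∧ ∀ x ∈ V, a' x = a x := by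
  obtain ⟨hVN, hsc, hscV, hNV⟩ := normal_facts hV
  obtain ⟨hVV₀, hV₀N, hV₀sc, hV₀inv, hNV₀⟩ := vZero_facts hV hd
  have hlt : V < vZero N V O := by
    obtain ⟨g, hgN, hgV, o, ho, H⟩ := hd.big
    exact lt_of_le_of_ne hVV₀ (fun h => hgV (by rw [h]; exact mem_vZero.2 ⟨hgN, o, ho, H⟩))
  refine ⟨vZero N V O, hlt, hV₀N, hV₀inv, ?_⟩
  have hE := claimE hN hV hover hd
  have hcongr : ∀ (P : Subgroup Ω) (f g : Ω → Ω), Mor E P f → (∀ x ∈ P, f x = g x) →
      GoodExt E V (vZero N V O) P f → GoodExt E V (vZero N V O) P g := by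
    rintro P f g - hfg ⟨f', hf', hf'f, a', ha', ha'f'⟩
    exact ⟨f', hf', fun x hx => (hf'f x hx).trans (hfg x hx), a', ha', ha'f'⟩
  have hconj : ∀ (P : Subgroup Ω) (g : Ω), P ≤ N → g ∈ N →
      GoodExt E V (vZero N V O) P (fun x => g * x * g⁻¹) := by
    intro P g hP hg
    exact ⟨fun x => g * x * g⁻¹, Mor.conj E (sup_le hP hVN) hg, fun _ _ => rfl,
      fun x => g * x * g⁻¹, Mor.conj E hV₀N hg, fun _ _ => rfl⟩
  have hcomp : ∀ (P Q : Subgroup Ω) (f g : Ω → Ω), Mor E P f → Mor E Q g → (∀ x ∈ P, f x ∈ Q) →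
      GoodExt E V (vZero N V O) P f → GoodExt E V (vZero N V O) Q g →
      GoodExt E V (vZero N V O) P (g ∘ f) := by
    rintro P Q f g hf hg hmaps ⟨f', hf', hf'f, a', ha', ha'f'⟩ ⟨g', hg', hg'g, b', hb', hb'g'⟩
    have hmaps' : ∀ x ∈ P ⊔ V, f' x ∈ Q ⊔ V := by
      intro x hx
      have h1 := hf'.mem_imgS_of_mem hx
      rw [Mor.imgS_sup hf'] at h1
      have hle : imgS P f' ⊔ imgS V f' ≤ Q ⊔ V := by
        refine sup_le_sup ?_ ?_
        · intro y hy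
          obtain ⟨x', hx', rfl⟩ := (hf'.restrict le_sup_left).mem_imgS.1 hy
          rw [hf'f x' hx']
          exact hmaps x' hx'
        · exact (hscV _ f' le_sup_right hf').le
      exact hle h1
    refine ⟨g' ∘ f', hf'.comp hg' hmaps', fun x hx => ?_, b' ∘ a', ha'.comp hb' (fun x hx => ?_),
      fun x hx => ?_⟩
    · show g' (f' x) = g (f x)
      rw [hf'f x hx, hg'g _ (hmaps x hx)]
    · have := ha'.mem_imgS_of_mem hx
      rwa [hV₀inv a' ha'] at this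
    · show b' (a' x) = g' (f' x)
      rw [ha'f' x hx, hb'g' _ (hsc V f' le_rfl (hf'.restrict le_sup_right) x hx)]
  have hinv : ∀ (P : Subgroup Ω) (f : Ω → Ω), Mor E P f → GoodExt E V (vZero N V O) P f →
      GoodExt E V (vZero N V O) (imgS P f) (invOn P f) := by
    rintro P f hf ⟨f', hf', hf'f, a', ha', ha'f'⟩
    have himg : imgS (P ⊔ V) f' = imgS P f ⊔ V := by
      rw [Mor.imgS_sup hf', hscV _ f' le_sup_right hf',
        Mor.imgS_congr (hf'.restrict le_sup_left) hf'f]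
    have h1 : Mor E (imgS P f ⊔ V) (invOn (P ⊔ V) f') := by
      have := hf'.inv
      rwa [himg] at this
    have h2 : Mor E (vZero N V O) (invOn (vZero N V O) a') := by
      have := ha'.inv
      rwa [hV₀inv a' ha'] at this
    refine ⟨invOn (P ⊔ V) f', h1, fun y hy => ?_, invOn (vZero N V O) a', h2, fun y hy => ?_⟩
    · obtain ⟨x, hx, rfl⟩ := hf.mem_imgS.1 hy
      rw [invOn_apply hf.injOn hx, ← hf'f x hx, invOn_apply hf'.injOn (Subgroup.mem_sup_left hx)]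
    · have hy' : y ∈ imgS V f' := by
        rw [hscV _ f' le_sup_right hf']
        exact hy
      obtain ⟨x, hx, rfl⟩ := (hf'.restrict le_sup_right).mem_imgS.1 hy'
      rw [invOn_apply hf'.injOn (Subgroup.mem_sup_right hx), ← ha'f' x hx,
        invOn_apply ha'.injOn (hVV₀ hx)]
  have hle := hgen (predSys E (GoodExt E V (vZero N V O)) hcongr hconj hcomp hinv)
    (fun X hVX φ hφ => by
      refine ⟨hφ, ?_⟩
      have hm := mor_extFun hφ
      obtain ⟨φ', hφ', hφ'φ⟩ := hE _ X (extFun X φ) hm hVX le_rfl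
      have e : X ⊔ V = X := sup_eq_left.2 hVX.le
      exact ⟨extFun X φ, by rw [e]; exact hm, fun _ _ => rfl, φ', hφ', hφ'φ⟩)
  intro a ha
  obtain ⟨-, f', hf', hf'a, a', ha', ha'f'⟩ :=
    mor_predSys_iff.1 ((fusionSystem_le_iff.1 hle) V a ha)
  exact ⟨a', ha', fun x hx => (ha'f' x hx).trans (hf'a x hx)⟩

/-- Case 1: `C_N(V) ≰ V`, with `O = Inn(V)`. -/
lemma oData_case1 {N : Subgroup Ω} [Finite N] {p : ℕ} {E : FusionSystem N}
    {V : Subgroup Ω} (hV : E.IsNormal V) (hC : ¬ centralizerIn N V ≤ V) : OData E p V (Inn V) := by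
  obtain ⟨hVN, hsc, hscV, hNV⟩ := normal_facts hV
  refine ⟨inn_le_autGroup E hVN, fun a _ o ho => (inn_normal V).conj_mem o ho a, le_rfl, ?_, ?_⟩
  · rintro X hVX hXN - γ - ⟨o, ho, H⟩
    obtain ⟨v, hv, Hv⟩ := (mem_inn_iff o).1 ho
    refine ⟨v, hVN hv, Subgroup.le_normalizer (hVX hv), fun x hx => ?_⟩
    rw [H x hx, autFun_of_mem o hx, Hv]
  · obtain ⟨g, hg, hgV⟩ := SetLike.not_le_iff_exists.1 hC
    obtain ⟨hgN, hgc⟩ := mem_centralizerIn_iff.1 hg
    refine ⟨g, hgN, hgV, 1, Subgroup.one_mem _, fun x hx => ?_⟩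
    rw [autFun_one hx, ← hgc x hx]
    group

/-- Case 2, the key point: an automorphism of a fully automized `X ≥ V` in `E` whose restriction to
`V` lies in `O_p(Aut_E(V))` is induced by an element of `N`, provided `C_N(V) ≤ V`. -/
lemma h3_case2 {N : Subgroup Ω} [Finite N] {p : ℕ} [Fact p.Prime] {E : FusionSystem N}
    {V : Subgroup Ω} (hN : IsPGroup p N) (hV : E.IsNormal V) (hC : centralizerIn N V ≤ V)
    {X : Subgroup Ω} (hVX : V ≤ X) (hXN : X ≤ N) (hfa : E.IsFullyAutomized p X) {γ : MulAut X}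
    (hγ : γ ∈ E.autGroup X) {o : MulAut V}
    (ho : o ∈ (pCore p ↥(E.autGroup V)).map (E.autGroup V).subtype)
    (H : ∀ x ∈ V, autFun X γ x = autFun V o x) : γ ∈ autInducedBy N X := by
  classical
  obtain ⟨hVN, hsc, hscV, hNV⟩ := normal_facts hV
  have hXfin : Finite X := finite_of_le hXN
  have hVfin : Finite V := finite_of_le hVN
  obtain ⟨res, hres⟩ := exists_res hXN hVX (fun f hf => hscV X f hVX hf)
  have hresA : ∀ α : ↥(E.autGroup X), res α ∈ E.autGroup V := res_mem hVN hXN hVX hres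
  obtain ⟨res', hres'⟩ : ∃ res' : ↥(E.autGroup X) →* ↥(E.autGroup V),
      ∀ α, ((res' α : ↥(E.autGroup V)) : MulAut V) = res α :=
    ⟨res.codRestrict (E.autGroup V) hresA, fun _ => rfl⟩
  have hker : IsPGroup p res'.ker := by
    obtain ⟨m, hm⟩ := IsPGroup.iff_card.1 (hN.to_le hVN)
    intro k
    refine ⟨m, ?_⟩
    have hk1 : res k.1 = 1 := by
      have h1 := k.2
      rw [MonoidHom.mem_ker] at h1
      rw [← hres', h1]
      rfl
    have hfix : ∀ v ∈ V, autFun X ((k.1 : ↥(E.autGroup X)) : MulAut X) v = v := by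
      intro v hv
      have h2 := hres k.1 ⟨v, hv⟩
      rw [hk1] at h2
      exact h2.symm
    have h3 := pow_card_eq_one_of_fix hNV hC hVX hXN ((k.1 : ↥(E.autGroup X)) : MulAut X) hfix
    rw [hm] at h3
    apply Subtype.ext
    apply Subtype.ext
    rw [Subgroup.coe_pow, Subgroup.coe_pow]
    exact h3
  have hOXn : ((pCore p ↥(E.autGroup V)).comap res').Normal :=
    (Cfsg.Agent.H86.pCore_normal p _).comap res'
  have hOXp : IsPGroup p ((pCore p ↥(E.autGroup V)).comap res') :=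
    (Cfsg.Agent.H86.pCore_isPGroup p _).comap_of_ker_isPGroup res' hker
  have hle := Cfsg.Agent.H86.le_pCore hOXn hOXp
  obtain ⟨Rs, hRs⟩ := hfa.2
  have hγ' : (⟨γ, hγ⟩ : ↥(E.autGroup X)) ∈ (Rs : Subgroup ↥(E.autGroup X)) := by
    refine Cfsg.Agent.H86.pCore_le_sylow Rs (hle ?_)
    rw [Subgroup.mem_comap]
    obtain ⟨o', ho', rfl⟩ := ho
    have e : res' ⟨γ, hγ⟩ = o' := by
      apply Subtype.ext
      rw [hres']
      ext x
      rw [hres]
      show autFun X γ (x : Ω) = _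
      rw [H x x.2, autFun_apply]
      rfl
    rw [e]
    exact ho'
  rw [hRs] at hγ'
  exact Subgroup.mem_subgroupOf.1 hγ'

/-- Case 2: `C_N(V) ≤ V` and `Aut_N(V) ∩ O_p(Aut_E(V)) ≰ Inn(V)`, with `O = O_p(Aut_E(V))`. -/
lemma oData_case2 {N : Subgroup Ω} [Finite N] {p : ℕ} [Fact p.Prime] {E : FusionSystem N}
    {V : Subgroup Ω} (hN : IsPGroup p N) (hV : E.IsNormal V) (hC : centralizerIn N V ≤ V)
    (hO : ¬ (autInducedBy N V ⊓ (pCore p ↥(E.autGroup V)).map (E.autGroup V).subtype ≤ Inn V)) :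
    OData E p V ((pCore p ↥(E.autGroup V)).map (E.autGroup V).subtype) := by
  obtain ⟨hVN, hsc, hscV, hNV⟩ := normal_facts hV
  refine ⟨?_, ?_, ?_, ?_, ?_⟩
  · rintro _ ⟨a, -, rfl⟩
    exact a.2
  · rintro a ha _ ⟨o', ho', rfl⟩
    exact ⟨_, (Cfsg.Agent.H86.pCore_normal p _).conj_mem o' ho' ⟨a, ha⟩, rfl⟩
  · intro α hα
    have hαA : α ∈ E.autGroup V := inn_le_autGroup E hVN hα
    have hp : IsPGroup p ↥((Inn V).subgroupOf (E.autGroup V)) :=
      ((autInducedBy_isPGroup hN V).to_le (inn_le_autInducedBy hVN)).comap_of_injective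
        (E.autGroup V).subtype (Subgroup.subtype_injective _)
    have hmem : (⟨α, hαA⟩ : ↥(E.autGroup V)) ∈ pCore p ↥(E.autGroup V) :=
      Cfsg.Agent.H86.le_pCore (inn_subgroupOf_normal E V) hp (Subgroup.mem_subgroupOf.2 hα)
    exact ⟨_, hmem, rfl⟩
  · rintro X hVX hXN hfa γ hγ ⟨o, ho, H⟩
    have hγind := h3_case2 hN hV hC hVX hXN hfa hγ ho H
    obtain ⟨g, hg, Hg⟩ := (mem_autInducedBy_iff N X γ).1 hγind
    refine ⟨g, hg, Cfsg.Agent.H86.mem_normalizer_of_induces Hg, fun x hx => ?_⟩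
    rw [autFun_of_mem γ (hVX hx), Hg]
  · obtain ⟨α, hα, hαI⟩ := SetLike.not_le_iff_exists.1 hO
    obtain ⟨hα1, hα2⟩ := Subgroup.mem_inf.1 hα
    obtain ⟨g, hg, Hg⟩ := (mem_autInducedBy_iff N V α).1 hα1
    refine ⟨g, hg, fun hgV => hαI ((mem_inn_iff α).2 ⟨g, hgV, Hg⟩), α, hα2, fun x hx => ?_⟩
    rw [autFun_of_mem α hx, Hg]

/-- **Piece EXT.** -/
theorem exists_ext_overgroup {N : Subgroup Ω} [Finite N] {p : ℕ} [Fact p.Prime]
    {E : FusionSystem N} {V : Subgroup Ω} (hN : IsPGroup p N) (hV : E.IsNormal V)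
    (hover : ∀ X : Subgroup Ω, V < X → X ≤ N → SatClass E p X)
    (hgen : ∀ D : FusionSystem N, (∀ X : Subgroup Ω, V < X → E.Hom X ⊆ D.Hom X) → E ≤ D)
    (hstar : ¬ centralizerIn N V ≤ V ∨
      ¬ (autInducedBy N V ⊓ (pCore p ↥(E.autGroup V)).map (E.autGroup V).subtype ≤ Inn V)) :
    ∃ V₀ : Subgroup Ω, V < V₀ ∧ V₀ ≤ N ∧ (∀ f, Mor E V₀ f → imgS V₀ f = V₀) ∧
      ∀ a, Mor E V a → ∃ a', Mor E V₀ a' ∧ ∀ x ∈ V, a' x = a x := by
  by_cases hC : centralizerIn N V ≤ V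
  · exact ext_core hN hV hover hgen (oData_case2 hN hV hC (hstar.resolve_left (not_not.2 hC)))
  · exact ext_core hN hV hover hgen (oData_case1 hV hC)

end Cfsg.Agent.H67.BC
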