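import Mathlib

/-!
# S3777 pieces KEYT and KEYREL (helper67, for helper43), modulo the piece AB

`key_type_of_ab`, `key_rel_of_ab`: the KEY lemma of helper43's proof of Vaughan-Lee's theorem,
with the abelian-maximal-subgroup lemma AB as a hypothesis `StAB`.
-/

set_option autoImplicit false
set_option linter.unusedSectionVars false
set_option linter.unusedVariables false
set_option linter.style.haveILetI false

namespace Cfsg.Agent.H67.VL

open Subgroup

open scoped commutatorElement

universe u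

/-- the statement of the piece AB (abelian maximal subgroup lemma) in the universe `u` -/
def StAB : Prop :=
  ∀ (Q : Type u) [Group Q] [Finite Q] (p : ℕ) [Fact p.Prime] (A : Subgroup Q) [A.Normal],
    (∀ x ∈ A, ∀ y ∈ A, x * y = y * x) → A.index = p →
    ∃ Z : Subgroup Q, Z ≤ A ∧ Nat.card (commutator Q) * Nat.card Z = Nat.card A ∧
      (∀ x ∈ A, x ∉ Z → Subgroup.centralizer ({x} : Set Q) ≤ A) ∧
      (∀ t : Q, t ∉ A → (Subgroup.centralizer ({t} : Set Q)).index * Nat.card Z = Nat.card A)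

/-- the order of the preimage of a subgroup of a quotient -/
theorem card_comap_mk' {G : Type u} [Group G] [Finite G] (K : Subgroup G) [K.Normal]
    (Z : Subgroup (G ⧸ K)) :
    Nat.card (Z.comap (QuotientGroup.mk' K)) = Nat.card K * Nat.card Z := by
  have h1 : (Z.comap (QuotientGroup.mk' K)).index = Z.index :=
    Subgroup.index_comap_of_surjective Z (QuotientGroup.mk'_surjective K)
  have h2 := Subgroup.card_mul_index (Z.comap (QuotientGroup.mk' K))
  have h3 := Subgroup.card_mul_index Z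
  have h4 := Subgroup.card_eq_card_quotient_mul_card_subgroup K
  have hpos : 0 < Z.index := Nat.pos_of_ne_zero Subgroup.index_ne_zero_of_finite
  apply Nat.eq_of_mul_eq_mul_right hpos
  rw [h1] at h2
  rw [h2, h4, ← h3]
  ring

theorem key_type_of_ab (hAB : StAB.{u}) {G : Type u} [Group G] [Finite G] {p : ℕ}
    [Fact p.Prime] (hG : IsPGroup p G) (M : Subgroup G) [M.Normal] (hidx : M.index = p) :
    ∃ (N₂ : Subgroup G) (β : ℕ), N₂ ≤ M ∧ ⁅M, M⁆ ≤ N₂ ∧
      Nat.card M = p ^ β * Nat.card N₂ ∧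
      Nat.card (commutator G) = p ^ β * Nat.card (⁅M, M⁆ : Subgroup G) ∧
      (∀ x ∈ M, x ∉ N₂ → Subgroup.centralizer ({x} : Set G) ≤ M) ∧
      (∀ t : G, t ∉ M → p ^ β ≤ (Subgroup.centralizer ({t} : Set G)).index) := by
  classical
  have hp : p.Prime := Fact.out
  obtain ⟨K, hK⟩ : ∃ K : Subgroup G, K = ⁅M, M⁆ := ⟨_, rfl⟩
  haveI hKn : K.Normal := by rw [hK]; exact Subgroup.commutator_normal M M
  have hKM : K ≤ M := by rw [hK]; exact Subgroup.commutator_le_left M M
  have hKc : K ≤ commutator G := by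
    rw [hK, commutator_def]
    exact Subgroup.commutator_mono le_top le_top
  rw [← hK]
  obtain ⟨π, hπ⟩ : ∃ π : G →* G ⧸ K, π = QuotientGroup.mk' K := ⟨_, rfl⟩
  have hπs : Function.Surjective π := by rw [hπ]; exact QuotientGroup.mk'_surjective K
  have hker : π.ker = K := by rw [hπ]; exact QuotientGroup.ker_mk' K
  have hcomap : ∀ Z : Subgroup (G ⧸ K), Nat.card (Z.comap π) = Nat.card K * Nat.card Z := by
    intro Z; rw [hπ]; exact card_comap_mk' K Z
  obtain ⟨A, hA⟩ : ∃ A : Subgroup (G ⧸ K), A = M.map π := ⟨_, rfl⟩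
  haveI : A.Normal := by rw [hA]; exact Subgroup.Normal.map inferInstance π hπs
  have hAcomap : A.comap π = M := by
    rw [hA, Subgroup.comap_map_eq_self]; rw [hker]; exact hKM
  have hAab : ∀ x ∈ A, ∀ y ∈ A, x * y = y * x := by
    rw [hA]
    rintro _ ⟨m, hm, rfl⟩ _ ⟨m', hm', rfl⟩
    rw [← map_mul, ← map_mul, hπ]
    apply (QuotientGroup.eq).mpr
    have h1 : (m * m')⁻¹ * (m' * m) = ⁅m'⁻¹, m⁻¹⁆ := by
      rw [commutatorElement_def]; group
    rw [h1, hK]
    exact Subgroup.commutator_mem_commutator (inv_mem hm') (inv_mem hm)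
  have hAidx : A.index = p := by
    rw [hA, Subgroup.index_map_eq M hπs (by rw [hker]; exact hKM), hidx]
  obtain ⟨Z, hZA, hcard, hcent, hidxt⟩ := hAB (G ⧸ K) p A hAab hAidx
  obtain ⟨N₂, hN₂⟩ : ∃ N₂ : Subgroup G, N₂ = Z.comap π := ⟨_, rfl⟩
  have hN₂M : N₂ ≤ M := by
    rw [← hAcomap, hN₂]; exact Subgroup.comap_mono hZA
  have hKN₂ : K ≤ N₂ := by
    intro k hk
    rw [hN₂, Subgroup.mem_comap]
    have h1 : π k = 1 := by rw [← MonoidHom.mem_ker, hker]; exact hk
    rw [h1]; exact one_mem _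
  have hcN₂ : Nat.card N₂ = Nat.card K * Nat.card Z := by rw [hN₂]; exact hcomap Z
  have hcM : Nat.card M = Nat.card K * Nat.card A := by
    have h1 := hcomap A
    rw [hAcomap] at h1
    exact h1
  have hcomm : (commutator (G ⧸ K)).comap π = commutator G := by
    have h1 : commutator (G ⧸ K) = (commutator G).map π := by
      rw [commutator_def, commutator_def, Subgroup.map_commutator,
        Subgroup.map_top_of_surjective π hπs]
    rw [h1, Subgroup.comap_map_eq_self]; rw [hker]; exact hKc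
  have hcC : Nat.card (commutator G) = Nat.card K * Nat.card (commutator (G ⧸ K)) := by
    have h1 := hcomap (commutator (G ⧸ K))
    rw [hcomm] at h1
    exact h1
  obtain ⟨m, hm⟩ := (hG.to_subgroup M).exists_card_eq
  obtain ⟨n, hn⟩ := (hG.to_subgroup N₂).exists_card_eq
  have hnm : n ≤ m := by
    have h1 := Subgroup.card_le_of_le hN₂M
    rw [hm, hn] at h1
    exact (Nat.pow_le_pow_iff_right hp.one_lt).mp h1
  have hMN : Nat.card M = p ^ (m - n) * Nat.card N₂ := by
    rw [hm, hn, ← pow_add, Nat.sub_add_cancel hnm]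
  have hKpos : 0 < Nat.card K := Nat.card_pos
  have hZpos : 0 < Nat.card Z := Nat.card_pos
  have hN₂pos : 0 < Nat.card N₂ := Nat.card_pos
  have hAZ : Nat.card A = p ^ (m - n) * Nat.card Z := by
    apply Nat.eq_of_mul_eq_mul_left hKpos
    rw [← hcM, hMN, hcN₂]
    ring
  refine ⟨N₂, m - n, hN₂M, hKN₂, hMN, ?_, ?_, ?_⟩
  · apply Nat.eq_of_mul_eq_mul_right hZpos
    rw [hcC, mul_assoc, hcard, hAZ]
    ring
  · intro x hx hxN g hg
    have hπx : π x ∈ A := by rw [hA]; exact Subgroup.mem_map_of_mem π hx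
    have hπxZ : π x ∉ Z := fun h => hxN (by rw [hN₂]; exact h)
    have h1 := hcent (π x) hπx hπxZ
    have hg' : π g ∈ centralizer ({π x} : Set (G ⧸ K)) := by
      rw [Subgroup.mem_centralizer_singleton_iff] at hg ⊢
      rw [← map_mul, ← map_mul, hg]
    have h2 : g ∈ A.comap π := h1 hg'
    rw [hAcomap] at h2
    exact h2
  · intro t ht
    have hπt : π t ∉ A := fun h => ht (by rw [← hAcomap]; exact h)
    have h1 := hidxt (π t) hπt
    have h2 : (centralizer ({π t} : Set (G ⧸ K))).index = p ^ (m - n) := by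
      apply Nat.eq_of_mul_eq_mul_right hZpos
      rw [h1, hAZ]
    have hle : centralizer ({t} : Set G) ≤ (centralizer ({π t} : Set (G ⧸ K))).comap π := by
      intro g hg
      rw [Subgroup.mem_comap]
      rw [Subgroup.mem_centralizer_singleton_iff] at hg ⊢
      rw [← map_mul, ← map_mul, hg]
    have h3 := Subgroup.index_dvd_of_le hle
    rw [Subgroup.index_comap_of_surjective _ hπs, h2] at h3
    exact Nat.le_of_dvd (Nat.pos_of_ne_zero Subgroup.index_ne_zero_of_finite) h3

theorem key_rel_of_ab (hAB : StAB.{u}) {G : Type u} [Group G] [Finite G] {p : ℕ}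
    [Fact p.Prime] (hG : IsPGroup p G) (H M : Subgroup G) (hMH : M ≤ H)
    (hidx : M.relIndex H = p) :
    ∃ (N₂ : Subgroup G) (β : ℕ), N₂ ≤ M ∧ ⁅M, M⁆ ≤ N₂ ∧
      Nat.card M = p ^ β * Nat.card N₂ ∧
      Nat.card (⁅H, H⁆ : Subgroup G) = p ^ β * Nat.card (⁅M, M⁆ : Subgroup G) ∧
      (∀ x ∈ M, x ∉ N₂ → Subgroup.centralizer ({x} : Set G) ⊓ H ≤ M) ∧
      (∀ t ∈ H, t ∉ M → p ^ β ≤ (Subgroup.centralizer ({t} : Set G)).relIndex H) := by
  classical
  have hp : p.Prime := Fact.out
  have hHp : IsPGroup p H := hG.to_subgroup H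
  obtain ⟨M', hM'⟩ : ∃ M' : Subgroup H, M' = M.subgroupOf H := ⟨_, rfl⟩
  have hidx' : M'.index = p := by rw [hM']; exact hidx
  haveI : M'.Normal := by
    apply Subgroup.normal_of_index_eq_minFac_card
    rw [hidx']
    obtain ⟨k, hk⟩ := hHp.exists_card_eq
    have hk0 : k ≠ 0 := by
      rintro rfl
      have h1 : M'.index ∣ Nat.card H := Subgroup.index_dvd_card M'
      rw [hidx', hk, pow_zero] at h1
      exact hp.one_lt.ne' (Nat.dvd_one.mp h1)
    rw [hk, Nat.Prime.pow_minFac hp hk0]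
  obtain ⟨N₂', β, hN₂M', hcomN₂', hcardM', hcardC', hcent', hidxt'⟩ :=
    key_type_of_ab hAB hHp M' hidx'
  have hinj : Function.Injective H.subtype := Subgroup.subtype_injective H
  have hM'map : M'.map H.subtype = M := by
    rw [hM', Subgroup.subgroupOf_map_subtype, inf_eq_left.mpr hMH]
  have hMM : (⁅M, M⁆ : Subgroup G) = (⁅M', M'⁆ : Subgroup H).map H.subtype := by
    rw [Subgroup.map_commutator, hM'map]
  have hHH : (⁅H, H⁆ : Subgroup G) = (commutator H).map H.subtype := by
    rw [commutator_def, Subgroup.map_commutator, ← MonoidHom.range_eq_map, Subgroup.range_subtype]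
  refine ⟨N₂'.map H.subtype, β, ?_, ?_, ?_, ?_, ?_, ?_⟩
  · rw [← hM'map]; exact Subgroup.map_mono hN₂M'
  · rw [hMM]; exact Subgroup.map_mono hcomN₂'
  · rw [Subgroup.card_map_of_injective hinj, ← hcardM']
    have h1 : Nat.card (M'.map H.subtype) = Nat.card M' := Subgroup.card_map_of_injective hinj
    rw [hM'map] at h1
    exact h1
  · rw [hHH, hMM, Subgroup.card_map_of_injective hinj, Subgroup.card_map_of_injective hinj]
    exact hcardC'
  · intro x hx hxN g hg
    have hxH : x ∈ H := hMH hx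
    have hx' : (⟨x, hxH⟩ : H) ∈ M' := by rw [hM']; exact Subgroup.mem_subgroupOf.mpr hx
    have hxN' : (⟨x, hxH⟩ : H) ∉ N₂' := fun h => hxN ⟨⟨x, hxH⟩, h, rfl⟩
    have hc := hcent' ⟨x, hxH⟩ hx' hxN'
    have hg1 := Subgroup.mem_centralizer_singleton_iff.mp (Subgroup.mem_inf.mp hg).1
    have hg' : (⟨g, (Subgroup.mem_inf.mp hg).2⟩ : H) ∈ centralizer ({⟨x, hxH⟩} : Set H) := by
      rw [Subgroup.mem_centralizer_singleton_iff]
      apply Subtype.ext
      exact hg1
    have h2 := hc hg'
    rw [hM'] at h2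
    exact Subgroup.mem_subgroupOf.mp h2
  · intro t htH htM
    have ht' : (⟨t, htH⟩ : H) ∉ M' := fun h => htM (by
      rw [hM'] at h; exact Subgroup.mem_subgroupOf.mp h)
    have h1 := hidxt' ⟨t, htH⟩ ht'
    have h2 : centralizer ({⟨t, htH⟩} : Set H) = (centralizer ({t} : Set G)).subgroupOf H := by
      ext g
      rw [Subgroup.mem_subgroupOf, Subgroup.mem_centralizer_singleton_iff,
        Subgroup.mem_centralizer_singleton_iff]
      constructor
      · intro h; exact congrArg Subtype.val h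
      · intro h; apply Subtype.ext; exact h
    rw [h2] at h1
    exact h1

end Cfsg.Agent.H67.VL
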