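import Mathlib
import Cfsg.Agent.H67.VLKey

/-!
# S4701 piece CORE (helper67, for helper78)

`exists_core`: a maximal normal `p'`-subgroup; `quot_core`: the quotient by it has no nontrivial
normal `p'`-subgroup.  (`quot_core` needs the extra hypothesis `¬ p ∣ Nat.card K`: without it the
posted statement is false, e.g. `G = C_p × C_q`, `K = C_p`.)
-/

set_option autoImplicit false
set_option linter.unusedSectionVars false
set_option linter.unusedVariables false
set_option linter.style.haveILetI false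

namespace Cfsg.Agent.H67.BR

/-- **S4701 piece CORE (1).** -/
theorem exists_core {G : Type*} [Group G] [Finite G] (p : ℕ) [Fact p.Prime] :
    ∃ K : Subgroup G, K.Normal ∧ ¬ p ∣ Nat.card K ∧
      ∀ L : Subgroup G, L.Normal → K ≤ L → ¬ p ∣ Nat.card L → L = K := by
  classical
  have hp : p.Prime := Fact.out
  have hne : ({K : Subgroup G | K.Normal ∧ ¬ p ∣ Nat.card K}).Nonempty := by
    refine ⟨⊥, inferInstance, ?_⟩
    rw [Subgroup.card_bot]
    exact fun h => hp.one_lt.ne' (Nat.dvd_one.mp h)
  obtain ⟨K, hK, hmax⟩ := Set.exists_max_image _ (fun K : Subgroup G => Nat.card K)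
    (Set.toFinite _) hne
  refine ⟨K, hK.1, hK.2, fun L hL hKL hpL => ?_⟩
  exact (Subgroup.eq_of_le_of_card_ge hKL (hmax L ⟨hL, hpL⟩)).symm

/-- **S4701 piece CORE (2)** (with the extra hypothesis `hK`). -/
theorem quot_core {G : Type*} [Group G] [Finite G] (p : ℕ) [Fact p.Prime] (K : Subgroup G)
    [K.Normal] (hK : ¬ p ∣ Nat.card K)
    (hmax : ∀ L : Subgroup G, L.Normal → K ≤ L → ¬ p ∣ Nat.card L → L = K)
    (M : Subgroup (G ⧸ K)) (hM : M.Normal) (hpM : ¬ p ∣ Nat.card M) : M = ⊥ := by
  have hp : p.Prime := Fact.out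
  have hLn : (M.comap (QuotientGroup.mk' K)).Normal := hM.comap _
  have hKL : K ≤ M.comap (QuotientGroup.mk' K) := by
    intro k hk
    rw [Subgroup.mem_comap]
    have h1 : QuotientGroup.mk' K k = 1 := (QuotientGroup.eq_one_iff k).mpr hk
    rw [h1]; exact one_mem M
  have hcard := Cfsg.Agent.H67.VL.card_comap_mk' K M
  have hpL : ¬ p ∣ Nat.card (M.comap (QuotientGroup.mk' K)) := by
    rw [hcard]; exact hp.not_dvd_mul hK hpM
  have hL := hmax _ hLn hKL hpL
  have h1 : M = (M.comap (QuotientGroup.mk' K)).map (QuotientGroup.mk' K) :=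
    (Subgroup.map_comap_eq_self_of_surjective (QuotientGroup.mk'_surjective K) M).symm
  rw [h1, hL]
  exact QuotientGroup.map_mk'_self K

end Cfsg.Agent.H67.BR
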