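import Mathlib

/-!
# S4701 piece CPFALSE (helper67, for helper78)

A perfect finite group with `p² ∤ |Q|` has no normal subgroup of order `p`.
-/

set_option autoImplicit false
set_option linter.unusedSectionVars false
set_option linter.unusedVariables false
set_option linter.style.haveILetI false

namespace Cfsg.Agent.H67.BR

open scoped commutatorElement

/-- a homomorphism with commuting values kills the commutator subgroup -/
theorem commutator_le_ker_of_comm {Q : Type*} [Group Q] {A : Type*} [Group A] (f : Q →* A)
    (hcomm : ∀ a b : Q, f a * f b = f b * f a) : commutator Q ≤ f.ker := by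
  rw [commutator_eq_closure, Subgroup.closure_le]
  rintro _ ⟨a, b, rfl⟩
  rw [SetLike.mem_coe, MonoidHom.mem_ker, commutatorElement_def, map_mul, map_mul, map_mul,
    map_inv, map_inv, hcomm a b]
  group

/-- **S4701 piece CPFALSE.** -/
theorem normal_sylow_false {Q : Type*} [Group Q] [Finite Q] (p : ℕ) [Fact p.Prime]
    (hperf : commutator Q = ⊤) (hp2 : ¬ p ^ 2 ∣ Nat.card Q)
    (M : Subgroup Q) (hM : M.Normal) (hcard : Nat.card M = p) : False := by
  classical
  have hp : p.Prime := Fact.out
  haveI := hM
  haveI : IsCyclic M := isCyclic_of_prime_card hcard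
  have hcomm : ∀ a b : MulAut M, a * b = b * a := by
    intro a b
    apply (IsCyclic.mulAutMulEquiv M).injective
    rw [map_mul, map_mul, mul_comm]
  have hker : ∀ g : Q, (MulAut.conjNormal g : MulAut M) = 1 := by
    intro g
    have hg : g ∈ commutator Q := by rw [hperf]; exact Subgroup.mem_top g
    have hle : commutator Q ≤ (MulAut.conjNormal (H := M)).ker :=
      commutator_le_ker_of_comm _ (fun a b => hcomm _ _)
    exact MonoidHom.mem_ker.mp (hle hg)
  have hMc : M ≤ Subgroup.center Q := by
    intro m hm
    rw [Subgroup.mem_center_iff]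
    intro g
    have h1 : ((MulAut.conjNormal g (⟨m, hm⟩ : M) : M) : Q) = m := by
      rw [hker g]; rfl
    have h2 : g * m * g⁻¹ = m := by simpa using h1
    calc g * m = g * m * g⁻¹ * g := by group
      _ = m * g := by rw [h2]
  have htr : ∀ g : Q, g ^ (Subgroup.center Q).index = 1 := by
    intro g
    have hg : g ∈ commutator Q := by rw [hperf]; exact Subgroup.mem_top g
    have h1 := commutator_le_ker_of_comm (MonoidHom.transferCenterPow Q)
      (fun a b => Subtype.ext
        (Subgroup.mem_center_iff.mp (MonoidHom.transferCenterPow Q b).2 _)) hg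
    rw [MonoidHom.mem_ker] at h1
    have h2 := congrArg Subtype.val h1
    rw [MonoidHom.transferCenterPow_apply] at h2
    exact h2
  obtain ⟨m, hm⟩ := exists_prime_orderOf_dvd_card' (G := M) p (by rw [hcard])
  have h1 : orderOf (m : Q) = p := by rw [Subgroup.orderOf_coe]; exact hm
  have h2 : p ∣ (Subgroup.center Q).index := by
    rw [← h1]; exact orderOf_dvd_of_pow_eq_one (htr m)
  have h3 : (Subgroup.center Q).index ∣ M.index := Subgroup.index_dvd_of_le hMc
  have h4 : Nat.card M * M.index = Nat.card Q := Subgroup.card_mul_index M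
  apply hp2
  rw [← h4, hcard, pow_two]
  exact Nat.mul_dvd_mul_left p (h2.trans h3)

end Cfsg.Agent.H67.BR
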