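import Mathlib

/-!
# S4701 piece SIMPLE (helper67, for helper78)

If `p ∣ |Q|`, `p² ∤ |Q|` and `Q` has no nontrivial normal `p'`-subgroup, then a minimal normal
subgroup of `Q` is simple of order divisible by `p`.
-/

set_option autoImplicit false
set_option linter.unusedSectionVars false
set_option linter.unusedVariables false
set_option linter.style.haveILetI false

namespace Cfsg.Agent.H67.BR

/-- `O_{p'}(H)`: the join of the normal subgroups of order prime to `p` -/
def ppCore (p : ℕ) (H : Type*) [Group H] : Subgroup H :=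
  sSup {N : Subgroup H | N.Normal ∧ ¬ p ∣ Nat.card N}

theorem le_ppCore (p : ℕ) {H : Type*} [Group H] {N : Subgroup H} (hn : N.Normal)
    (hN : ¬ p ∣ Nat.card N) : N ≤ ppCore p H :=
  le_sSup ⟨hn, hN⟩

theorem not_dvd_card_ppCore (p : ℕ) [Fact p.Prime] (H : Type*) [Group H] [Finite H] :
    ¬ p ∣ Nat.card (ppCore p H) := by
  classical
  have hp : p.Prime := Fact.out
  have key : ∀ S : Finset (Subgroup H), (∀ N ∈ S, N.Normal ∧ ¬ p ∣ Nat.card N) →
      (S.sup id).Normal ∧ ¬ p ∣ Nat.card (S.sup id : Subgroup H) := by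
    intro S
    induction S using Finset.induction_on with
    | empty =>
      intro _
      rw [Finset.sup_empty]
      refine ⟨inferInstance, ?_⟩
      rw [Subgroup.card_bot]
      exact fun h => hp.one_lt.ne' (Nat.dvd_one.mp h)
    | insert a S ha ih =>
      intro h
      have h1 := ih (fun N hN => h N (Finset.mem_insert_of_mem hN))
      have h2 := h a (Finset.mem_insert_self a S)
      rw [Finset.sup_insert]
      show (a ⊔ S.sup id).Normal ∧ ¬ p ∣ Nat.card (a ⊔ S.sup id : Subgroup H)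
      haveI := h1.1
      haveI := h2.1
      refine ⟨inferInstance, ?_⟩
      have h3 : Nat.card ((S.sup id).subgroupOf (a ⊔ S.sup id)) = Nat.card (S.sup id : Subgroup H) :=
        Nat.card_congr (Subgroup.subgroupOfEquivOfLe le_sup_right).toEquiv
      have h4 := Subgroup.card_mul_index ((S.sup id).subgroupOf (a ⊔ S.sup id))
      rw [h3] at h4
      have h5 : ((S.sup id).subgroupOf (a ⊔ S.sup id)).index = (S.sup id).relIndex a := by
        show (S.sup id).relIndex (a ⊔ S.sup id) = (S.sup id).relIndex a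
        exact Subgroup.relIndex_sup_right _ _
      rw [h5] at h4
      rw [← h4]
      refine hp.not_dvd_mul h1.2 (fun h6 => h2.2 (h6.trans (Subgroup.relIndex_dvd_card _ _)))
  have hfin : ({N : Subgroup H | N.Normal ∧ ¬ p ∣ Nat.card N}).Finite := Set.toFinite _
  have hS : ppCore p H = hfin.toFinset.sup id := by
    rw [Finset.sup_id_eq_sSup, Set.Finite.coe_toFinset]; rfl
  rw [hS]
  exact (key _ (fun N hN => (Set.Finite.mem_toFinset hfin).mp hN)).2

theorem map_ppCore_le (p : ℕ) {H : Type*} [Group H] (φ : H ≃* H) :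
    (ppCore p H).map φ.toMonoidHom ≤ ppCore p H := by
  rw [Subgroup.map_le_iff_le_comap]
  apply sSup_le
  rintro N ⟨hNn, hNp⟩
  rw [← Subgroup.map_le_iff_le_comap]
  apply le_sSup
  refine ⟨hNn.map φ.toMonoidHom φ.surjective, ?_⟩
  have h1 : Nat.card (N.map φ.toMonoidHom) = Nat.card N :=
    Subgroup.card_map_of_injective φ.injective
  rw [h1]
  exact hNp

/-- **S4701 piece SIMPLE.** -/
theorem exists_simple_normal {Q : Type*} [Group Q] [Finite Q] (p : ℕ) [Fact p.Prime]
    (hp : p ∣ Nat.card Q) (hp2 : ¬ p ^ 2 ∣ Nat.card Q)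
    (hcore : ∀ M : Subgroup Q, M.Normal → ¬ p ∣ Nat.card M → M = ⊥) :
    ∃ M : Subgroup Q, M.Normal ∧ IsSimpleGroup ↥M ∧ p ∣ Nat.card M := by
  classical
  have hpp : p.Prime := Fact.out
  have hQnt : Nontrivial Q := by
    rw [← Finite.one_lt_card_iff_nontrivial]
    exact lt_of_lt_of_le hpp.one_lt (Nat.le_of_dvd Nat.card_pos hp)
  have hne : ({M : Subgroup Q | M.Normal ∧ M ≠ ⊥}).Nonempty :=
    ⟨⊤, inferInstance, top_ne_bot⟩
  obtain ⟨M, ⟨hMn, hMne⟩, hmin⟩ := Set.exists_min_image _
    (fun M : Subgroup Q => Nat.card M) (Set.toFinite _) hne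
  haveI := hMn
  have hpM : p ∣ Nat.card M := by
    by_contra h
    exact hMne (hcore M hMn h)
  have hp2M : ¬ p ^ 2 ∣ Nat.card M :=
    fun h => hp2 (h.trans (Subgroup.card_subgroup_dvd_card M))
  haveI : Nontrivial M := (Subgroup.nontrivial_iff_ne_bot M).mpr hMne
  have hminimal : ∀ N : Subgroup Q, N.Normal → N ≠ ⊥ → N ≤ M → N = M := by
    intro N hNn hNne hNM
    exact Subgroup.eq_of_le_of_card_ge hNM (hmin N ⟨hNn, hNne⟩)
  -- `O_{p'}(M) = 1`
  have hO : ppCore p M = ⊥ := by
    have hWn : ((ppCore p M).map M.subtype).Normal := by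
      refine ⟨fun w hw g => ?_⟩
      obtain ⟨x, hx, rfl⟩ := hw
      have h1 : MulAut.conjNormal g x ∈ ppCore p M :=
        map_ppCore_le p (MulAut.conjNormal g) ⟨x, hx, rfl⟩
      refine ⟨MulAut.conjNormal g x, h1, ?_⟩
      simp
    have hWp : ¬ p ∣ Nat.card ((ppCore p M).map M.subtype) := by
      have h1 : Nat.card ((ppCore p M).map M.subtype) = Nat.card (ppCore p M) :=
        Subgroup.card_map_of_injective (Subgroup.subtype_injective M)
      rw [h1]
      exact not_dvd_card_ppCore p M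
    have hW := hcore _ hWn hWp
    exact (Subgroup.map_eq_bot_iff_of_injective _ (Subgroup.subtype_injective M)).mp hW
  refine ⟨M, hMn, ⟨fun T hT => ?_⟩, hpM⟩
  by_cases hTb : T = ⊥
  · exact Or.inl hTb
  right
  haveI := hT
  have hpT : p ∣ Nat.card T := by
    by_contra h
    have h1 : T ≤ ppCore p M := le_ppCore p hT h
    rw [hO] at h1
    exact hTb (le_bot_iff.mp h1)
  -- `p ∤ |M : T|`
  have hidx : ¬ p ∣ T.index := by
    intro h
    apply hp2M
    rw [← Subgroup.card_mul_index T, pow_two]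
    exact Nat.mul_dvd_mul hpT h
  -- every element of order `p` of `M` lies in `T`
  have hT_of : ∀ x : M, orderOf x = p → x ∈ T := by
    intro x hx
    have h1 : (x : M ⧸ T) ^ p = 1 := by
      rw [← QuotientGroup.mk_pow, ← hx, pow_orderOf_eq_one]; rfl
    have h2 : (x : M ⧸ T) ^ T.index = 1 := by
      rw [Subgroup.index_eq_card]; exact pow_card_eq_one'
    have h3 := pow_gcd_eq_one.mpr ⟨h1, h2⟩
    have h4 : Nat.gcd p T.index = 1 := (Nat.Prime.coprime_iff_not_dvd hpp).mpr hidx
    rw [h4, pow_one] at h3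
    exact (QuotientGroup.eq_one_iff x).mp h3
  -- the elements of order `p` of `M` generate a normal subgroup of `Q`
  have hEconj : ∀ x ∈ {x : Q | x ∈ M ∧ orderOf x = p}, ∀ g : Q,
      g * x * g⁻¹ ∈ {x : Q | x ∈ M ∧ orderOf x = p} := by
    rintro x ⟨hxM, hxo⟩ g
    refine ⟨hMn.conj_mem x hxM g, ?_⟩
    rw [← hxo]
    exact orderOf_injective (MulAut.conj g).toMonoidHom (MulAut.conj g).injective x
  have hNn : (Subgroup.closure {x : Q | x ∈ M ∧ orderOf x = p}).Normal := by
    refine ⟨fun n hn g => ?_⟩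
    induction hn using Subgroup.closure_induction with
    | mem x hx => exact Subgroup.subset_closure (hEconj x hx g)
    | one => simp
    | mul a b _ _ ha hb =>
      have h1 : g * (a * b) * g⁻¹ = (g * a * g⁻¹) * (g * b * g⁻¹) := by group
      rw [h1]; exact mul_mem ha hb
    | inv a _ ha =>
      have h1 : g * a⁻¹ * g⁻¹ = (g * a * g⁻¹)⁻¹ := by group
      rw [h1]; exact inv_mem ha
  have hET : {x : Q | x ∈ M ∧ orderOf x = p} ⊆ ((T.map M.subtype : Subgroup Q) : Set Q) := by
    rintro x ⟨hxM, hxo⟩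
    have hxo' : orderOf (⟨x, hxM⟩ : M) = p := by
      rw [← Subgroup.orderOf_coe]; exact hxo
    exact ⟨⟨x, hxM⟩, hT_of _ hxo', rfl⟩
  have hNM : Subgroup.closure {x : Q | x ∈ M ∧ orderOf x = p} ≤ M :=
    (Subgroup.closure_le _).mpr (fun x hx => hx.1)
  obtain ⟨y, hy⟩ := exists_prime_orderOf_dvd_card' (G := M) p hpM
  have hy' : orderOf (y : Q) = p := by rw [Subgroup.orderOf_coe]; exact hy
  have hNne : Subgroup.closure {x : Q | x ∈ M ∧ orderOf x = p} ≠ ⊥ := by
    intro h
    have h1 : (y : Q) ∈ Subgroup.closure {x : Q | x ∈ M ∧ orderOf x = p} :=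
      Subgroup.subset_closure ⟨y.2, hy'⟩
    rw [h, Subgroup.mem_bot] at h1
    rw [h1, orderOf_one] at hy'
    exact hpp.one_lt.ne hy'
  have hNeq := hminimal _ hNn hNne hNM
  have hMT : M ≤ T.map M.subtype :=
    (le_of_eq hNeq.symm).trans ((Subgroup.closure_le _).mpr hET)
  rw [eq_top_iff]
  intro x _
  obtain ⟨t, ht, hxt⟩ := hMT x.2
  have h1 : t = x := Subtype.ext hxt
  rw [← h1]; exact ht

end Cfsg.Agent.H67.BR
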