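import Mathlib
import Cfsg.Agent.H72.BaerDefs
import Cfsg.Agent.H72.BaerBasic

/-!
# S4125 team project, piece T4: the reducible case of Lemma T
-/

set_option autoImplicit false

namespace Cfsg.Agent.H67.Baer

open Cfsg.Agent.H72.BaerT

universe u

variable {p q : ℕ} {V : Type u} [CommGroup V] [Finite V] {A : Subgroup (MulAut V)}

/-- Restriction of an automorphism to an invariant subgroup. -/
def resAut (W : Subgroup V) (a : MulAut V) (h1 : ∀ w ∈ W, a w ∈ W) (h2 : ∀ w ∈ W, a⁻¹ w ∈ W) :
    MulAut W where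
  toFun w := ⟨a w, h1 w w.2⟩
  invFun w := ⟨a⁻¹ w, h2 w w.2⟩
  left_inv w := by
    apply Subtype.ext
    show a⁻¹ (a (w : V)) = w
    exact MulAut.inv_apply_self _ _ _
  right_inv w := by
    apply Subtype.ext
    show a (a⁻¹ (w : V)) = w
    exact MulAut.apply_inv_self _ _ _
  map_mul' x y := by
    apply Subtype.ext
    show a ((x : V) * (y : V)) = a x * a y
    exact map_mul a _ _

/-- The restriction homomorphism `A → Aut W`. -/
def resHom (W : Subgroup V) (hW : Inv A W) : A →* MulAut W where
  toFun a := resAut W a.1 (hW a.1 a.2) (hW a.1⁻¹ (A.inv_mem a.2))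
  map_one' := by
    ext w
    rfl
  map_mul' a b := by
    ext w
    rfl

omit [Finite V] in
theorem resHom_apply (W : Subgroup V) (hW : Inv A W) (a : A) (w : W) :
    ((resHom W hW a w : W) : V) = a.1 (w : V) := rfl

omit [Finite V] in
theorem map_eq_of_inv {W : Subgroup V} (hW : Inv A W) (a : MulAut V) (ha : a ∈ A) :
    W.map (a : V →* V) = W := by
  ext x
  constructor
  · rintro ⟨w, hw, rfl⟩
    exact hW a ha w hw
  · intro hx
    refine ⟨a⁻¹ x, hW a⁻¹ (A.inv_mem ha) x hx, ?_⟩
    show a (a⁻¹ x) = x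
    exact MulAut.apply_inv_self _ _ _

/-- The induced homomorphism `A → Aut (V ⧸ W)`. -/
def quoHom (W : Subgroup V) (hW : Inv A W) : A →* MulAut (V ⧸ W) where
  toFun a := QuotientGroup.congr W W a.1 (map_eq_of_inv hW a.1 a.2)
  map_one' := by
    ext x
    induction x using QuotientGroup.induction_on with
    | H x => rfl
  map_mul' a b := by
    ext x
    induction x using QuotientGroup.induction_on with
    | H x => rfl

omit [Finite V] in
theorem quoHom_mk (W : Subgroup V) (hW : Inv A W) (a : A) (v : V) :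
    quoHom W hW a (v : V ⧸ W) = ((a.1 v : V) : V ⧸ W) := rfl

omit [Finite V] in
/-- `TH` passes to the restriction to an invariant subgroup. -/
theorem th_res (h : TH p q V A) (W : Subgroup V) (hW : Inv A W) :
    TH p q W (resHom W hW).range where
  hp := h.hp
  hq := h.hq
  hV := h.hV.to_subgroup W
  hA := Nat.Coprime.coprime_dvd_left (Subgroup.card_range_dvd (resHom W hW)) h.hA
  horb := fun w => by
    obtain ⟨a, ha⟩ := h.horb (w : V)
    refine ⟨a, ?_⟩
    rw [← ha, Nat.card_coe_set_eq, Nat.card_coe_set_eq,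
      ← Set.ncard_image_of_injective _ Subtype.val_injective]
    congr 1
    ext x
    constructor
    · rintro ⟨_, ⟨⟨_, ⟨b, rfl⟩⟩, rfl⟩, rfl⟩
      exact ⟨b, rfl⟩
    · rintro ⟨b, rfl⟩
      exact ⟨_, ⟨⟨resHom W hW b, ⟨b, rfl⟩⟩, rfl⟩, rfl⟩

/-- `TH` passes to the action on the quotient by an invariant subgroup. -/
theorem th_quo (h : TH p q V A) (W : Subgroup V) (hW : Inv A W) (hV1 : 1 < Nat.card V) :
    TH p q (V ⧸ W) (quoHom W hW).range where
  hp := h.hp
  hq := h.hq
  hV := h.hV.to_quotient W
  hA := Nat.Coprime.coprime_dvd_left (Subgroup.card_range_dvd (quoHom W hW)) h.hA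
  horb := fun vb => by
    have : Fact q.Prime := ⟨h.hq⟩
    obtain ⟨v, rfl⟩ := QuotientGroup.mk_surjective vb
    obtain ⟨π, hπdef⟩ : ∃ π : A →* (quoHom W hW).range, π = (quoHom W hW).rangeRestrict :=
      ⟨_, rfl⟩
    have hπ : Function.Surjective π := by
      rw [hπdef]; exact (quoHom W hW).rangeRestrict_surjective
    obtain ⟨S₂, hS₂def⟩ : ∃ S₂ : Subgroup A, S₂ = ((MulAction.stabilizer (MulAut (V ⧸ W))
        (v : V ⧸ W)).subgroupOf (quoHom W hW).range).comap π := ⟨_, rfl⟩
    have hS₂ : ∀ s : A, s ∈ S₂ ↔ ((s.1 v : V) : V ⧸ W) = (v : V ⧸ W) := by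
      intro s
      rw [hS₂def, Subgroup.mem_comap, Subgroup.mem_subgroupOf, MulAction.mem_stabilizer_iff, hπdef]
      rfl
    -- coprimality
    have hcop : (Nat.card S₂).Coprime (Nat.card V) := by
      obtain ⟨n, hn⟩ := IsPGroup.iff_card.mp h.hV
      rw [hn]
      apply Nat.Coprime.pow_right
      exact Nat.Coprime.coprime_dvd_left (Subgroup.card_subgroup_dvd_card S₂) h.hA
    obtain ⟨m, -, hm⟩ := Nat.exists_mul_mod_eq_one_of_coprime hcop hV1
    have : Fintype S₂ := Fintype.ofFinite S₂
    obtain ⟨u, hudef⟩ : ∃ u : V, u = ∏ s : S₂, (s.1.1 v) := ⟨_, rfl⟩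
    have hu_fix : ∀ t : S₂, t.1.1 u = u := by
      intro t
      rw [hudef, map_prod]
      exact Fintype.prod_equiv (Equiv.mulLeft t) (fun s => t.1.1 (s.1.1 v)) (fun s => s.1.1 v)
        (fun s => rfl)
    have hu_mk : (u : V ⧸ W) = (v : V ⧸ W) ^ (Nat.card S₂) := by
      rw [hudef, QuotientGroup.mk_prod]
      rw [Finset.prod_congr rfl (fun s _ => (hS₂ s.1).mp s.2), Finset.prod_const, Finset.card_univ,
        Nat.card_eq_fintype_card]
    have hv'_mk : ((u ^ m : V) : V ⧸ W) = (v : V ⧸ W) := by
      rw [QuotientGroup.mk_pow, hu_mk, ← pow_mul]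
      have e : Nat.card S₂ * m = Nat.card V * (Nat.card S₂ * m / Nat.card V) + 1 := by
        have := Nat.div_add_mod (Nat.card S₂ * m) (Nat.card V)
        rw [hm] at this
        exact this.symm
      rw [e, pow_add, pow_mul, pow_one]
      have : (v : V ⧸ W) ^ Nat.card V = 1 := by
        rw [← QuotientGroup.mk_pow, pow_card_eq_one']
        rfl
      rw [this, one_pow, one_mul]
    have hv'_fix : ∀ t : S₂, t.1.1 (u ^ m) = u ^ m := by
      intro t
      rw [map_pow, hu_fix]
    -- the two stabilizers agree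
    have hS : S₂ = (MulAction.stabilizer (MulAut V) (u ^ m)).subgroupOf A := by
      ext s
      rw [Subgroup.mem_subgroupOf, MulAction.mem_stabilizer_iff]
      constructor
      · intro hs
        exact hv'_fix ⟨s, hs⟩
      · intro hs
        rw [hS₂]
        have h1 : quoHom W hW s ((u ^ m : V) : V ⧸ W) = (((s.1 (u ^ m) : V)) : V ⧸ W) :=
          quoHom_mk W hW s _
        have h2 : s.1 (u ^ m) = u ^ m := hs
        rw [h2, hv'_mk] at h1
        rw [← quoHom_mk W hW s v, h1]
    obtain ⟨a, ha⟩ := h.horb (u ^ m)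
    refine ⟨a, ?_⟩
    rw [← ha, card_orbit_subgroup, card_orbit_subgroup]
    show ((MulAction.stabilizer (MulAut (V ⧸ W)) (v : V ⧸ W)).subgroupOf (quoHom W hW).range).index
      = ((MulAction.stabilizer (MulAut V) (u ^ m)).subgroupOf A).index
    rw [← hS, hS₂def, Subgroup.index_comap_of_surjective _ hπ]

/-- **T4 (reducible case of Lemma T).** -/
theorem solvable_of_inv (h : TH p q V A) (W : Subgroup V) (hW : Inv A W) (h0 : W ≠ ⊥)
    (h1 : W ≠ ⊤)
    (IH : ∀ (V' : Type u) [CommGroup V'] [Finite V'] (A' : Subgroup (MulAut V')),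
      Nat.card V' < Nat.card V → TH p q V' A' → Group.IsSolvable A') : Group.IsSolvable A := by
  have : Fact q.Prime := ⟨h.hq⟩
  have hWc : 1 < Nat.card W := (Subgroup.one_lt_card_iff_ne_bot W).mpr h0
  have hidx : 1 < W.index := by
    have h2 : W.index ≠ 1 := fun h3 => h1 (Subgroup.index_eq_one.mp h3)
    have h3 : W.index ≠ 0 := Subgroup.index_ne_zero_of_finite
    omega
  have hmul : Nat.card W * W.index = Nat.card V := Subgroup.card_mul_index W
  have hV1 : 1 < Nat.card V := by nlinarith
  have hcW : Nat.card W < Nat.card V := by nlinarith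
  have hcQ : Nat.card (V ⧸ W) < Nat.card V := by
    rw [← Subgroup.index_eq_card]; nlinarith
  have s1 := IH W (resHom W hW).range hcW (th_res h W hW)
  have s2 := IH (V ⧸ W) (quoHom W hW).range hcQ (th_quo h W hW hV1)
  have hψ : Function.Injective (MonoidHom.prod (resHom W hW).rangeRestrict
      (quoHom W hW).rangeRestrict) := by
    rw [injective_iff_map_eq_one]
    intro a ha
    have hr : resHom W hW a = 1 := by
      have := congrArg (fun x => ((x.1 : (resHom W hW).range) : MulAut W)) ha
      exact this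
    have hq : quoHom W hW a = 1 := by
      have := congrArg (fun x => ((x.2 : (quoHom W hW).range) : MulAut (V ⧸ W))) ha
      exact this
    have hfix : ∀ w ∈ W, a.1 w = w := by
      intro w hw
      have := congrArg (fun f : MulAut W => ((f ⟨w, hw⟩ : W) : V)) hr
      exact this
    have hmod : ∀ v : V, v⁻¹ * a.1 v ∈ W := by
      intro v
      have h2 : quoHom W hW a (v : V ⧸ W) = (v : V ⧸ W) := by rw [hq]; rfl
      rw [quoHom_mk] at h2
      exact QuotientGroup.eq.mp h2.symm
    have hpow : ∀ (k : ℕ) (v : V), (a.1 ^ k) v = v * (v⁻¹ * a.1 v) ^ k := by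
      intro k
      induction k with
      | zero => intro v; simp
      | succ k ih =>
        intro v
        rw [pow_succ', MulAut.mul_apply, ih, map_mul, map_pow, hfix _ (hmod v), pow_succ]
        have : a.1 v = v * (v⁻¹ * a.1 v) := by rw [mul_inv_cancel_left]
        rw [this]
        simp [mul_assoc, mul_comm]
    have hone : a.1 ^ (Nat.card V) = 1 := by
      ext v
      rw [hpow, pow_card_eq_one', mul_one]
      rfl
    have ho1 : orderOf a ∣ Nat.card V := by
      apply orderOf_dvd_of_pow_eq_one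
      apply Subtype.ext
      rw [SubmonoidClass.coe_pow]
      exact hone
    have ho2 : orderOf a ∣ Nat.card A := orderOf_dvd_natCard a
    have hco : (Nat.card A).Coprime (Nat.card V) := by
      obtain ⟨n, hn⟩ := IsPGroup.iff_card.mp h.hV
      rw [hn]
      exact Nat.Coprime.pow_right n h.hA
    have h3 : orderOf a = 1 := Nat.eq_one_of_dvd_coprimes hco ho2 ho1
    exact orderOf_eq_one_iff.mp h3
  exact Group.isSolvable_of_isSolvable_injective hψ

end Cfsg.Agent.H67.Baer
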