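import Mathlib
import Cfsg.Agent.H74.DihBasic
import Cfsg.Agent.H12.DihFrob
import Cfsg.Agent.H67.DihRCbCore

/-!
# Piece RCb of helper74's S3572 project: triviality descends from the rational closure
-/

set_option autoImplicit false

namespace Cfsg.Agent.H67.Dih

open DihedralGroup Cfsg.Agent.H74.Dih

variable {n : ℕ} [NeZero n]

/-- **Piece RCb.** If all non-identity elements are related in the rational closure of a primitive
Schur ring over a dihedral group, the Schur ring is trivial. -/
theorem triv_of_ratRel (P : PSR n)
    (h : ∀ h h' : DihedralGroup n, h ≠ 1 → h' ≠ 1 → ratRel P h h') : P.Triv := by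
  by_cases hn : 2 ≤ n
  · exact triv_core P (fun x hx => exists_r P hn x hx) (fun f hf k => resp_cpow P f hf k)
      (fun f k => sum_cpow f k)
      (fun p hp hp2 f hf k => Cfsg.Agent.H12.Dih.frob P p hp hp2 f hf k) h
  · have hn1 : n = 1 := by
      have := NeZero.ne n
      omega
    subst hn1
    intro x x' hx hx'
    have h0 : ∀ i : ZMod 1, i = 0 := by decide
    have key : ∀ y : DihedralGroup 1, y ≠ 1 → y = sr 0 := by
      rintro (i | i) hy
      · exfalso
        apply hy
        rw [DihedralGroup.one_def, h0 i]
      · rw [h0 i]
    rw [key x hx, key x' hx']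
    exact P.equiv.refl _

end Cfsg.Agent.H67.Dih
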