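import Mathlib
import Cfsg.Agent.S0225
import Cfsg.Prelude.Def_Transfer

/-!
# Piece LC of helper25's S4020 project

If all `p`-subgroups of equal order are conjugate (`p` odd), the Sylow `2`-subgroups are cyclic,
elementary abelian or `Q₈`, then no element `(a b a)^2` with `a, b` of order dividing `p` can
invert a nontrivial element `d` of order `p`.
-/

set_option autoImplicit false

open scoped Pointwise

namespace Cfsg.Agent.H67.EqOrd

/-- Powers of an inverting element either centralize or invert. -/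
theorem conj_pow_of_inv {G : Type*} [Group G] (t d : G) (h : t * d * t⁻¹ = d⁻¹) (k : ℕ) :
    t ^ k * d * (t ^ k)⁻¹ = if Even k then d else d⁻¹ := by
  induction k with
  | zero => simp
  | succ k ih =>
    have e1 : t ^ (k + 1) * d * (t ^ (k + 1))⁻¹ = t * (t ^ k * d * (t ^ k)⁻¹) * t⁻¹ := by
      rw [pow_succ']; group
    rw [e1, ih]
    by_cases hk : Even k
    · have : ¬ Even (k + 1) := by
        rw [Nat.even_add_one]; exact not_not.mpr hk
      rw [if_pos hk, if_neg this, h]
    · have : Even (k + 1) := by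
        rw [Nat.even_add_one]; exact hk
      rw [if_neg hk, if_pos this]
      have : t * d⁻¹ * t⁻¹ = (t * d * t⁻¹)⁻¹ := by group
      rw [this, h, inv_inv]

/-- In `Q₈` the only elements of square one are `1` and `a 2`. -/
theorem quat_sq_eq_one (x : QuaternionGroup 2) (hx : x ^ 2 = 1) :
    x = 1 ∨ x = QuaternionGroup.a 2 := by
  rcases x with i | i
  · rw [sq, QuaternionGroup.a_mul_a, QuaternionGroup.one_def] at hx
    have h0 : i + i = 0 := by
      injection hx
    have : i = 0 ∨ i = 2 := by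
      revert h0
      revert i
      decide
    rcases this with rfl | rfl
    · left; rfl
    · right; rfl
  · exfalso
    rw [QuaternionGroup.xa_sq, QuaternionGroup.one_def] at hx
    have h0 : ((2 : ℕ) : ZMod (2 * 2)) = 0 := by
      injection hx
    revert h0
    decide

/-- Every element of `Q₈` has fourth power one. -/
theorem quat_pow_four (x : QuaternionGroup 2) : x ^ 4 = 1 := by
  rcases x with i | i
  · have : (QuaternionGroup.a i : QuaternionGroup 2) ^ 4 = QuaternionGroup.a (4 * i) := by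
      have h4 : (4 : ℕ) = 1 + 1 + 1 + 1 := rfl
      rw [h4, pow_add, pow_add, pow_add, pow_one, QuaternionGroup.a_mul_a,
        QuaternionGroup.a_mul_a, QuaternionGroup.a_mul_a]
      congr 1
      ring
    rw [this, QuaternionGroup.one_def]
    congr 1
    revert i
    decide
  · exact QuaternionGroup.xa_pow_four i

/-- The element `a 2` of `Q₈` is not trivial. -/
theorem quat_a_two_ne_one : (QuaternionGroup.a 2 : QuaternionGroup 2) ≠ 1 := by
  intro h
  rw [QuaternionGroup.one_def] at h
  have h0 : (2 : ZMod (2 * 2)) = 0 := by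
    injection h
  revert h0
  decide

/-- A subgroup isomorphic to `Q₈` contains no Klein four-subgroup. -/
theorem no_klein_of_quat {G : Type*} [Group G] (S : Subgroup G) (ψ : S ≃* QuaternionGroup 2)
    (E : Subgroup G) (hle : E ≤ S) (hE : IsKleinFour E) : False := by
  have hcard : Nat.card E = 4 := hE.card_four
  have hexp : ∀ x : E, x ^ 2 = 1 := by
    intro x
    have := Monoid.pow_exponent_eq_one x
    rwa [hE.exponent_two] at this
  let f : E → QuaternionGroup 2 := fun x => ψ ⟨x.1, hle x.2⟩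
  have hf : Function.Injective f := by
    intro x y hxy
    have h := congrArg (fun s : S => (s : G)) (ψ.injective hxy)
    exact Subtype.ext h
  have hrange : Set.range f ⊆ ({1, QuaternionGroup.a 2} : Set (QuaternionGroup 2)) := by
    rintro _ ⟨x, rfl⟩
    have h1 : (ψ ⟨x.1, hle x.2⟩) ^ 2 = 1 := by
      rw [← map_pow]
      have h2 : (⟨x.1, hle x.2⟩ : S) ^ 2 = 1 := by
        apply Subtype.ext
        have := congrArg Subtype.val (hexp x)
        simpa using this
      rw [h2, map_one]
    rcases quat_sq_eq_one _ h1 with h | h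
    · left; exact h
    · right; exact h
  have h1 : Nat.card E = (Set.range f).ncard := by
    rw [← Nat.card_coe_set_eq, Nat.card_range_of_injective hf]
  have h2 : (Set.range f).ncard ≤ ({1, QuaternionGroup.a 2} : Set (QuaternionGroup 2)).ncard :=
    Set.ncard_le_ncard hrange (Set.toFinite _)
  have h3 : ({1, QuaternionGroup.a 2} : Set (QuaternionGroup 2)).ncard ≤ 2 := by
    have h4 := Set.ncard_insert_le (1 : QuaternionGroup 2) {QuaternionGroup.a 2}
    rw [Set.ncard_singleton] at h4
    exact h4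
  omega

/-- Two elements of order two in a subgroup isomorphic to `Q₈` coincide. -/
theorem quat_invol_unique {G : Type*} [Group G] (S : Subgroup G) (ψ : S ≃* QuaternionGroup 2)
    (x y : G) (hx : x ∈ S) (hy : y ∈ S) (hx2 : x ^ 2 = 1) (hy2 : y ^ 2 = 1) (hx1 : x ≠ 1)
    (hy1 : y ≠ 1) : x = y := by
  have key : ∀ w : G, ∀ hw : w ∈ S, w ^ 2 = 1 → w ≠ 1 → ψ ⟨w, hw⟩ = QuaternionGroup.a 2 := by
    intro w hw hw2 hw1
    have h1 : (ψ ⟨w, hw⟩) ^ 2 = 1 := by
      rw [← map_pow]
      have h2 : (⟨w, hw⟩ : S) ^ 2 = 1 := Subtype.ext (by simpa using hw2)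
      rw [h2, map_one]
    rcases quat_sq_eq_one _ h1 with h | h
    · exfalso
      rw [← map_one ψ] at h
      exact hw1 (congrArg Subtype.val (ψ.injective h))
    · exact h
  have := ψ.injective ((key x hx hx2 hx1).trans (key y hy hy2 hy1).symm)
  exact congrArg Subtype.val this

/-- **Piece LC.** -/
theorem two_part_contra {G : Type*} [Group G] [Finite G] (p : ℕ) [Fact p.Prime] (hp2 : p ≠ 2)
    (hDp : ∀ H K : Subgroup G, IsPGroup p H → IsPGroup p K → Nat.card H = Nat.card K →
      ∃ g : G, K = H.map (MulAut.conj g).toMonoidHom)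
    (h2 : ∀ S : Sylow 2 G, IsCyclic S ∨ Cfsg.IsElementaryAbelian 2 (S : Subgroup G) ∨
      Nonempty ((S : Subgroup G) ≃* QuaternionGroup 2))
    (a b d : G) (ha : a ^ p = 1) (hb : b ^ p = 1) (hd : d ^ p = 1) (hd1 : d ≠ 1)
    (hn : (a * b * a) ^ 2 * d * ((a * b * a) ^ 2)⁻¹ = d⁻¹) : False := by
  have hp : p.Prime := Fact.out
  have hpodd : Odd p := hp.odd_of_ne_two hp2
  have : Fact (Nat.Prime 2) := ⟨Nat.prime_two⟩
  have hordd : orderOf d = p := orderOf_eq_prime hd hd1
  -- `d ≠ d⁻¹`
  have hdd : d ≠ d⁻¹ := by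
    intro h
    have h1 : d ^ 2 = 1 := by
      rw [sq]; nth_rewrite 2 [h]; exact mul_inv_cancel d
    have h2 := orderOf_dvd_of_pow_eq_one h1
    rw [hordd] at h2
    exact hp2 ((Nat.prime_dvd_prime_iff_eq hp Nat.prime_two).mp h2)
  obtain ⟨n, hndef⟩ : ∃ n, n = a * b * a := ⟨_, rfl⟩
  rw [← hndef] at hn
  have hconj := conj_pow_of_inv (n ^ 2) d hn
  -- KEY
  have key : ∀ N : Subgroup G, N.Normal → Odd (Nat.card N) → a ∈ N → b ∈ N → False := by
    intro N _ hNodd haN hbN
    have hnN : n ∈ N := by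
      rw [hndef]; exact N.mul_mem (N.mul_mem haN hbN) haN
    have h1 : n ^ Nat.card N = 1 := by
      have h := congrArg (fun s : N => (s : G)) (pow_card_eq_one' (G := N) (x := ⟨n, hnN⟩))
      simpa only [Subgroup.coe_pow, Subgroup.coe_one] using h
    have h2 := hconj (Nat.card N)
    rw [if_neg (Nat.not_even_iff_odd.mpr hNodd), ← pow_mul, mul_comm, pow_mul, h1] at h2
    simp at h2
    exact hdd h2
  -- the `2`-part of `n`
  have hn0 : orderOf n ≠ 0 := (orderOf_pos n).ne'
  obtain ⟨e, m, hm, hem⟩ := Nat.exists_eq_two_pow_mul_odd hn0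
  obtain ⟨n2, hn2def⟩ : ∃ n2, n2 = n ^ m := ⟨_, rfl⟩
  have hn2pow : n2 ^ (2 ^ e) = 1 := by
    rw [hn2def, ← pow_mul, mul_comm, ← hem, pow_orderOf_eq_one]
  have ht2 : n2 ^ 2 * d * (n2 ^ 2)⁻¹ = d⁻¹ := by
    have h := hconj m
    rw [if_neg (Nat.not_even_iff_odd.mpr hm)] at h
    rw [hn2def, ← pow_mul, mul_comm, pow_mul]
    exact h
  have ht2ne : n2 ^ 2 ≠ 1 := by
    intro h
    rw [h] at ht2
    simp at ht2
    exact hdd ht2
  have hP2 : IsPGroup 2 (Subgroup.zpowers n2) := by
    obtain ⟨j, -, hj⟩ := (Nat.dvd_prime_pow Nat.prime_two).mp (orderOf_dvd_of_pow_eq_one hn2pow)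
    exact IsPGroup.of_card (n := j) (by rw [Nat.card_zpowers, hj])
  obtain ⟨S, hS⟩ := hP2.exists_le_sylow
  have hn2S : n2 ∈ (S : Subgroup G) := hS (Subgroup.mem_zpowers n2)
  have heven : Even (Nat.card G) := by
    have h1 : orderOf (n2 ^ 2) ∣ Nat.card G := orderOf_dvd_natCard _
    have h2 : (n2 ^ 2) ^ (2 ^ e) = 1 := by
      rw [← pow_mul, mul_comm, pow_mul, hn2pow, one_pow]
    obtain ⟨j, -, hj⟩ := (Nat.dvd_prime_pow Nat.prime_two).mp (orderOf_dvd_of_pow_eq_one h2)
    have hj0 : j ≠ 0 := by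
      rintro rfl
      rw [pow_zero, orderOf_eq_one_iff] at hj
      exact ht2ne hj
    rw [hj] at h1
    exact even_iff_two_dvd.mpr ((dvd_pow_self 2 hj0).trans h1)
  rcases h2 S with hcyc | helem | ⟨⟨φ⟩⟩
  · -- cyclic Sylow 2-subgroup: transfer
    have hmin : (Nat.card G).minFac = 2 := (Nat.minFac_eq_two_iff _).mpr heven.two_dvd
    have hNC := hcyc.normalizer_le_centralizer hmin
    have hker : ¬ 2 ∣ Nat.card (MonoidHom.transferSylow S hNC).ker :=
      MonoidHom.not_dvd_card_ker_transferSylow S hNC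
    have hkerodd : Odd (Nat.card (MonoidHom.transferSylow S hNC).ker) :=
      Nat.odd_iff.mpr (Nat.two_dvd_ne_zero.mp hker)
    have hmem : ∀ g : G, g ^ p = 1 → g ∈ (MonoidHom.transferSylow S hNC).ker := by
      intro g hg
      rw [MonoidHom.mem_ker]
      have h1 : (MonoidHom.transferSylow S hNC g) ^ p = 1 := by
        rw [← map_pow, hg, map_one]
      have hS2 : IsPGroup 2 S := S.isPGroup'
      obtain ⟨j, hj⟩ := hS2 (MonoidHom.transferSylow S hNC g)
      have hcop : Nat.Coprime p (2 ^ j) :=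
        Nat.Coprime.pow_right _ ((Nat.coprime_primes hp Nat.prime_two).mpr hp2)
      have h3 := Nat.dvd_gcd (orderOf_dvd_of_pow_eq_one h1) (orderOf_dvd_of_pow_eq_one hj)
      have h4 : Nat.gcd p (2 ^ j) = 1 := hcop
      rw [h4] at h3
      exact orderOf_eq_one_iff.mp (Nat.dvd_one.mp h3)
    exact key _ inferInstance hkerodd (hmem a ha) (hmem b hb)
  · -- elementary abelian
    exact ht2ne (helem.2 n2 hn2S)
  · -- quaternion of order 8
    -- `t2 = n2 ^ 2` is an involution of `S`
    have ht2S : n2 ^ 2 ∈ (S : Subgroup G) := Subgroup.pow_mem _ hn2S 2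
    have ht2sq : (n2 ^ 2) ^ 2 = 1 := by
      have h1 := quat_pow_four (φ ⟨n2, hn2S⟩)
      rw [← map_pow, ← map_one φ] at h1
      have h2 := congrArg Subtype.val (φ.injective h1)
      have h3 : n2 ^ 4 = 1 := by simpa using h2
      rw [← pow_mul]; exact h3
    -- an element of `S` whose square is not `1`
    obtain ⟨w, hwS, hw2⟩ : ∃ w : G, w ∈ (S : Subgroup G) ∧ w ^ 2 ≠ 1 := by
      refine ⟨(φ.symm (QuaternionGroup.xa 0) : G), (φ.symm (QuaternionGroup.xa 0)).2, ?_⟩
      intro h
      have h1 : (φ.symm (QuaternionGroup.xa 0)) ^ 2 = 1 := Subtype.ext (by simpa using h)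
      rw [← map_pow, QuaternionGroup.xa_sq, ← map_one φ.symm] at h1
      have h2 := φ.symm.injective h1
      have h3 : (QuaternionGroup.a 2 : QuaternionGroup 2) = 1 := by
        rw [← h2]; rfl
      exact quat_a_two_ne_one h3
    -- no Klein four-subgroup
    have hrank : ∀ E : Subgroup G, ¬ IsKleinFour E := by
      intro E hE
      have hE2 : IsPGroup 2 E := IsPGroup.of_card (n := 2) (by rw [hE.card_four]; norm_num)
      obtain ⟨S', hS'⟩ := hE2.exists_le_sylow
      rcases h2 S' with hcyc' | helem' | ⟨⟨ψ⟩⟩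
      · have h1 : IsCyclic (E.subgroupOf (S' : Subgroup G)) := inferInstance
        have h2 : IsCyclic E :=
          isCyclic_of_surjective (Subgroup.subgroupOfEquivOfLe hS')
            (Subgroup.subgroupOfEquivOfLe hS').surjective
        exact hE.not_isCyclic h2
      · obtain ⟨g, hg⟩ := MulAction.exists_smul_eq G S S'
        have h1 : MulAut.conj g • w ∈ MulAut.conj g • (S : Subgroup G) :=
          Subgroup.smul_mem_pointwise_smul w (MulAut.conj g) (S : Subgroup G) hwS
        rw [← Sylow.coe_subgroup_smul, hg] at h1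
        have h3 := helem'.2 _ h1
        rw [MulAut.smul_def, MulAut.conj_apply] at h3
        have h4 : (g * w * g⁻¹) ^ 2 = g * w ^ 2 * g⁻¹ := by
          rw [sq, sq]; group
        rw [h4] at h3
        have h5 : w ^ 2 = 1 := by
          have : w ^ 2 = g⁻¹ * (g * w ^ 2 * g⁻¹) * g := by group
          rw [this, h3]; group
        exact hw2 h5
      · exact no_klein_of_quat (S' : Subgroup G) ψ E hS' hE
    obtain ⟨z, hz, N, hNn, hNodd, hzN⟩ := Cfsg.Agent.S0225.result heven hrank
    -- `z` is conjugate to `n2 ^ 2`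
    have hz2 : z ^ 2 = 1 := by rw [← hz, pow_orderOf_eq_one]
    have hz1 : z ≠ 1 := by
      rintro rfl
      rw [orderOf_one] at hz
      norm_num at hz
    have hZ2 : IsPGroup 2 (Subgroup.zpowers z) :=
      IsPGroup.of_card (n := 1) (by rw [Nat.card_zpowers, hz, pow_one])
    obtain ⟨S'', hS''⟩ := hZ2.exists_le_sylow
    obtain ⟨g, hg⟩ := MulAction.exists_smul_eq G S'' S
    have hzS : g * z * g⁻¹ ∈ (S : Subgroup G) := by
      have h1 : MulAut.conj g • z ∈ MulAut.conj g • (S'' : Subgroup G) :=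
        Subgroup.smul_mem_pointwise_smul z (MulAut.conj g) (S'' : Subgroup G)
          (hS'' (Subgroup.mem_zpowers z))
      rw [← Sylow.coe_subgroup_smul, hg] at h1
      rwa [MulAut.smul_def, MulAut.conj_apply] at h1
    have hzg2 : (g * z * g⁻¹) ^ 2 = 1 := by
      have : (g * z * g⁻¹) ^ 2 = g * z ^ 2 * g⁻¹ := by rw [sq, sq]; group
      rw [this, hz2]; group
    have hzg1 : g * z * g⁻¹ ≠ 1 := by
      intro h
      apply hz1
      have : z = g⁻¹ * (g * z * g⁻¹) * g := by group
      rw [this, h]; group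
    have hteq : n2 ^ 2 = g * z * g⁻¹ :=
      quat_invol_unique (S : Subgroup G) φ _ _ ht2S hzS ht2sq hzg2 ht2ne hzg1
    -- `d ∈ N`
    have hcomm : ∀ x : G, n2 ^ 2 * x * (n2 ^ 2)⁻¹ * x⁻¹ ∈ N := by
      intro x
      have h1 := hzN (g⁻¹ * x * g)
      have h2 := hNn.conj_mem _ h1 g
      have h3 : g * (z * (g⁻¹ * x * g) * z⁻¹ * (g⁻¹ * x * g)⁻¹) * g⁻¹
          = n2 ^ 2 * x * (n2 ^ 2)⁻¹ * x⁻¹ := by
        rw [hteq]; group
      rwa [h3] at h2
    have hdN : d ∈ N := by
      have h1 := hcomm d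
      rw [ht2] at h1
      have h2 : d ^ 2 ∈ N := by
        have : d ^ 2 = (d⁻¹ * d⁻¹)⁻¹ := by rw [mul_inv_rev, inv_inv, sq]
        rw [this]; exact N.inv_mem h1
      obtain ⟨k, hk⟩ := hpodd
      have h3 : d = (d ^ 2) ^ (k + 1) := by
        rw [← pow_mul]
        have : 2 * (k + 1) = p + 1 := by omega
        rw [this, pow_succ, hd, one_mul]
      rw [h3]; exact N.pow_mem h2 _
    have hmem : ∀ x : G, x ^ p = 1 → x ∈ N := by
      intro x hx
      by_cases hx1 : x = 1
      · rw [hx1]; exact N.one_mem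
      · have hox : orderOf x = p := orderOf_eq_prime hx hx1
        have hPd : IsPGroup p (Subgroup.zpowers d) :=
          IsPGroup.of_card (n := 1) (by rw [Nat.card_zpowers, hordd, pow_one])
        have hPx : IsPGroup p (Subgroup.zpowers x) :=
          IsPGroup.of_card (n := 1) (by rw [Nat.card_zpowers, hox, pow_one])
        obtain ⟨h, hh⟩ := hDp (Subgroup.zpowers d) (Subgroup.zpowers x) hPd hPx
          (by rw [Nat.card_zpowers, Nat.card_zpowers, hordd, hox])
        have hxm : x ∈ (Subgroup.zpowers d).map (MulAut.conj h).toMonoidHom := by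
          rw [← hh]; exact Subgroup.mem_zpowers x
        obtain ⟨y, hy, hyx⟩ := Subgroup.mem_map.mp hxm
        have hyN : y ∈ N := (Subgroup.zpowers_le.mpr hdN) hy
        have : x = h * y * h⁻¹ := by
          rw [← hyx]; rfl
        rw [this]; exact hNn.conj_mem y hyN h
    exact key N hNn hNodd (hmem a ha) (hmem b hb)

end Cfsg.Agent.H67.EqOrd
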