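import Mathlib
import Cfsg.Prelude.Def_Solvable
import Cfsg.Agent.H1.Basic

set_option autoImplicit false

/-!
# Frobenius groups from fixed-point-free semidirect products

* `exists_conj_of_fpf`: if `y` has no nontrivial fixed point in the normal subgroup `N`, then
  every `n * y` (`n ∈ N`) is an `N`-conjugate of `y`.
* `frobenius_of_semidirect`: `X = N ⋊ B` with no nontrivial commuting pairs is a Frobenius group
  with complement `B` and kernel `N`.
* `mem_zpowers_of_fpf`: an elementary abelian group acting fixed-point-freely on a nontrivial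
  abelian normal subgroup of coprime order is cyclic.
-/

namespace Cfsg.Agent.H67

open Pointwise

section

variable {X : Type*} [Group X]

/-- if `y` has no nontrivial fixed point in the finite normal subgroup `N`, then every `n * y`
with `n ∈ N` is conjugate to `y` by an element of `N`. -/
theorem exists_conj_of_fpf [Finite X] (N : Subgroup X) [hN : N.Normal] (y : X)
    (hy : ∀ n ∈ N, n * y = y * n → n = 1) (n : X) (hn : n ∈ N) :
    ∃ m ∈ N, m * y * m⁻¹ = n * y := by
  let f : N → N := fun m => ⟨(m : X) * y * (m : X)⁻¹ * y⁻¹, by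
    have h1 : y * (m : X)⁻¹ * y⁻¹ ∈ N := hN.conj_mem _ (N.inv_mem m.2) y
    have h2 : (m : X) * y * (m : X)⁻¹ * y⁻¹ = (m : X) * (y * (m : X)⁻¹ * y⁻¹) := by group
    rw [h2]
    exact N.mul_mem m.2 h1⟩
  have hf : Function.Injective f := by
    intro m m' h
    have h1 : (m : X) * y * (m : X)⁻¹ * y⁻¹ = (m' : X) * y * (m' : X)⁻¹ * y⁻¹ :=
      congrArg Subtype.val h
    have h2 : ((m' : X)⁻¹ * (m : X)) * y = y * ((m' : X)⁻¹ * (m : X)) := by
      have h3 : (m : X) * y * (m : X)⁻¹ = (m' : X) * y * (m' : X)⁻¹ := mul_right_cancel h1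
      calc ((m' : X)⁻¹ * (m : X)) * y = (m' : X)⁻¹ * ((m : X) * y * (m : X)⁻¹) * (m : X) := by group
        _ = (m' : X)⁻¹ * ((m' : X) * y * (m' : X)⁻¹) * (m : X) := by rw [h3]
        _ = _ := by group
    have h4 := hy _ (N.mul_mem (N.inv_mem m'.2) m.2) h2
    apply Subtype.ext
    calc (m : X) = (m' : X) * ((m' : X)⁻¹ * (m : X)) := by group
      _ = (m' : X) := by rw [h4, mul_one]
  obtain ⟨m, hm⟩ := (Finite.injective_iff_surjective.1 hf) ⟨n, hn⟩
  refine ⟨m, m.2, ?_⟩
  have h1 : (m : X) * y * (m : X)⁻¹ * y⁻¹ = n := congrArg Subtype.val hm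
  calc (m : X) * y * (m : X)⁻¹ = ((m : X) * y * (m : X)⁻¹ * y⁻¹) * y := by group
    _ = n * y := by rw [h1]

/-- a semidirect product `N ⋊ B` in which no nontrivial element of `B` commutes with a
nontrivial element of `N` is a Frobenius group with complement `B` and kernel `N`. -/
theorem frobenius_of_semidirect [Finite X] (N B : Subgroup X) [hN : N.Normal]
    (hinf : N ⊓ B = ⊥) (hsup : N ⊔ B = ⊤) (hN1 : N ≠ ⊥) (hB1 : B ≠ ⊥)
    (hfpf : ∀ b ∈ B, ∀ n ∈ N, b * n = n * b → b = 1 ∨ n = 1) :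
    Cfsg.IsFrobeniusComplement B ∧ Cfsg.frobeniusKernel B = (N : Set X) := by
  have hdecomp : ∀ g : X, ∃ n ∈ N, ∃ b ∈ B, n * b = g := by
    intro g
    have hg : g ∈ N ⊔ B := hsup ▸ Subgroup.mem_top g
    exact Subgroup.mem_sup_of_normal_left.1 hg
  have hNB : ∀ x, x ∈ N → x ∈ B → x = 1 := by
    intro x hxN hxB
    have : x ∈ N ⊓ B := ⟨hxN, hxB⟩
    rwa [hinf, Subgroup.mem_bot] at this
  refine ⟨⟨hB1, ?_, ?_⟩, ?_⟩
  · intro hBtop
    apply hN1
    rw [hBtop, inf_top_eq] at hinf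
    exact hinf
  · intro g hg
    rw [eq_bot_iff]
    rintro x ⟨hxB, hxg⟩
    rw [Subgroup.mem_bot]
    have hxg' : g⁻¹ * x * g ∈ B := (Cfsg.Agent.H1.mem_conj_smul_iff g x B).1 hxg
    obtain ⟨n, hn, b, hb, rfl⟩ := hdecomp g
    have hn1 : n ≠ 1 := by
      rintro rfl
      apply hg
      rw [one_mul]
      exact hb
    -- `n⁻¹ x n ∈ B`
    have h1 : n⁻¹ * x * n ∈ B := by
      have h2 : n⁻¹ * x * n = b * ((n * b)⁻¹ * x * (n * b)) * b⁻¹ := by group
      rw [h2]
      exact B.mul_mem (B.mul_mem hb hxg') (B.inv_mem hb)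
    have h3 : x⁻¹ * (n⁻¹ * x * n) ∈ N := by
      have h4 : x⁻¹ * (n⁻¹ * x * n) = (x⁻¹ * n⁻¹ * x⁻¹⁻¹) * n := by group
      rw [h4]
      exact N.mul_mem (hN.conj_mem _ (N.inv_mem hn) _) hn
    have h5 : x⁻¹ * (n⁻¹ * x * n) = 1 := hNB _ h3 (B.mul_mem (B.inv_mem hxB) h1)
    have h6 : x * n = n * x := by
      calc x * n = n * (x * (x⁻¹ * (n⁻¹ * x * n))) := by group
        _ = n * x := by rw [h5, mul_one]
    rcases hfpf x hxB n hn h6 with h | h
    · exact h
    · exact absurd h hn1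
  · ext x
    constructor
    · intro hx
      rcases hx with rfl | hx
      · exact N.one_mem
      · by_contra hxN
        obtain ⟨n, hn, b, hb, rfl⟩ := hdecomp x
        have hb1 : b ≠ 1 := by
          rintro rfl
          apply hxN
          rw [mul_one]
          exact hn
        have hy : ∀ m ∈ N, m * b = b * m → m = 1 := by
          intro m hm hmb
          rcases hfpf b hb m hm hmb.symm with h | h
          · exact absurd h hb1
          · exact h
        obtain ⟨m, hm, hmy⟩ := exists_conj_of_fpf N b hy n hn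
        apply hx m
        rw [Cfsg.Agent.H1.mem_conj_smul_iff, ← hmy]
        have : m⁻¹ * (m * b * m⁻¹) * m = b := by group
        rw [this]
        exact hb
    · intro hx
      by_cases hx1 : x = 1
      · exact Or.inl hx1
      · right
        intro g hxg
        rw [Cfsg.Agent.H1.mem_conj_smul_iff] at hxg
        have h1 : g⁻¹ * x * g ∈ N := by
          have := hN.conj_mem x hx g⁻¹
          rwa [inv_inv] at this
        have h2 := hNB _ h1 hxg
        apply hx1
        calc x = g * (g⁻¹ * x * g) * g⁻¹ := by group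
          _ = 1 := by rw [h2]; group

end

section norm

variable {W : Type*} [CommGroup W]

/-- the "norm" of `w` with respect to an automorphism `γ` of order dividing `q`. -/
noncomputable def autNorm (q : ℕ) [NeZero q] (γ : MulAut W) (w : W) : W :=
  ∏ t : ZMod q, (γ ^ t.val) w

theorem autNorm_fixed (q : ℕ) [NeZero q] (γ : MulAut W) (hγ : γ ^ q = 1) (w : W) :
    γ (autNorm q γ w) = autNorm q γ w := by
  unfold autNorm
  rw [map_prod]
  apply Fintype.prod_equiv (Equiv.addRight (1 : ZMod q))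
  intro t
  show γ ((γ ^ t.val) w) = (γ ^ (t + 1).val) w
  have h1 : γ ((γ ^ t.val) w) = (γ ^ (t.val + 1)) w := by
    rw [pow_succ']
    rfl
  rw [h1, pow_eq_pow_mod (t.val + 1) hγ, pow_eq_pow_mod (t + 1).val hγ]
  congr 2
  rw [ZMod.val_add, Nat.mod_mod]
  by_cases hq : q = 1
  · subst hq
    simp [Nat.mod_one]
  · have : (1 : ZMod q).val = 1 := by
      have : Fact (1 < q) := ⟨by have := NeZero.ne q; omega⟩
      exact ZMod.val_one q
    rw [this]

theorem pow_eq_one_of_autNorm (q : ℕ) [hq : Fact q.Prime] (α β : MulAut W) (hαβ : Commute α β)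
    (hα : α ^ q = 1) (hβ : β ^ q = 1) (w : W) (h1 : autNorm q β w = 1)
    (h2 : ∀ j : ZMod q, autNorm q (α * β ^ j.val) w = 1) : w ^ q = 1 := by
  have hq0 : NeZero q := ⟨hq.out.ne_zero⟩
  have key : ∏ j : ZMod q, autNorm q (α * β ^ j.val) w = w ^ q := by
    unfold autNorm
    rw [Finset.prod_comm]
    rw [Finset.prod_eq_single (0 : ZMod q)]
    · simp
    · intro i _ hi
      have h3 : ∀ j : ZMod q, ((α * β ^ j.val) ^ i.val) w = (α ^ i.val) ((β ^ (j * i).val) w) := by
        intro j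
        rw [(hαβ.pow_right j.val).mul_pow, ← pow_mul, pow_eq_pow_mod (j.val * i.val) hβ,
          ZMod.val_mul]
        rfl
      rw [Finset.prod_congr rfl (fun j _ => h3 j), ← map_prod]
      have h4 : ∏ j : ZMod q, (β ^ (j * i).val) w = autNorm q β w := by
        unfold autNorm
        exact Fintype.prod_equiv (Equiv.mulRight₀ i hi) _ _ (fun j => rfl)
      rw [h4, h1, map_one]
    · intro h
      exact absurd (Finset.mem_univ _) h
  rw [← key]
  exact Finset.prod_eq_one (fun j _ => h2 j)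

end norm

section

variable {X : Type*} [Group X]

/-- an abelian group generated by two elements of order dividing the prime `q`, acting
fixed-point-freely on a nontrivial abelian normal subgroup `W` of order prime to `q`, is cyclic:
`u₂ = 1` or `u₁ ∈ ⟨u₂⟩`. -/
theorem mem_zpowers_of_fpf [Finite X] (q : ℕ) [hq : Fact q.Prime] (W : Subgroup X) [hW : W.Normal]
    (hWcomm : ∀ a ∈ W, ∀ b ∈ W, a * b = b * a) (hW1 : W ≠ ⊥) (hqW : ¬ q ∣ Nat.card W)
    (u₁ u₂ : X) (hcomm : u₁ * u₂ = u₂ * u₁) (hu₁ : u₁ ^ q = 1) (hu₂ : u₂ ^ q = 1)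
    (hfpf : ∀ i j : ℕ, u₁ ^ i * u₂ ^ j ≠ 1 → ∀ w ∈ W, (u₁ ^ i * u₂ ^ j) * w = w * (u₁ ^ i * u₂ ^ j)
      → w = 1) :
    u₂ = 1 ∨ u₁ ∈ Subgroup.zpowers u₂ := by
  by_contra hcon
  push Not at hcon
  obtain ⟨hu₂1, hu₁z⟩ := hcon
  have hq0 : NeZero q := ⟨hq.out.ne_zero⟩
  letI : CommGroup W := { (inferInstance : Group W) with
    mul_comm := fun a b => Subtype.ext (hWcomm a a.2 b b.2) }
  let Φ : X →* MulAut W := MulAut.conjNormal
  have hΦfix : ∀ (u : X), (∀ w ∈ W, u * w = w * u → w = 1) → ∀ w : W, (Φ u) w = w → w = 1 := by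
    intro u hu w hw
    have h1 : ((Φ u) w : X) = u * (w : X) * u⁻¹ := MulAut.conjNormal_apply u w
    rw [hw] at h1
    have h2 : u * (w : X) = (w : X) * u := by
      calc u * (w : X) = (u * (w : X) * u⁻¹) * u := by group
        _ = (w : X) * u := by rw [← h1]
    exact Subtype.ext (hu w w.2 h2)
  have hne : ∀ j : ZMod q, u₁ ^ 1 * u₂ ^ j.val ≠ 1 := by
    intro j h
    apply hu₁z
    rw [pow_one] at h
    have : u₁ = (u₂ ^ j.val)⁻¹ := eq_inv_of_mul_eq_one_left h
    rw [this]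
    exact Subgroup.inv_mem _ (Subgroup.pow_mem _ (Subgroup.mem_zpowers u₂) _)
  have hαβ : Commute (Φ u₁) (Φ u₂) := by
    show Φ u₁ * Φ u₂ = Φ u₂ * Φ u₁
    rw [← map_mul, ← map_mul, hcomm]
  have hα : (Φ u₁) ^ q = 1 := by rw [← map_pow, hu₁, map_one]
  have hβ : (Φ u₂) ^ q = 1 := by rw [← map_pow, hu₂, map_one]
  have hall : ∀ w : W, w = 1 := by
    intro w
    have h1 : autNorm q (Φ u₂) w = 1 := by
      apply hΦfix u₂ _ _ (autNorm_fixed q (Φ u₂) hβ w)
      intro w' hw' hc
      have := hfpf 0 1 (by rwa [pow_zero, one_mul, pow_one]) w' hw'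
        (by rwa [pow_zero, one_mul, pow_one])
      exact this
    have h2 : ∀ j : ZMod q, autNorm q (Φ u₁ * (Φ u₂) ^ j.val) w = 1 := by
      intro j
      have hγ : (Φ u₁ * (Φ u₂) ^ j.val) ^ q = 1 := by
        rw [(hαβ.pow_right j.val).mul_pow, hα, ← pow_mul, mul_comm, pow_mul, hβ, one_pow, one_mul]
      have hΦ : Φ u₁ * (Φ u₂) ^ j.val = Φ (u₁ ^ 1 * u₂ ^ j.val) := by
        rw [map_mul, map_pow, map_pow, pow_one]
      rw [hΦ] at hγ ⊢
      apply hΦfix (u₁ ^ 1 * u₂ ^ j.val) _ _ (autNorm_fixed q _ hγ w)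
      intro w' hw' hc
      exact hfpf 1 j.val (hne j) w' hw' hc
    have h3 : w ^ q = 1 := pow_eq_one_of_autNorm q (Φ u₁) (Φ u₂) hαβ hα hβ w h1 h2
    have h4 : orderOf w ∣ q := orderOf_dvd_of_pow_eq_one h3
    have h5 : orderOf w ∣ Nat.card W := orderOf_dvd_natCard w
    rcases (Nat.dvd_prime hq.out).1 h4 with h | h
    · exact orderOf_eq_one_iff.1 h
    · exact absurd (h ▸ h5) hqW
  apply hW1
  rw [eq_bot_iff]
  intro x hx
  have := hall ⟨x, hx⟩
  rw [Subgroup.mem_bot]
  exact congrArg Subtype.val this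

end

end Cfsg.Agent.H67
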