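import Cfsg.Agent.H59.JzKillDefs

/-!
# JZ-KILL sub-piece K-FIX (abstract)

An involution normalizing an elementary abelian 2-group `V` of order `≥ 16` centralizes two
distinct nontrivial elements of `V`: `v ↦ v · b v b` is an endomorphism of `V` with kernel and
image inside `C_V(b)`, so `|C_V(b)|² ≥ |V|`.
-/

set_option autoImplicit false
open Cfsg

namespace Cfsg.Agent.H67.Jz

universe u

theorem kFix : Cfsg.Agent.H59.JzK.StKFix.{u} := by
  intro G _ _ V hV2 hcard b hb hbb
  classical
  have hbinv : b⁻¹ = b := inv_eq_of_mul_eq_one_right hbb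
  have hinv : ∀ v ∈ V, v⁻¹ = v := fun v hv => inv_eq_of_mul_eq_one_right (hV2 v hv)
  have hcomm : ∀ v ∈ V, ∀ w ∈ V, v * w = w * v := by
    intro v hv w hw
    have h1 := hinv (v * w) (V.mul_mem hv hw)
    rw [mul_inv_rev, hinv v hv, hinv w hw] at h1
    exact h1.symm
  have hbV : ∀ v ∈ V, b * v * b ∈ V := by
    intro v hv
    have := (Subgroup.mem_normalizer_iff.mp hb v).mp hv
    rwa [hbinv] at this
  let φ : ↥V →* ↥V := MonoidHom.mk'
    (fun v => ⟨(v : G) * (b * v * b), V.mul_mem v.2 (hbV v v.2)⟩) (by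
      intro v w
      apply Subtype.ext
      simp only [Subgroup.coe_mul]
      have e1 : b * ((v : G) * w) * b = (b * v * b) * (b * w * b) := by
        have : b * (v : G) * b * (b * w * b) = b * v * (b * b) * w * b := by group
        rw [this, hbb, mul_one]; group
      rw [e1]
      have hc := hcomm (w : G) w.2 (b * v * b) (hbV v v.2)
      calc (v : G) * w * (b * v * b * (b * w * b))
          = v * (w * (b * v * b)) * (b * w * b) := by group
        _ = v * ((b * v * b) * w) * (b * w * b) := by rw [hc]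
        _ = v * (b * v * b) * (w * (b * w * b)) := by group)
  have hφ : ∀ v : ↥V, ((φ v : ↥V) : G) = (v : G) * (b * v * b) := fun v => rfl
  let C : Subgroup G := V ⊓ Subgroup.centralizer {b}
  have hmemC : ∀ x : G, x ∈ V → b * x = x * b → x ∈ C := by
    intro x hx hxb
    refine Subgroup.mem_inf.mpr ⟨hx, ?_⟩
    rw [Subgroup.mem_centralizer_iff]
    intro h hh
    rw [Set.mem_singleton_iff] at hh
    rw [hh]; exact hxb
  have hker : Nat.card ↥φ.ker ≤ Nat.card ↥C := by
    have h1 : φ.ker.map V.subtype ≤ C := by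
      rintro _ ⟨x, hx, rfl⟩
      apply hmemC _ x.2
      have h2 : ((φ x : ↥V) : G) = 1 := by
        rw [MonoidHom.mem_ker.mp hx]; rfl
      rw [hφ] at h2
      -- x * (b x b) = 1, so b x b = x⁻¹ = x
      have h3 : b * (x : G) * b = x := by
        have := eq_inv_of_mul_eq_one_right h2
        rw [hinv _ x.2] at this
        exact this
      calc b * (V.subtype x) = b * (x : G) * (b * b) := by rw [hbb, mul_one]; rfl
        _ = (b * (x : G) * b) * b := by group
        _ = (V.subtype x) * b := by rw [h3]; rfl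
    have h3 := Subgroup.card_le_of_le h1
    rwa [Subgroup.card_map_of_injective V.subtype_injective] at h3
  have hrange : Nat.card ↥φ.range ≤ Nat.card ↥C := by
    have h1 : φ.range.map V.subtype ≤ C := by
      rintro _ ⟨y, ⟨v, rfl⟩, rfl⟩
      apply hmemC _ (φ v).2
      show b * ((φ v : ↥V) : G) = ((φ v : ↥V) : G) * b
      rw [hφ]
      have hc := hcomm (v : G) v.2 (b * v * b) (hbV v v.2)
      calc b * ((v : G) * (b * v * b)) = b * ((b * v * b) * v) := by rw [hc]
        _ = (b * b) * v * b * v := by group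
        _ = (v : G) * b * v * (b * b) := by rw [hbb]; group
        _ = (v : G) * (b * v * b) * b := by group
    have h3 := Subgroup.card_le_of_le h1
    rwa [Subgroup.card_map_of_injective V.subtype_injective] at h3
  have hmul : Nat.card ↥V = Nat.card ↥φ.ker * Nat.card ↥φ.range := by
    rw [← Subgroup.index_ker, Subgroup.card_mul_index]
  have h4 : 4 ≤ Nat.card ↥C := by
    have h5 : Nat.card ↥V ≤ Nat.card ↥C * Nat.card ↥C := by
      rw [hmul]; exact Nat.mul_le_mul hker hrange
    by_contra hlt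
    have h6 : Nat.card ↥C ≤ 3 := by omega
    have h7 : Nat.card ↥C * Nat.card ↥C ≤ 3 * 3 := Nat.mul_le_mul h6 h6
    omega
  haveI : Fintype ↥C := Fintype.ofFinite ↥C
  have h4' : 4 ≤ Fintype.card ↥C := by rw [← Nat.card_eq_fintype_card]; exact h4
  obtain ⟨v₁, hv₁⟩ : ∃ v₁ : ↥C, v₁ ≠ 1 := by
    by_contra h
    have h' : ∀ a : ↥C, a = 1 := fun a => by_contra fun ha => h ⟨a, ha⟩
    have : Fintype.card ↥C ≤ 1 := Fintype.card_le_one_iff.mpr (fun a c => by rw [h' a, h' c])
    omega
  obtain ⟨v₂, hv₂1, hv₂⟩ : ∃ v₂ : ↥C, v₂ ≠ 1 ∧ v₂ ≠ v₁ := by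
    by_contra h
    have h' : ∀ a : ↥C, a ≠ 1 → a = v₁ := fun a ha => by_contra fun ha' => h ⟨a, ha, ha'⟩
    have hsub : (Finset.univ : Finset ↥C) ⊆ {1, v₁} := by
      intro x _
      by_cases hx : x = 1
      · simp [hx]
      · simp [h' x hx]
    have h8 := Finset.card_le_card hsub
    have h9 : ({1, v₁} : Finset ↥C).card ≤ 2 := Finset.card_le_two
    rw [Finset.card_univ] at h8
    omega
  have hcent : ∀ x : ↥C, b * (x : G) = (x : G) * b := fun x =>
    Subgroup.mem_centralizer_iff.mp (Subgroup.mem_inf.mp x.2).2 b (Set.mem_singleton b)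
  refine ⟨(v₁ : G), (Subgroup.mem_inf.mp v₁.2).1, (v₂ : G), (Subgroup.mem_inf.mp v₂.2).1,
    ?_, ?_, ?_, hcent v₁, hcent v₂⟩
  · intro h; exact hv₁ (Subtype.ext h)
  · intro h; exact hv₂1 (Subtype.ext h)
  · intro h; exact hv₂ (Subtype.ext h.symm)

example : Cfsg.Agent.H59.JzK.StKFix.{u} := kFix

end Cfsg.Agent.H67.Jz

#print axioms Cfsg.Agent.H67.Jz.kFix
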