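import Mathlib
import Cfsg.Agent.H67.AbelianIndexP
import Cfsg.Agent.H67.SylowAux

set_option autoImplicit false

/-!
# p-groups of maximal class: Suzuki's lemma

* `relIndex_inf_centralizer_le`: orbit bound for the conjugation action of a subgroup.
* `card_map_mk'_mul_card`: order of the image of a subgroup in a quotient.
* `suzuki_max_class`: a `p`-group of order `p ^ n` with a self-centralizing subgroup of order
  `p ^ 2` has class `n - 1`.
* `max_class_of_nonabelian_cube`: a `p`-group of order `p ^ n` with a nonabelian subgroup `B` of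
  order `p ^ 3` with `C(B) ≤ B` has class `n - 1`.
-/

namespace Cfsg.Agent.H67

universe u

section general

variable {X : Type*} [Group X]

/-- the conjugation orbit bound: if all `D`-conjugates of `a` lie in the finite set `S`, then
`|D : C_D(a)| ≤ |S|`. -/
theorem relIndex_inf_centralizer_le (D : Subgroup X) (a : X) (S : Set X) [Finite S]
    (hS : ∀ y ∈ D, y * a * y⁻¹ ∈ S) :
    (D ⊓ Subgroup.centralizer {a}).relIndex D ≤ Nat.card S := by
  classical
  let E : Subgroup D := (D ⊓ Subgroup.centralizer {a}).subgroupOf D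
  have hE : ∀ y : D, y ∈ E ↔ (y : X) * a = a * (y : X) := by
    intro y
    simp only [E, Subgroup.mem_subgroupOf, Subgroup.mem_inf,
      Subgroup.mem_centralizer_singleton_iff]
    exact ⟨fun h => h.2, fun h => ⟨y.2, h⟩⟩
  let f : D ⧸ E → S := Quotient.lift
    (fun y : D => (⟨(y : X) * a * (y : X)⁻¹, hS y y.2⟩ : S)) (by
      intro y y' h
      have h' : y⁻¹ * y' ∈ E := QuotientGroup.leftRel_apply.1 h
      rw [hE] at h'
      apply Subtype.ext
      show (y : X) * a * (y : X)⁻¹ = (y' : X) * a * (y' : X)⁻¹
      have h'' : (y : X)⁻¹ * (y' : X) * a = a * ((y : X)⁻¹ * (y' : X)) := by simpa using h'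
      have h3 : (y' : X) * a = (y : X) * a * (y : X)⁻¹ * (y' : X) := by
        calc (y' : X) * a = (y : X) * ((y : X)⁻¹ * (y' : X) * a) := by group
          _ = (y : X) * (a * ((y : X)⁻¹ * (y' : X))) := by rw [h'']
          _ = _ := by group
      rw [h3]; group)
  have hf : Function.Injective f := by
    intro q q' hqq
    obtain ⟨y, rfl⟩ := QuotientGroup.mk_surjective q
    obtain ⟨y', rfl⟩ := QuotientGroup.mk_surjective q'
    have h1 : (y : X) * a * (y : X)⁻¹ = (y' : X) * a * (y' : X)⁻¹ := congrArg Subtype.val hqq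
    apply QuotientGroup.eq.2
    rw [hE]
    have h2 : ((y⁻¹ * y' : D) : X) = (y : X)⁻¹ * (y' : X) := by simp
    rw [h2]
    calc (y : X)⁻¹ * (y' : X) * a = (y : X)⁻¹ * ((y' : X) * a * (y' : X)⁻¹) * (y' : X) := by group
      _ = (y : X)⁻¹ * ((y : X) * a * (y : X)⁻¹) * (y' : X) := by rw [h1]
      _ = _ := by group
  calc (D ⊓ Subgroup.centralizer {a}).relIndex D = Nat.card (D ⧸ E) := rfl
    _ ≤ Nat.card S := Nat.card_le_card_of_injective f hf

/-- order of the image of a subgroup in a quotient. -/
theorem card_map_mk'_mul_card [Finite X] (Z N : Subgroup X) [Z.Normal] (h : Z ≤ N) :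
    Nat.card (N.map (QuotientGroup.mk' Z)) * Nat.card Z = Nat.card N := by
  have h1 : (N.map (QuotientGroup.mk' Z)).comap (QuotientGroup.mk' Z) = N := by
    rw [Subgroup.comap_map_eq, QuotientGroup.ker_mk']; exact sup_eq_left.2 h
  have h2 : (N.map (QuotientGroup.mk' Z)).index = N.index := by
    rw [← Subgroup.index_comap_of_surjective _ (QuotientGroup.mk'_surjective Z), h1]
  have h3 := Subgroup.card_mul_index (N.map (QuotientGroup.mk' Z))
  have h4 := Subgroup.card_mul_index N
  have h5 := Subgroup.card_eq_card_quotient_mul_card_subgroup Z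
  have h6 : N.index ≠ 0 := Subgroup.index_ne_zero_of_finite
  rw [h2] at h3
  apply Nat.eq_of_mul_eq_mul_right (Nat.pos_of_ne_zero h6)
  calc Nat.card (N.map (QuotientGroup.mk' Z)) * Nat.card Z * N.index
      = (Nat.card (N.map (QuotientGroup.mk' Z)) * N.index) * Nat.card Z := by ring
    _ = Nat.card (X ⧸ Z) * Nat.card Z := by rw [h3]
    _ = Nat.card X := h5.symm
    _ = _ := h4.symm

theorem exists_card_eq_pow_of_le {p : ℕ} [Fact p.Prime] {H K : Subgroup X} {k : ℕ}
    (hK : Nat.card K = p ^ k) (h : H ≤ K) : ∃ j ≤ k, Nat.card H = p ^ j := by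
  have : Nat.card H ∣ p ^ k := hK ▸ Subgroup.card_dvd_of_le h
  exact (Nat.dvd_prime_pow Fact.out).1 this

/-- strict inclusion of subgroups of prime power order gives strict inequality of exponents -/
theorem pow_lt_of_lt [Finite X] {p : ℕ} [Fact p.Prime] {H K : Subgroup X} {i j : ℕ}
    (hH : Nat.card H = p ^ i) (hK : Nat.card K = p ^ j) (h : H < K) : i < j := by
  have hp : p.Prime := Fact.out
  have hlt := card_lt_card_of_lt h
  rw [hH, hK] at hlt
  exact (Nat.pow_lt_pow_iff_right hp.one_lt).1 hlt

end general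

/-- **Suzuki's lemma**: a `p`-group of order `p ^ n` having a self-centralizing subgroup of
order `p ^ 2` has nilpotency class `n - 1`. -/
theorem suzuki_max_class {p : ℕ} [Fact p.Prime] : ∀ (n : ℕ) (X : Type u) [Group X] [Finite X],
    Nat.card X = p ^ n → ∀ A : Subgroup X, Nat.card A = p ^ 2 →
      Subgroup.centralizer (A : Set X) ≤ A → Group.nilpotencyClass X = n - 1 := by
  have hp : p.Prime := Fact.out
  intro n
  induction n with
  | zero =>
    intro X _ _ hX A hA hC
    exfalso
    have h1 : Nat.card A ∣ Nat.card X := Subgroup.card_subgroup_dvd_card A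
    rw [hA, hX] at h1
    have := (Nat.pow_dvd_pow_iff_le_right hp.one_lt).1 h1
    omega
  | succ m ih =>
    intro X _ _ hX A hA hC
    have hXp : IsPGroup p X := IsPGroup.of_card hX
    haveI : Group.IsNilpotent X := hXp.isNilpotent
    haveI : Nontrivial X := by
      apply Finite.one_lt_card_iff_nontrivial.1
      rw [hX]
      exact Nat.one_lt_pow (by omega) hp.one_lt
    have hAcomm : ∀ a ∈ A, ∀ b ∈ A, a * b = b * a := by
      have := IsPGroup.isMulCommutative_of_card_eq_prime_sq hA
      intro a ha b hb
      exact mul_comm_of_isMulCommutative this ha hb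
    by_cases hAtop : A = ⊤
    · have hXc : Nat.card X = p ^ 2 := by rw [← hA, hAtop, Subgroup.card_top]
      have hm : m + 1 = 2 := Nat.pow_right_injective hp.two_le (hX.symm.trans hXc)
      have hcomm : IsMulCommutative X := IsPGroup.isMulCommutative_of_card_eq_prime_sq hXc
      have h1 : Group.nilpotencyClass X ≤ 1 :=
        Group.IsNilpotent.nilpotencyClass_le_one_iff.2 hcomm
      have h0 : Group.nilpotencyClass X ≠ 0 := by
        intro h
        rw [Group.nilpotencyClass_zero_iff_subsingleton] at h
        exact not_subsingleton X h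
      omega
    · set Z := Subgroup.center X with hZdef
      have hZA : Z ≤ A := (Subgroup.center_le_centralizer _).trans hC
      have hZbot : Z ≠ ⊥ := (hXp.bot_lt_center).ne'
      have hZneA : Z ≠ A := by
        intro h
        apply hAtop
        rw [eq_top_iff]
        intro x _
        apply hC
        rw [← h]
        exact Subgroup.mem_centralizer_iff.2 (fun z hz => (Subgroup.mem_center_iff.1 hz x).symm)
      have hZcard : Nat.card Z = p := by
        obtain ⟨j, hj, hjc⟩ := exists_card_eq_pow_of_le hA hZA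
        have hlt : j < 2 := pow_lt_of_lt hjc hA (lt_of_le_of_ne hZA hZneA)
        have hne1 : Nat.card Z ≠ 1 := fun h => hZbot (Subgroup.card_eq_one.1 h)
        have hj1 : j = 1 := by
          rcases j with _ | _ | j
          · rw [pow_zero] at hjc; exact absurd hjc hne1
          · rfl
          · omega
        rw [hjc, hj1, pow_one]
      obtain ⟨a, haA, haZ⟩ : ∃ a ∈ A, a ∉ Z := by
        by_contra hcon
        push Not at hcon
        exact hZneA (le_antisymm hZA hcon)
      have ha1 : a ≠ 1 := fun h => haZ (h ▸ Z.one_mem)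
      set N := Subgroup.normalizer (A : Set X) with hNdef
      have hAN : A ≤ N := Subgroup.le_normalizer
      have hANlt : A < N :=
        Group.normalizerCondition_of_isNilpotent A (lt_top_iff_ne_top.2 hAtop)
      have hcent : ∀ g : X, g * a = a * g → g ∈ A := by
        intro g hg
        apply hC
        set K := A ⊓ Subgroup.centralizer {g} with hK
        have hZK : Z ≤ K := le_inf hZA (by
          intro z hz
          exact Subgroup.mem_centralizer_singleton_iff.2 (Subgroup.mem_center_iff.1 hz g).symm)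
        have haK : a ∈ K := ⟨haA, Subgroup.mem_centralizer_singleton_iff.2 hg.symm⟩
        have hZKlt : Z < K := lt_of_le_of_ne hZK (fun h => haZ (h ▸ haK))
        have hKA : K = A := by
          obtain ⟨j, hj, hjc⟩ := exists_card_eq_pow_of_le hA (inf_le_left : K ≤ A)
          have hlt : 1 < j := pow_lt_of_lt (by rw [hZcard, pow_one]) hjc hZKlt
          apply Subgroup.eq_of_le_of_card_ge inf_le_left
          rw [hA, hjc]
          exact Nat.pow_le_pow_right hp.pos hlt
        rw [Subgroup.mem_centralizer_iff]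
        intro x hx
        have hxK : x ∈ K := hKA ▸ hx
        exact Subgroup.mem_centralizer_singleton_iff.1 hxK.2
      have hrel : A.relIndex N = p := by
        have hfin : Finite ((A : Set X) \ {1} : Set X) := Set.toFinite _ |>.to_subtype
        have hle : (N ⊓ Subgroup.centralizer {a}).relIndex N
            ≤ Nat.card ((A : Set X) \ {1} : Set X) := by
          apply relIndex_inf_centralizer_le
          intro y hy
          refine ⟨?_, ?_⟩
          · exact (Subgroup.mem_normalizer_iff.1 hy a).1 haA
          · intro h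
            apply ha1
            have h' : y * a * y⁻¹ = 1 := h
            calc a = y⁻¹ * (y * a * y⁻¹) * y := by group
              _ = 1 := by rw [h']; group
        have hNC : N ⊓ Subgroup.centralizer {a} = A := by
          apply le_antisymm
          · rintro g ⟨_, hg⟩
            exact hcent g (Subgroup.mem_centralizer_singleton_iff.1 hg)
          · intro g hg
            exact ⟨hAN hg, Subgroup.mem_centralizer_singleton_iff.2 (hAcomm g hg a haA)⟩
        rw [hNC] at hle
        have hcardS : Nat.card ((A : Set X) \ {1} : Set X) = p ^ 2 - 1 := by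
          rw [Nat.card_coe_set_eq, Set.ncard_sdiff_singleton_of_mem (show (1 : X) ∈ (A : Set X) from A.one_mem),
            ← Nat.card_coe_set_eq]
          exact congrArg (· - 1) hA
        rw [hcardS] at hle
        have hdvd : A.relIndex N ∣ Nat.card N := Subgroup.relIndex_dvd_card A N
        have hNp : IsPGroup p N := hXp.to_subgroup N
        obtain ⟨k, hk⟩ := IsPGroup.iff_card.1 hNp
        rw [hk] at hdvd
        obtain ⟨j, hj, hjc⟩ := (Nat.dvd_prime_pow hp).1 hdvd
        have hne1 : A.relIndex N ≠ 1 := fun h => (not_le_of_gt hANlt) (Subgroup.relIndex_eq_one.1 h)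
        have hj1 : j = 1 := by
          rcases j with _ | _ | j
          · rw [pow_zero] at hjc; exact absurd hjc hne1
          · rfl
          · exfalso
            rw [hjc] at hle
            have h2 : p ^ 2 ≤ p ^ (j + 1 + 1) := Nat.pow_le_pow_right hp.pos (by omega)
            have h3 : 0 < p ^ 2 := pow_pos hp.pos _
            omega
        rw [hjc, hj1, pow_one]
      have hNcard : Nat.card N = p ^ 3 := by
        have := card_mul_relIndex_of_le hAN
        rw [hA, hrel] at this
        rw [← this]; ring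
      have hm3 : 3 ≤ m + 1 := by
        have h1 : Nat.card N ∣ Nat.card X := Subgroup.card_subgroup_dvd_card N
        rw [hNcard, hX] at h1
        exact (Nat.pow_dvd_pow_iff_le_right hp.one_lt).1 h1
      have hXq : Nat.card (X ⧸ Z) = p ^ m := by
        have h5 := Subgroup.card_eq_card_quotient_mul_card_subgroup Z
        rw [hX, hZcard, pow_succ] at h5
        exact (Nat.eq_of_mul_eq_mul_right hp.pos h5).symm
      have hZN : Z ≤ N := hZA.trans hAN
      have hNbcard : Nat.card (N.map (QuotientGroup.mk' Z)) = p ^ 2 := by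
        have h1 := card_map_mk'_mul_card Z N hZN
        rw [hNcard, hZcard] at h1
        apply Nat.eq_of_mul_eq_mul_right hp.pos
        rw [h1]; ring
      have hCb : Subgroup.centralizer ((N.map (QuotientGroup.mk' Z) : Subgroup (X ⧸ Z)) : Set (X ⧸ Z))
          ≤ N.map (QuotientGroup.mk' Z) := by
        intro q hq
        obtain ⟨y, rfl⟩ := QuotientGroup.mk_surjective q
        have hyN : y ∈ N := by
          apply mem_normalizer_of_forall_conj_mem
          intro r hr
          have h1 := Subgroup.mem_centralizer_iff.1 hq (QuotientGroup.mk' Z r)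
            (Subgroup.mem_map_of_mem _ (hAN hr))
          have h1' : ((r : X) : X ⧸ Z) * ((y : X) : X ⧸ Z) = ((y : X) : X ⧸ Z) * ((r : X) : X ⧸ Z) := h1
          have h2 : ((r : X) : X ⧸ Z) = ((y * r * y⁻¹ : X) : X ⧸ Z) := by
            rw [QuotientGroup.mk_mul, QuotientGroup.mk_mul, QuotientGroup.mk_inv, ← h1']
            group
          have h3 := hZA (QuotientGroup.eq.1 h2)
          have h4 : y * r * y⁻¹ = r * (r⁻¹ * (y * r * y⁻¹)) := by group
          rw [h4]
          exact A.mul_mem hr h3
        exact Subgroup.mem_map_of_mem _ hyN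
      have hclass := ih (X ⧸ Z) hXq (N.map (QuotientGroup.mk' Z)) hNbcard hCb
      rw [Group.nilpotencyClass_eq_quotient_center_plus_one, hclass]
      omega

/-- a `p`-group of order `p ^ n` with a nonabelian subgroup `B` of order `p ^ 3` such that
`C(B) ≤ B` has nilpotency class `n - 1`. -/
theorem max_class_of_nonabelian_cube {p : ℕ} [Fact p.Prime] (X : Type u) [Group X] [Finite X]
    (n : ℕ) (hX : Nat.card X = p ^ n) (B : Subgroup X) (hB : Nat.card B = p ^ 3)
    (hBna : ¬ IsMulCommutative B) (hC : Subgroup.centralizer (B : Set X) ≤ B) :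
    Group.nilpotencyClass X = n - 1 := by
  have hp : p.Prime := Fact.out
  have hXp : IsPGroup p X := IsPGroup.of_card hX
  haveI : Group.IsNilpotent X := hXp.isNilpotent
  have hn3 : 3 ≤ n := by
    have h1 : Nat.card B ∣ Nat.card X := Subgroup.card_subgroup_dvd_card B
    rw [hB, hX] at h1
    exact (Nat.pow_dvd_pow_iff_le_right hp.one_lt).1 h1
  haveI : Nontrivial X := by
    apply Finite.one_lt_card_iff_nontrivial.1
    rw [hX]
    exact Nat.one_lt_pow (by omega) hp.one_lt
  set Z := Subgroup.center X with hZdef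
  have hZB : Z ≤ B := (Subgroup.center_le_centralizer _).trans hC
  have hZbot : Z ≠ ⊥ := (hXp.bot_lt_center).ne'
  set ZB := B ⊓ Subgroup.centralizer (B : Set X) with hZBdef
  have hZZB : Z ≤ ZB := le_inf hZB (Subgroup.center_le_centralizer _)
  have hZBcard : Nat.card ZB = p := by
    obtain ⟨j, hj, hjc⟩ := exists_card_eq_pow_of_le hB (inf_le_left : ZB ≤ B)
    have hj1 : j = 1 := by
      rcases j with _ | _ | j
      · exfalso
        rw [pow_zero] at hjc
        have : ZB = ⊥ := Subgroup.card_eq_one.1 hjc
        exact hZbot (le_bot_iff.1 (this ▸ hZZB))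
      · rfl
      · exfalso
        apply hBna
        apply isMulCommutative_of_central_relIndex_dvd_prime (p := p) (inf_le_left : ZB ≤ B)
        · intro b hb
          rw [Subgroup.mem_centralizer_iff]
          intro z hz
          exact (Subgroup.mem_centralizer_iff.1 hz.2 b hb).symm
        · have h1 := card_mul_relIndex_of_le (inf_le_left : ZB ≤ B)
          rw [hjc, hB] at h1
          have hj0 : j = 0 ∨ j = 1 := by omega
          rcases hj0 with rfl | rfl
          · have h2 : p ^ 2 * ZB.relIndex B = p ^ 2 * p := by rw [h1]; ring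
            have h3 := Nat.eq_of_mul_eq_mul_left (pow_pos hp.pos _) h2
            rw [h3]
          · have h2 : p ^ 3 * ZB.relIndex B = p ^ 3 * 1 := by rw [h1]; ring
            have h3 := Nat.eq_of_mul_eq_mul_left (pow_pos hp.pos _) h2
            rw [h3]; exact one_dvd p
    rw [hjc, hj1, pow_one]
  have hZcard : Nat.card Z = p := by
    have hd : Nat.card Z ∣ p := hZBcard ▸ Subgroup.card_dvd_of_le hZZB
    rcases (Nat.dvd_prime hp).1 hd with h | h
    · exact absurd (Subgroup.card_eq_one.1 h) hZbot
    · exact h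
  obtain ⟨a, haB, haZ⟩ : ∃ a ∈ B, a ∉ Z := by
    by_contra hcon
    push Not at hcon
    have hBZ : B = Z := le_antisymm hcon hZB
    rw [hBZ, hZcard] at hB
    have h1 : p ^ 1 = p ^ 3 := by rw [pow_one]; exact hB
    have := Nat.pow_right_injective hp.two_le h1
    omega
  set K := Z ⊔ Subgroup.zpowers a with hKdef
  have hKcomm : IsMulCommutative ↥K := isMulCommutative_sup_zpowers Z le_rfl a
  have hKB : K ≤ B := sup_le hZB (by rw [Subgroup.zpowers_le]; exact haB)
  have haK : a ∈ K := (le_sup_right : Subgroup.zpowers a ≤ K) (Subgroup.mem_zpowers a)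
  have hZK : Z < K := lt_of_le_of_ne le_sup_left (fun h => haZ (h ▸ haK))
  have hKneB : K ≠ B := fun h => hBna (h ▸ hKcomm)
  obtain ⟨b, hbB, hbK⟩ : ∃ b ∈ B, b ∉ K := by
    by_contra hcon
    push Not at hcon
    exact hKneB (le_antisymm hKB hcon)
  -- the image of `B` in `X ⧸ Z`
  have hBbcard : Nat.card (B.map (QuotientGroup.mk' Z)) = p ^ 2 := by
    have h1 := card_map_mk'_mul_card Z B hZB
    rw [hB, hZcard] at h1
    apply Nat.eq_of_mul_eq_mul_right hp.pos
    rw [h1]; ring
  have hBbcomm : IsMulCommutative ↥(B.map (QuotientGroup.mk' Z)) :=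
    IsPGroup.isMulCommutative_of_card_eq_prime_sq hBbcard
  set D := (Subgroup.centralizer ((B.map (QuotientGroup.mk' Z) : Subgroup (X ⧸ Z)) : Set (X ⧸ Z))).comap
    (QuotientGroup.mk' Z) with hDdef
  have hBD : B ≤ D := by
    intro y hy
    rw [hDdef, Subgroup.mem_comap, Subgroup.mem_centralizer_iff]
    intro q hq
    exact mul_comm_of_isMulCommutative hBbcomm hq (Subgroup.mem_map_of_mem _ hy)
  -- conjugates of elements of `B` under `D`
  have hconj : ∀ y ∈ D, ∀ x ∈ B, y * x * y⁻¹ ∈ (fun z => x * z) '' (Z : Set X) := by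
    intro y hy x hx
    rw [hDdef, Subgroup.mem_comap, Subgroup.mem_centralizer_iff] at hy
    have h1 := hy (QuotientGroup.mk' Z x) (Subgroup.mem_map_of_mem _ hx)
    have h1' : ((x : X) : X ⧸ Z) * ((y : X) : X ⧸ Z) = ((y : X) : X ⧸ Z) * ((x : X) : X ⧸ Z) := h1
    have h2 : ((x : X) : X ⧸ Z) = ((y * x * y⁻¹ : X) : X ⧸ Z) := by
      rw [QuotientGroup.mk_mul, QuotientGroup.mk_mul, QuotientGroup.mk_inv, ← h1']
      group
    refine ⟨x⁻¹ * (y * x * y⁻¹), QuotientGroup.eq.1 h2, ?_⟩
    show x * (x⁻¹ * (y * x * y⁻¹)) = y * x * y⁻¹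
    group
  have hcardim : ∀ x : X, Nat.card ((fun z => x * z) '' (Z : Set X)) = p := by
    intro x
    rw [Nat.card_image_of_injective (mul_right_injective x)]
    exact hZcard
  have hfinim : ∀ x : X, Finite ((fun z => x * z) '' (Z : Set X)) := fun x =>
    (Set.toFinite _).to_subtype
  set D₁ := D ⊓ Subgroup.centralizer {a} with hD₁
  set D₂ := D₁ ⊓ Subgroup.centralizer {b} with hD₂
  have hr1 : D₁.relIndex D ≤ p := by
    have := relIndex_inf_centralizer_le D a ((fun z => a * z) '' (Z : Set X))
      (fun y hy => hconj y hy a haB)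
    rwa [hcardim a] at this
  have hr2 : D₂.relIndex D₁ ≤ p := by
    have := relIndex_inf_centralizer_le D₁ b ((fun z => b * z) '' (Z : Set X))
      (fun y hy => hconj y hy.1 b hbB)
    rwa [hcardim b] at this
  have hD₂ZB : D₂ ≤ ZB := by
    intro y hy
    have hya : y * a = a * y := Subgroup.mem_centralizer_singleton_iff.1 hy.1.2
    have hyb : y * b = b * y := Subgroup.mem_centralizer_singleton_iff.1 hy.2
    set K₂ := B ⊓ Subgroup.centralizer {y} with hK₂
    have hZK₂ : Z ≤ K₂ := le_inf hZB (by
      intro z hz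
      exact Subgroup.mem_centralizer_singleton_iff.2 (Subgroup.mem_center_iff.1 hz y).symm)
    have haK₂ : a ∈ K₂ := ⟨haB, Subgroup.mem_centralizer_singleton_iff.2 hya.symm⟩
    have hbK₂ : b ∈ K₂ := ⟨hbB, Subgroup.mem_centralizer_singleton_iff.2 hyb.symm⟩
    have hKK₂ : K ≤ K₂ := sup_le hZK₂ (by rw [Subgroup.zpowers_le]; exact haK₂)
    have hKK₂lt : K < K₂ := lt_of_le_of_ne hKK₂ (fun h => hbK (h ▸ hbK₂))
    have hK₂B : K₂ = B := by
      obtain ⟨i, hi, hic⟩ := exists_card_eq_pow_of_le hB hKB
      obtain ⟨j, hj, hjc⟩ := exists_card_eq_pow_of_le hB (inf_le_left : K₂ ≤ B)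
      have h1 : 1 < i := pow_lt_of_lt (by rw [hZcard, pow_one]) hic hZK
      have h2 : i < j := pow_lt_of_lt hic hjc hKK₂lt
      apply Subgroup.eq_of_le_of_card_ge inf_le_left
      rw [hB, hjc]
      exact Nat.pow_le_pow_right hp.pos (by omega)
    have hycent : y ∈ Subgroup.centralizer (B : Set X) := by
      rw [Subgroup.mem_centralizer_iff]
      intro x hx
      have hxK : x ∈ K₂ := hK₂B ▸ hx
      exact Subgroup.mem_centralizer_singleton_iff.1 hxK.2
    exact ⟨hC hycent, hycent⟩
  have hDcard : Nat.card D ≤ p ^ 3 := by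
    have h1 := card_mul_relIndex_of_le (inf_le_left : D₁ ≤ D)
    have h2 := card_mul_relIndex_of_le (inf_le_left : D₂ ≤ D₁)
    have h3 : Nat.card D₂ ≤ p := hZBcard ▸ Subgroup.card_le_of_le hD₂ZB
    calc Nat.card D = Nat.card D₂ * D₂.relIndex D₁ * D₁.relIndex D := by rw [h2, h1]
      _ ≤ p * p * p := Nat.mul_le_mul (Nat.mul_le_mul h3 hr2) hr1
      _ = p ^ 3 := by ring
  have hDB : B = D := Subgroup.eq_of_le_of_card_ge hBD (hB ▸ hDcard)
  have hCb : Subgroup.centralizer ((B.map (QuotientGroup.mk' Z) : Subgroup (X ⧸ Z)) : Set (X ⧸ Z))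
      ≤ B.map (QuotientGroup.mk' Z) := by
    intro q hq
    obtain ⟨y, rfl⟩ := QuotientGroup.mk_surjective q
    have hyD : y ∈ D := by rw [hDdef, Subgroup.mem_comap]; exact hq
    exact Subgroup.mem_map_of_mem _ (hDB ▸ hyD)
  have hXq : Nat.card (X ⧸ Z) = p ^ (n - 1) := by
    have h5 := Subgroup.card_eq_card_quotient_mul_card_subgroup Z
    rw [hX, hZcard] at h5
    have h6 : p ^ n = p ^ (n - 1) * p := by rw [← pow_succ]; congr 1; omega
    rw [h6] at h5
    exact (Nat.eq_of_mul_eq_mul_right hp.pos h5).symm
  have hclass := suzuki_max_class (n - 1) (X ⧸ Z) hXq (B.map (QuotientGroup.mk' Z)) hBbcard hCb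
  rw [Group.nilpotencyClass_eq_quotient_center_plus_one, hclass]
  omega

end Cfsg.Agent.H67
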