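import Mathlib
import Cfsg.Agent.H76.NCZDefs
import Cfsg.Agent.H67.SylowAux

/-!
# NCZ-ZB (helper67, for helper76's S1353/S1354): `E = C_E(P)·E'`
-/

set_option autoImplicit false
set_option linter.unusedVariables false
set_option linter.style.haveILetI false

namespace Cfsg.Agent.H67.NCZ

open Cfsg Subgroup Cfsg.Agent.H76.NCKill
open scoped commutatorElement

universe u

/-- Abstract form: a subgroup `P` of prime order `p` of a finite group `E` with `p ∤ |E'|`
satisfies `E = C_E(P)·E'`. -/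
theorem zB_abs {E : Type*} [Group E] [Finite E] (p : ℕ) [Fact p.Prime] (P : Subgroup E)
    (hP : Nat.card P = p) (hD : ¬ p ∣ Nat.card (_root_.commutator E)) (e : E) :
    ∃ c ∈ _root_.commutator E, e * c ∈ centralizer (P : Set E) := by
  obtain ⟨D, hDdef⟩ : ∃ D : Subgroup E, D = _root_.commutator E := ⟨_, rfl⟩
  haveI hDn : D.Normal := by
    rw [hDdef]
    infer_instance
  rw [← hDdef] at hD ⊢
  have hp : p.Prime := Fact.out
  have hPD : P ⊓ D = ⊥ := by
    rw [← Subgroup.card_eq_one]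
    have h1 : Nat.card (P ⊓ D : Subgroup E) ∣ p := by
      rw [← hP]
      exact Subgroup.card_dvd_of_le inf_le_left
    have h2 : Nat.card (P ⊓ D : Subgroup E) ∣ Nat.card D := Subgroup.card_dvd_of_le inf_le_right
    rcases (Nat.dvd_prime hp).mp h1 with h | h
    · exact h
    · rw [h] at h2
      exact absurd h2 hD
  have hcomm_mem : ∀ x g : E, x * g * x⁻¹ * g⁻¹ ∈ D := by
    intro x g
    have h0 : ⁅x, g⁆ ∈ D := by
      rw [hDdef, _root_.commutator_def]
      exact Subgroup.commutator_mem_commutator (Subgroup.mem_top x) (Subgroup.mem_top g)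
    rwa [commutatorElement_def] at h0
  obtain ⟨K, hK⟩ : ∃ K : Subgroup E, K = P ⊔ D := ⟨_, rfl⟩
  have hPK : P ≤ K := by
    rw [hK]
    exact le_sup_left
  have hDK : D ≤ K := by
    rw [hK]
    exact le_sup_right
  have hKnorm : ∀ k ∈ K, ∀ g : E, g * k * g⁻¹ ∈ K := by
    intro k hk g
    have h1 : g * k * g⁻¹ = (g * k * g⁻¹ * k⁻¹) * k := by group
    rw [h1]
    exact K.mul_mem (hDK (hcomm_mem g k)) hk
  have hPp : IsPGroup p P := IsPGroup.of_card (n := 1) (by rw [hP, pow_one])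
  have hrelP : ¬ p ∣ P.relIndex K := by
    rw [hK, Cfsg.Agent.H67.relIndex_sup_of_inf_eq_bot P D hPD]
    exact hD
  obtain ⟨Q, hQ⟩ : ∃ Q : Subgroup E, Q = P.map (MulAut.conj e⁻¹).toMonoidHom := ⟨_, rfl⟩
  have hQK : Q ≤ K := by
    rw [hQ]
    rintro _ ⟨g, hg, rfl⟩
    have h0 := hKnorm g (hPK hg) e⁻¹
    simpa [MulAut.conj_apply] using h0
  have hQcard : Nat.card Q = p := by
    rw [hQ, Cfsg.Agent.H67.card_map_conj, hP]
  have hQp : IsPGroup p Q := IsPGroup.of_card (n := 1) (by rw [hQcard, pow_one])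
  have hrelQ : ¬ p ∣ Q.relIndex K := by
    have h1 := Cfsg.Agent.H67.card_mul_relIndex_of_le hPK
    have h2 := Cfsg.Agent.H67.card_mul_relIndex_of_le hQK
    rw [hP] at h1
    rw [hQcard] at h2
    have h3 : Q.relIndex K = P.relIndex K := Nat.eq_of_mul_eq_mul_left hp.pos (h2.trans h1.symm)
    rw [h3]
    exact hrelP
  obtain ⟨k, hkK, hkQ⟩ := Cfsg.Agent.H67.exists_conj_eq_of_isPGroup_of_not_dvd_relIndex
    hPK hQK hPp hrelP hQp hrelQ
  have hkmem : k ∈ (D ⊔ P : Subgroup E) := by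
    rw [sup_comm, ← hK]
    exact hkK
  rw [← SetLike.mem_coe, Subgroup.normal_mul] at hkmem
  obtain ⟨d, hd, g₀, hg₀, rfl⟩ := Set.mem_mul.mp hkmem
  have hPab : ∀ g₁ ∈ P, ∀ g₂ ∈ P, g₁ * g₂ = g₂ * g₁ := by
    intro g₁ h1 g₂ h2
    haveI : IsCyclic P := isCyclic_of_prime_card hP
    letI := IsCyclic.commGroup (α := P)
    have h0 := mul_comm (⟨g₁, h1⟩ : P) ⟨g₂, h2⟩
    exact congrArg Subtype.val h0
  have hxP : ∀ g ∈ P, (e * (d * g₀)) * g * (e * (d * g₀))⁻¹ ∈ P := by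
    intro g hg
    have h1 : (d * g₀) * g * (d * g₀)⁻¹ ∈ P.map (MulAut.conj (d * g₀)).toMonoidHom :=
      Cfsg.Agent.H67.conj_mem_map_conj P _ hg
    rw [← hkQ, hQ, Cfsg.Agent.H67.mem_map_conj] at h1
    convert h1 using 1
    group
  have hx : ∀ g ∈ P, g * (e * (d * g₀)) = (e * (d * g₀)) * g := by
    intro g hg
    have h1 := hxP g hg
    have h2 : (e * (d * g₀)) * g * (e * (d * g₀))⁻¹ * g⁻¹ ∈ P ⊓ D :=
      Subgroup.mem_inf.mpr ⟨P.mul_mem h1 (P.inv_mem hg), hcomm_mem _ _⟩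
    rw [hPD, Subgroup.mem_bot] at h2
    have h3 : (e * (d * g₀)) * g * (e * (d * g₀))⁻¹ = g := by
      rw [mul_inv_eq_one] at h2
      exact h2
    rw [mul_inv_eq_iff_eq_mul] at h3
    exact h3.symm
  refine ⟨d, hd, ?_⟩
  rw [Subgroup.mem_centralizer_iff]
  intro g hg
  have h1 := hx g hg
  have h2 := hPab g hg g₀ hg₀
  calc g * (e * d) = g * (e * (d * g₀)) * g₀⁻¹ := by group
    _ = (e * (d * g₀)) * g * g₀⁻¹ := by rw [h1]
    _ = e * d * (g₀ * g) * g₀⁻¹ := by group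
    _ = e * d * (g * g₀) * g₀⁻¹ := by rw [h2]
    _ = e * d * g := by group

theorem zB {G : Type u} [Group G] [Finite G] : StZB G := by
  intro hG M E A P r p _ hNC e he
  have hp : p.Prime := hNC.tau1.1
  haveI : Fact p.Prime := ⟨hp⟩
  have hEM : E ≤ M := hNC.compl.1
  have hpD : ¬ p ∣ Nat.card (⁅E, E⁆ : Subgroup G) := by
    intro h
    apply hNC.tau1.2.2.2.1
    exact dvd_trans h (Subgroup.card_dvd_of_le (Subgroup.commutator_mono hEM hEM))
  have hpD' : ¬ p ∣ Nat.card (_root_.commutator E) := by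
    intro h
    apply hpD
    rw [← Subgroup.map_subtype_commutator, Subgroup.card_map_of_injective E.subtype_injective]
    exact h
  have hPcard : Nat.card (P.subgroupOf E) = p := by
    rw [Cfsg.Agent.H67.card_subgroupOf_of_le hNC.PE, hNC.Pcard]
  obtain ⟨c, hc, hec⟩ := zB_abs p (P.subgroupOf E) hPcard hpD' ⟨e, he⟩
  refine ⟨(c : G), ?_, ?_⟩
  · rw [← Subgroup.map_subtype_commutator]
    exact Subgroup.mem_map_of_mem E.subtype hc
  · rw [Subgroup.mem_centralizer_iff] at hec ⊢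
    intro g hg
    have h0 := hec ⟨g, hNC.PE hg⟩ (by
      rw [SetLike.mem_coe, Subgroup.mem_subgroupOf]
      exact hg)
    exact congrArg Subtype.val h0

example {G : Type u} [Group G] [Finite G] : StZB G := zB

end Cfsg.Agent.H67.NCZ
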