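import Mathlib
import Cfsg.Agent.H86.NdDefs

/-!
# ND-UEX (helper67, for helper86's S5989/S5991): common tools for the explicit unipotent
isometries of the minus space
-/

set_option autoImplicit false
set_option linter.unusedVariables false
set_option linter.style.haveILetI false

namespace Cfsg.Agent.H67.Nd

open Cfsg.Agent.H86.Nd Module Polynomial

universe u

section gen

variable {F : Type u} [Field F]

/-- The rank of a linear map which factors through a parametrisation on which it is injective. -/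
theorem finrank_range_of_param {V W P : Type*} [AddCommGroup V] [Module F V] [AddCommGroup W]
    [Module F W] [AddCommGroup P] [Module F P] (N : V →ₗ[F] W) (ι : P →ₗ[F] V)
    (ρ : V → P) (h1 : Function.Injective (N.comp ι)) (h2 : ∀ u, N u = N (ι (ρ u))) :
    finrank F (LinearMap.range N) = finrank F P := by
  have h3 : LinearMap.range N = LinearMap.range (N.comp ι) := by
    apply le_antisymm
    · rintro _ ⟨u, rfl⟩
      exact ⟨ρ u, (h2 u).symm⟩
    · exact LinearMap.range_comp_le_range ι N
  rw [h3]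
  exact LinearMap.finrank_range_of_inj h1

/-- Over a finite field of odd characteristic, `x² + a₁ y² = c` is solvable. -/
theorem quad_solve1 [Fintype F] (h2 : (2 : F) ≠ 0) (a₁ c : F) (ha₁ : a₁ ≠ 0) :
    ∃ x y : F, x ^ 2 + a₁ * y ^ 2 = c := by
  classical
  have hchar : ringChar F ≠ 2 := by
    intro h
    apply h2
    have h0 := ringChar.Nat.cast_ringChar (R := F)
    rw [h] at h0
    exact_mod_cast h0
  have hodd : Fintype.card F % 2 = 1 := FiniteField.odd_card_of_char_ne_two hchar
  have hf : (C (1 : F) * X ^ 2 : F[X]).degree = 2 := by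
    rw [degree_C_mul_X_pow 2 one_ne_zero]; rfl
  have hg : (C a₁ * X ^ 2 - C c : F[X]).degree = 2 := by
    rw [degree_sub_eq_left_of_degree_lt, degree_C_mul_X_pow 2 ha₁]; rfl
    rw [degree_C_mul_X_pow 2 ha₁]
    exact lt_of_le_of_lt degree_C_le (by decide)
  obtain ⟨x, y, hxy⟩ := FiniteField.exists_root_sum_quadratic hf hg hodd
  refine ⟨x, y, ?_⟩
  simp only [eval_mul, eval_C, eval_pow, eval_X, eval_sub] at hxy
  linear_combination hxy

/-- pairing sum, pairs `(1,2), (3,4), …` -/
theorem pair_sum_odd (g : ℕ → F) (A : F) (h : ℕ) :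
    ∑ n ∈ Finset.range (2 * h + 1),
      (if n = 0 then A else if n % 2 = 1 then g (n + 1) else - g (n - 1)) * g n = A * g 0 := by
  induction h with
  | zero => simp
  | succ h ih =>
    have e : 2 * (h + 1) + 1 = 2 * h + 1 + 1 + 1 := by ring
    rw [e, Finset.sum_range_succ, Finset.sum_range_succ, ih]
    have h1 : (2 * h + 1) % 2 = 1 := by omega
    have h2 : ¬ ((2 * h + 1 + 1) % 2 = 1) := by omega
    have h3 : ¬ (2 * h + 1 = 0) := by omega
    have h4 : ¬ (2 * h + 1 + 1 = 0) := by omega
    rw [if_neg h3, if_pos h1, if_neg h4, if_neg h2]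
    have h5 : 2 * h + 1 + 1 - 1 = 2 * h + 1 := by omega
    rw [h5]
    ring

/-- pairing sum, pairs `(2,3), (4,5), …` -/
theorem pair_sum_even (g : ℕ → F) (A₀ A₁ : F) (h : ℕ) :
    ∑ n ∈ Finset.range (2 * h + 2),
      (if n = 0 then A₀ else if n = 1 then A₁ else if n % 2 = 0 then g (n + 1)
        else - g (n - 1)) * g n = A₀ * g 0 + A₁ * g 1 := by
  induction h with
  | zero => simp [Finset.sum_range_succ]
  | succ h ih =>
    have e : 2 * (h + 1) + 2 = 2 * h + 2 + 1 + 1 := by ring
    rw [e, Finset.sum_range_succ, Finset.sum_range_succ, ih]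
    have h1 : (2 * h + 2) % 2 = 0 := by omega
    have h2 : ¬ ((2 * h + 2 + 1) % 2 = 0) := by omega
    have h3 : ¬ (2 * h + 2 = 0) := by omega
    have h4 : ¬ (2 * h + 2 + 1 = 0) := by omega
    have h3' : ¬ (2 * h + 2 = 1) := by omega
    have h4' : ¬ (2 * h + 2 + 1 = 1) := by omega
    rw [if_neg h3, if_neg h3', if_pos h1, if_neg h4, if_neg h4', if_neg h2]
    have h5 : 2 * h + 2 + 1 - 1 = 2 * h + 2 := by omega
    rw [h5]
    ring

variable {k : ℕ}

/-- the `f`-coordinate with a natural-number index (zero out of range) -/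
def qt (u : MI k → F) (n : ℕ) : F := if h : n < k then u (Sum.inl (Sum.inr ⟨n, h⟩)) else 0

theorem qt_add (u v : MI k → F) (n : ℕ) : qt (u + v) n = qt u n + qt v n := by
  unfold qt
  split_ifs <;> simp

theorem qt_smul (c : F) (u : MI k → F) (n : ℕ) : qt (c • u) n = c * qt u n := by
  unfold qt
  split_ifs <;> simp

theorem qt_fin (u : MI k → F) (j : Fin k) : qt u j.1 = u (Sum.inl (Sum.inr j)) := by
  unfold qt
  rw [dif_pos j.2]

theorem qt_eq_zero (u : MI k → F) (hu : ∀ j : Fin k, u (Sum.inl (Sum.inr j)) = 0) (n : ℕ) :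
    qt u n = 0 := by
  unfold qt
  split_ifs with h
  · exact hu _
  · rfl

/-- the unit `1 + N` for `N ^ 3 = 0` -/
theorem unit_of_nil {ι : Type} [Fintype ι] [DecidableEq ι] (N : (ι → F) →ₗ[F] (ι → F))
    (hN : ∀ u, N (N (N u)) = 0) :
    ∃ x : Matrix.GeneralLinearGroup ι F,
      Matrix.toLin' (x : Matrix ι ι F) - 1 = N ∧
      (∀ u : ι → F, (x : Matrix ι ι F).mulVec u = u + N u) := by
  have hNNN : N * N * N = 0 := by
    apply LinearMap.ext
    intro u
    simp only [Module.End.mul_apply, LinearMap.zero_apply]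
    exact hN u
  have hM3 : (LinearMap.toMatrix' N) ^ 3 = 0 := by
    rw [pow_succ, pow_two, ← LinearMap.toMatrix'_mul, ← LinearMap.toMatrix'_mul, hNNN]
    exact map_zero _
  have hu : IsUnit (1 + LinearMap.toMatrix' N) := IsNilpotent.isUnit_one_add ⟨3, hM3⟩
  refine ⟨hu.unit, ?_, ?_⟩
  · rw [IsUnit.unit_spec, map_add, Matrix.toLin'_one, Matrix.toLin'_toMatrix']
    exact add_sub_cancel_left _ _
  · intro u
    rw [IsUnit.unit_spec, Matrix.add_mulVec, Matrix.one_mulVec, ← Matrix.toLin'_apply,
      Matrix.toLin'_toMatrix']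

end gen

end Cfsg.Agent.H67.Nd
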