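import Mathlib
import Cfsg.Agent.H67.NdUexBase

/-!
# ND-UEX3M (helper67, for helper86's S5989/S5991)

Minus space, `k` even: an isometry of Jordan type `(3, 3, 2^(k-2))`.  `x = 1 + N` with `N`
explicit: `s += q₀`, `t += q₁`, `p₀ -= (2s + at) + q₀ + a q₁`, `p₁ -= (as + 2bt) + b q₁`,
`p_j += ± q_(partner j)` for `j ≥ 2`.
-/

set_option autoImplicit false
set_option linter.unusedVariables false
set_option linter.style.haveILetI false
set_option maxHeartbeats 1000000

namespace Cfsg.Agent.H67.Nd

open Cfsg.Agent.H86.Nd Module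

universe u

section

variable {F : Type u} [Field F] {k : ℕ}

def n3fun (a b : F) (u : MI k → F) : MI k → F :=
  Sum.elim (Sum.elim
    (fun j : Fin k => if j.1 = 0 then
        -(2 * u (Sum.inr 0) + a * u (Sum.inr 1)) - qt u 0 - a * qt u 1
      else if j.1 = 1 then -(a * u (Sum.inr 0) + 2 * b * u (Sum.inr 1)) - b * qt u 1
      else if j.1 % 2 = 0 then qt u (j.1 + 1) else - qt u (j.1 - 1))
    (fun _ => 0))
    (fun i : Fin 2 => if i = 0 then qt u 0 else qt u 1)

def n3 (a b : F) : (MI k → F) →ₗ[F] (MI k → F) where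
  toFun := n3fun a b
  map_add' u v := by
    funext x
    rcases x with (j | j) | i
    · simp only [n3fun, Sum.elim_inl, Pi.add_apply, qt_add]
      split_ifs <;> ring
    · simp [n3fun]
    · simp only [n3fun, Sum.elim_inr, Pi.add_apply, qt_add]
      split_ifs <;> ring
  map_smul' c u := by
    funext x
    rcases x with (j | j) | i
    · simp only [n3fun, Sum.elim_inl, Pi.smul_apply, smul_eq_mul, qt_smul, RingHom.id_apply]
      split_ifs <;> ring
    · simp [n3fun]
    · simp only [n3fun, Sum.elim_inr, Pi.smul_apply, smul_eq_mul, qt_smul, RingHom.id_apply]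
      split_ifs <;> ring

theorem n3_ll (a b : F) (u : MI k → F) (j : Fin k) :
    n3 a b u (Sum.inl (Sum.inl j)) = if j.1 = 0 then
        -(2 * u (Sum.inr 0) + a * u (Sum.inr 1)) - qt u 0 - a * qt u 1
      else if j.1 = 1 then -(a * u (Sum.inr 0) + 2 * b * u (Sum.inr 1)) - b * qt u 1
      else if j.1 % 2 = 0 then qt u (j.1 + 1) else - qt u (j.1 - 1) := rfl

theorem n3_lr (a b : F) (u : MI k → F) (j : Fin k) :
    n3 a b u (Sum.inl (Sum.inr j)) = 0 := rfl

theorem n3_r0 (a b : F) (u : MI k → F) : n3 a b u (Sum.inr 0) = qt u 0 := rfl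

theorem n3_r1 (a b : F) (u : MI k → F) : n3 a b u (Sum.inr 1) = qt u 1 := rfl

theorem qt_n3 (a b : F) (u : MI k → F) (n : ℕ) : qt (n3 a b u) n = 0 :=
  qt_eq_zero _ (fun j => rfl) n

theorem n3_congr (a b : F) (u u' : MI k → F) (hq : ∀ n, qt u n = qt u' n)
    (h0 : u (Sum.inr 0) = u' (Sum.inr 0)) (h1 : u (Sum.inr 1) = u' (Sum.inr 1)) :
    n3 a b u = n3 a b u' := by
  funext x
  rcases x with (j | j) | i
  · rw [n3_ll, n3_ll, h0, h1, hq, hq, hq, hq]
  · rfl
  · have hi : i = 0 ∨ i = 1 := by
      fin_cases i <;> simp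
    rcases hi with rfl | rfl
    · rw [n3_r0, n3_r0, hq]
    · rw [n3_r1, n3_r1, hq]

theorem n3_n3 (a b : F) (u : MI k → F) (x : MI k) :
    n3 a b (n3 a b u) x =
      Sum.elim (Sum.elim (fun j : Fin k => if j.1 = 0 then -(2 * qt u 0 + a * qt u 1)
        else if j.1 = 1 then -(a * qt u 0 + 2 * b * qt u 1) else 0) (fun _ => 0))
        (fun _ => 0) x := by
  rcases x with (j | j) | i
  · rw [n3_ll]
    simp only [Sum.elim_inl, qt_n3, n3_r0, n3_r1]
    split_ifs <;> ring
  · rfl
  · have hi : i = 0 ∨ i = 1 := by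
      fin_cases i <;> simp
    rcases hi with rfl | rfl
    · rw [n3_r0, qt_n3]
      simp
    · rw [n3_r1, qt_n3]
      simp

theorem n3_isom (a b : F) (h : ℕ) (u : MI (2 * h + 2) → F) :
    Cfsg.quadFormMinus (2 * h + 2) F a b (u + n3 a b u) =
      Cfsg.quadFormMinus (2 * h + 2) F a b u := by
  unfold Cfsg.quadFormMinus
  have hsum : ∑ i : Fin (2 * h + 2), (u + n3 a b u) (Sum.inl (Sum.inl i)) *
        (u + n3 a b u) (Sum.inl (Sum.inr i))
      = ∑ i : Fin (2 * h + 2), u (Sum.inl (Sum.inl i)) * u (Sum.inl (Sum.inr i)) +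
        ((-(2 * u (Sum.inr 0) + a * u (Sum.inr 1)) - qt u 0 - a * qt u 1) * qt u 0 +
          (-(a * u (Sum.inr 0) + 2 * b * u (Sum.inr 1)) - b * qt u 1) * qt u 1) := by
    have h1 : ∀ i : Fin (2 * h + 2), (u + n3 a b u) (Sum.inl (Sum.inl i)) *
          (u + n3 a b u) (Sum.inl (Sum.inr i))
        = u (Sum.inl (Sum.inl i)) * u (Sum.inl (Sum.inr i)) +
          (fun n : ℕ => (if n = 0 then
            (-(2 * u (Sum.inr 0) + a * u (Sum.inr 1)) - qt u 0 - a * qt u 1)
            else if n = 1 then (-(a * u (Sum.inr 0) + 2 * b * u (Sum.inr 1)) - b * qt u 1)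
            else if n % 2 = 0 then qt u (n + 1) else - qt u (n - 1)) * qt u n) i.1 := by
      intro i
      simp only [Pi.add_apply, n3_ll, n3_lr, add_zero, qt_fin]
      ring
    rw [Finset.sum_congr rfl (fun i _ => h1 i), Finset.sum_add_distrib,
      Fin.sum_univ_eq_sum_range (fun n : ℕ => (if n = 0 then
            (-(2 * u (Sum.inr 0) + a * u (Sum.inr 1)) - qt u 0 - a * qt u 1)
            else if n = 1 then (-(a * u (Sum.inr 0) + 2 * b * u (Sum.inr 1)) - b * qt u 1)
            else if n % 2 = 0 then qt u (n + 1) else - qt u (n - 1)) * qt u n) (2 * h + 2),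
      pair_sum_even]
  rw [hsum]
  simp only [Pi.add_apply, n3_r0, n3_r1]
  ring

/-- the parametrisation of a complement of `ker N` -/
def iota3 : ((Fin k → F) × (F × F)) →ₗ[F] (MI k → F) where
  toFun c := Sum.elim (Sum.elim (fun _ => 0) c.1) (fun i : Fin 2 => if i = 0 then c.2.1
    else c.2.2)
  map_add' c c' := by
    funext x
    rcases x with (j | j) | i
    · simp
    · simp
    · simp only [Sum.elim_inr, Pi.add_apply, Prod.snd_add, Prod.fst_add]
      split_ifs <;> rfl
  map_smul' r c := by
    funext x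
    rcases x with (j | j) | i
    · simp
    · simp
    · simp only [Sum.elim_inr, Pi.smul_apply, smul_eq_mul, Prod.smul_snd, Prod.smul_fst,
        RingHom.id_apply]
      split_ifs <;> rfl

theorem qt_iota3 (c : (Fin k → F) × (F × F)) (n : ℕ) :
    qt (iota3 c) n = if h : n < k then c.1 ⟨n, h⟩ else 0 := rfl

/-- the parametrisation of a complement of `ker N²` -/
def iota2 : (F × F) →ₗ[F] (MI k → F) where
  toFun c := Sum.elim (Sum.elim (fun _ => 0)
    (fun j : Fin k => if j.1 = 0 then c.1 else if j.1 = 1 then c.2 else 0)) (fun _ => 0)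
  map_add' c c' := by
    funext x
    rcases x with (j | j) | i
    · simp
    · simp only [Sum.elim_inl, Sum.elim_inr, Pi.add_apply, Prod.snd_add, Prod.fst_add]
      split_ifs <;> simp
    · simp
  map_smul' r c := by
    funext x
    rcases x with (j | j) | i
    · simp
    · simp only [Sum.elim_inl, Sum.elim_inr, Pi.smul_apply, smul_eq_mul, Prod.smul_snd,
        Prod.smul_fst, RingHom.id_apply]
      split_ifs <;> simp
    · simp

theorem qt_iota2_0 (hk : 2 ≤ k) (c : F × F) : qt (iota2 (k := k) c) 0 = c.1 := by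
  unfold qt
  rw [dif_pos (by omega)]
  rfl

theorem qt_iota2_1 (hk : 2 ≤ k) (c : F × F) : qt (iota2 (k := k) c) 1 = c.2 := by
  unfold qt
  rw [dif_pos (by omega)]
  rfl

end

theorem uex3M : StUex3M.{u} := by
  intro F _ k a b h2 haniso hkeven hk2
  classical
  have hk0 : 0 < k := by omega
  have hk1 : 1 < k := by omega
  have hkmod : k % 2 = 0 := Nat.even_iff.mp hkeven
  have hsolve : ∀ s t : F, 2 * s + a * t = 0 → a * s + 2 * b * t = 0 → s = 0 ∧ t = 0 := by
    intro s t e1 e2
    apply haniso
    have h0 : 2 * (s ^ 2 + a * s * t + b * t ^ 2) = 0 := by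
      linear_combination s * e1 + t * e2
    exact (mul_eq_zero.mp h0).resolve_left h2
  obtain ⟨N, hN⟩ : ∃ N : (MI k → F) →ₗ[F] (MI k → F), N = n3 a b := ⟨_, rfl⟩
  have hNN : ∀ (u : MI k → F) (x : MI k), N (N u) x =
      Sum.elim (Sum.elim (fun j : Fin k => if j.1 = 0 then -(2 * qt u 0 + a * qt u 1)
        else if j.1 = 1 then -(a * qt u 0 + 2 * b * qt u 1) else 0) (fun _ => 0))
        (fun _ => 0) x := by
    intro u x
    rw [hN]
    exact n3_n3 a b u x
  have hN3 : ∀ u, N (N (N u)) = 0 := by
    intro u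
    funext x
    rw [hNN, hN, qt_n3, qt_n3]
    rcases x with (j | j) | i <;> simp
  obtain ⟨x, hx, hxmul⟩ := unit_of_nil N hN3
  refine ⟨x, ?_, ?_, ?_, ?_⟩
  · intro u v
    show Cfsg.quadFormMinus k F a b ((x : Matrix (MI k) (MI k) F).mulVec u) =
      Cfsg.quadFormMinus k F a b u
    rw [hxmul, hN]
    obtain ⟨h, rfl⟩ : ∃ h, k = 2 * h + 2 := ⟨k / 2 - 1, by omega⟩
    exact n3_isom a b h u
  · rw [hx]
    apply LinearMap.ext
    intro u
    simp only [pow_succ, pow_zero, one_mul, Module.End.mul_apply, LinearMap.zero_apply]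
    exact hN3 u
  · rw [hx]
    have h1 := finrank_range_of_param (N * N) (iota2 (k := k) (F := F))
      (fun u => (qt u 0, qt u 1)) ?_ ?_
    · rw [h1, Module.finrank_prod, Module.finrank_self]
    · rw [injective_iff_map_eq_zero]
      intro c hc
      have e0 := congrFun hc (Sum.inl (Sum.inl ⟨0, hk0⟩))
      have e1 := congrFun hc (Sum.inl (Sum.inl ⟨1, hk1⟩))
      simp only [LinearMap.comp_apply, Module.End.mul_apply, hNN, qt_iota2_0 hk2,
        qt_iota2_1 hk2, Sum.elim_inl, if_true, Pi.zero_apply] at e0 e1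
      have e1' : -(a * c.1 + 2 * b * c.2) = 0 := by
        simpa using e1
      obtain ⟨h3, h4⟩ := hsolve c.1 c.2 (neg_eq_zero.mp e0) (neg_eq_zero.mp e1')
      exact Prod.ext h3 h4
    · intro u
      funext y
      simp only [Module.End.mul_apply, hNN, qt_iota2_0 hk2, qt_iota2_1 hk2]
  · rw [hx]
    have h1 := finrank_range_of_param N (iota3 (k := k) (F := F))
      (fun u => ((fun j : Fin k => u (Sum.inl (Sum.inr j))), (u (Sum.inr 0), u (Sum.inr 1))))
      ?_ ?_
    · rw [h1, Module.finrank_prod, Module.finrank_prod, Module.finrank_fin_fun,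
        Module.finrank_self]
      ring
    · rw [injective_iff_map_eq_zero]
      intro c hc
      rw [LinearMap.comp_apply, hN] at hc
      have hq0 : qt (iota3 (k := k) c) 0 = 0 := by
        have e0 := congrFun hc (Sum.inr 0)
        rw [n3_r0] at e0
        exact e0
      have hq1 : qt (iota3 (k := k) c) 1 = 0 := by
        have e0 := congrFun hc (Sum.inr 1)
        rw [n3_r1] at e0
        exact e0
      have hc2 : c.2.1 = 0 ∧ c.2.2 = 0 := by
        have e0 := congrFun hc (Sum.inl (Sum.inl ⟨0, hk0⟩))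
        have e1 := congrFun hc (Sum.inl (Sum.inl ⟨1, hk1⟩))
        rw [n3_ll, if_pos rfl, hq0, hq1] at e0
        rw [n3_ll, if_neg (by norm_num), if_pos rfl, hq1] at e1
        have r0 : iota3 (k := k) c (Sum.inr 0) = c.2.1 := rfl
        have r1 : iota3 (k := k) c (Sum.inr 1) = c.2.2 := rfl
        rw [r0, r1] at e0 e1
        apply hsolve
        · have e0' : -(2 * c.2.1 + a * c.2.2) - 0 - a * 0 = 0 := e0
          linear_combination -e0'
        · have e1' : -(a * c.2.1 + 2 * b * c.2.2) - b * 0 = 0 := e1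
          linear_combination -e1'
      have hc1 : ∀ j : Fin k, c.1 j = 0 := by
        intro j
        have hqj : qt (iota3 (k := k) c) j.1 = c.1 j := by
          rw [qt_iota3, dif_pos j.2]
        rw [← hqj]
        rcases Nat.lt_or_ge j.1 2 with hj2 | hj2
        · have hj01 : j.1 = 0 ∨ j.1 = 1 := by omega
          rcases hj01 with hj0 | hj1
          · rw [hj0]
            exact hq0
          · rw [hj1]
            exact hq1
        · rcases Nat.mod_two_eq_zero_or_one j.1 with hpar | hpar
          · -- j even ≥ 2: use j + 1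
            have hlt : j.1 + 1 < k := by omega
            have e0 := congrFun hc (Sum.inl (Sum.inl ⟨j.1 + 1, hlt⟩))
            rw [n3_ll] at e0
            have hne0 : ¬ (j.1 + 1 = 0) := by omega
            have hne1 : ¬ (j.1 + 1 = 1) := by omega
            have hodd : ¬ ((j.1 + 1) % 2 = 0) := by omega
            have hsub : j.1 + 1 - 1 = j.1 := by omega
            simp only [if_neg hne0, if_neg hne1, if_neg hodd, hsub] at e0
            exact neg_eq_zero.mp e0
          · -- j odd ≥ 3: use j - 1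
            have hlt : j.1 - 1 < k := by omega
            have e0 := congrFun hc (Sum.inl (Sum.inl ⟨j.1 - 1, hlt⟩))
            rw [n3_ll] at e0
            have hne0 : ¬ (j.1 - 1 = 0) := by omega
            have hne1 : ¬ (j.1 - 1 = 1) := by omega
            have hev : (j.1 - 1) % 2 = 0 := by omega
            have hsub : j.1 - 1 + 1 = j.1 := by omega
            simp only [if_neg hne0, if_neg hne1, if_pos hev, hsub] at e0
            exact e0
      exact Prod.ext (funext hc1) (Prod.ext hc2.1 hc2.2)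
    · intro u
      rw [hN]
      apply n3_congr
      · intro n
        rfl
      · rfl
      · rfl

example : StUex3M.{u} := uex3M

end Cfsg.Agent.H67.Nd
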