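import Mathlib
import Cfsg.Agent.H67.NdUexBase

/-!
# ND-UEX4M (helper67, for helper86's S5989/S5991)

Minus space, `k` odd: an isometry of Jordan type `(3, 1, 2^(k-1))` with a fixed nonsingular
vector of prescribed norm class.  `x = 1 + N` with `N` explicit:
`(s, t) += q₀ w`, `p₀ -= B(z, w) + Q(w) q₀`, `p_j += ± q_(partner j)` for `j ≥ 1`.
-/

set_option autoImplicit false
set_option linter.unusedVariables false
set_option linter.style.haveILetI false
set_option maxHeartbeats 1000000

namespace Cfsg.Agent.H67.Nd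

open Cfsg.Agent.H86.Nd Module

universe u

section

variable {F : Type u} [Field F] {k : ℕ}

/-- the polar form of the binary part against `w = (ws, wt)` -/
def bw (a b ws wt : F) (u : MI k → F) : F :=
  2 * u (Sum.inr 0) * ws + a * (u (Sum.inr 0) * wt + u (Sum.inr 1) * ws) +
    2 * b * u (Sum.inr 1) * wt

def n4fun (a b ws wt : F) (u : MI k → F) : MI k → F :=
  Sum.elim (Sum.elim
    (fun j : Fin k => if j.1 = 0 then
        -(bw a b ws wt u) - (ws ^ 2 + a * ws * wt + b * wt ^ 2) * qt u 0
      else if j.1 % 2 = 1 then qt u (j.1 + 1) else - qt u (j.1 - 1))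
    (fun _ => 0))
    (fun i : Fin 2 => if i = 0 then qt u 0 * ws else qt u 0 * wt)

def n4 (a b ws wt : F) : (MI k → F) →ₗ[F] (MI k → F) where
  toFun := n4fun a b ws wt
  map_add' u v := by
    funext x
    rcases x with (j | j) | i
    · simp only [n4fun, Sum.elim_inl, Pi.add_apply, qt_add, bw]
      split_ifs <;> ring
    · simp [n4fun]
    · simp only [n4fun, Sum.elim_inr, Pi.add_apply, qt_add]
      split_ifs <;> ring
  map_smul' c u := by
    funext x
    rcases x with (j | j) | i
    · simp only [n4fun, Sum.elim_inl, Pi.smul_apply, smul_eq_mul, qt_smul, bw, RingHom.id_apply]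
      split_ifs <;> ring
    · simp [n4fun]
    · simp only [n4fun, Sum.elim_inr, Pi.smul_apply, smul_eq_mul, qt_smul, RingHom.id_apply]
      split_ifs <;> ring

theorem n4_ll (a b ws wt : F) (u : MI k → F) (j : Fin k) :
    n4 a b ws wt u (Sum.inl (Sum.inl j)) = if j.1 = 0 then
        -(bw a b ws wt u) - (ws ^ 2 + a * ws * wt + b * wt ^ 2) * qt u 0
      else if j.1 % 2 = 1 then qt u (j.1 + 1) else - qt u (j.1 - 1) := rfl

theorem n4_lr (a b ws wt : F) (u : MI k → F) (j : Fin k) :
    n4 a b ws wt u (Sum.inl (Sum.inr j)) = 0 := rfl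

theorem n4_r0 (a b ws wt : F) (u : MI k → F) :
    n4 a b ws wt u (Sum.inr 0) = qt u 0 * ws := rfl

theorem n4_r1 (a b ws wt : F) (u : MI k → F) :
    n4 a b ws wt u (Sum.inr 1) = qt u 0 * wt := rfl

theorem qt_n4 (a b ws wt : F) (u : MI k → F) (n : ℕ) : qt (n4 a b ws wt u) n = 0 :=
  qt_eq_zero _ (fun j => rfl) n

theorem n4_congr (a b ws wt : F) (u u' : MI k → F) (hq : ∀ n, qt u n = qt u' n)
    (hb : bw a b ws wt u = bw a b ws wt u') : n4 a b ws wt u = n4 a b ws wt u' := by
  funext x
  rcases x with (j | j) | i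
  · rw [n4_ll, n4_ll, hb, hq, hq, hq]
  · rfl
  · have hi : i = 0 ∨ i = 1 := by
      fin_cases i <;> simp
    rcases hi with rfl | rfl
    · rw [n4_r0, n4_r0, hq]
    · rw [n4_r1, n4_r1, hq]

theorem n4_n4 (a b ws wt : F) (u : MI k → F) (x : MI k) :
    n4 a b ws wt (n4 a b ws wt u) x =
      Sum.elim (Sum.elim (fun j : Fin k => if j.1 = 0 then
        -(2 * (ws ^ 2 + a * ws * wt + b * wt ^ 2) * qt u 0) else 0) (fun _ => 0))
        (fun _ => 0) x := by
  rcases x with (j | j) | i
  · rw [n4_ll]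
    simp only [Sum.elim_inl, qt_n4, bw, n4_r0, n4_r1]
    split_ifs <;> ring
  · rfl
  · have hi : i = 0 ∨ i = 1 := by
      fin_cases i <;> simp
    rcases hi with rfl | rfl
    · rw [n4_r0, qt_n4]
      simp
    · rw [n4_r1, qt_n4]
      simp

theorem n4_isom (a b ws wt : F) (hk : Odd k) (u : MI k → F) :
    Cfsg.quadFormMinus k F a b (u + n4 a b ws wt u) = Cfsg.quadFormMinus k F a b u := by
  obtain ⟨h, rfl⟩ := hk
  unfold Cfsg.quadFormMinus
  have hsum : ∑ i : Fin (2 * h + 1), (u + n4 a b ws wt u) (Sum.inl (Sum.inl i)) *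
        (u + n4 a b ws wt u) (Sum.inl (Sum.inr i))
      = ∑ i : Fin (2 * h + 1), u (Sum.inl (Sum.inl i)) * u (Sum.inl (Sum.inr i)) +
        (-(bw a b ws wt u) - (ws ^ 2 + a * ws * wt + b * wt ^ 2) * qt u 0) * qt u 0 := by
    have h1 : ∀ i : Fin (2 * h + 1), (u + n4 a b ws wt u) (Sum.inl (Sum.inl i)) *
          (u + n4 a b ws wt u) (Sum.inl (Sum.inr i))
        = u (Sum.inl (Sum.inl i)) * u (Sum.inl (Sum.inr i)) +
          (fun n : ℕ => (if n = 0 then
            (-(bw a b ws wt u) - (ws ^ 2 + a * ws * wt + b * wt ^ 2) * qt u 0)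
            else if n % 2 = 1 then qt u (n + 1) else - qt u (n - 1)) * qt u n) i.1 := by
      intro i
      simp only [Pi.add_apply, n4_ll, n4_lr, add_zero, qt_fin]
      ring
    rw [Finset.sum_congr rfl (fun i _ => h1 i), Finset.sum_add_distrib,
      Fin.sum_univ_eq_sum_range (fun n : ℕ => (if n = 0 then
            (-(bw a b ws wt u) - (ws ^ 2 + a * ws * wt + b * wt ^ 2) * qt u 0)
            else if n % 2 = 1 then qt u (n + 1) else - qt u (n - 1)) * qt u n) (2 * h + 1),
      pair_sum_odd]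
  rw [hsum]
  simp only [Pi.add_apply, n4_r0, n4_r1]
  unfold bw
  ring

/-- the parametrisation of a complement of `ker N` -/
def iota4 (ws wt : F) : ((Fin k → F) × F) →ₗ[F] (MI k → F) where
  toFun c := Sum.elim (Sum.elim (fun _ => 0) c.1) (fun i : Fin 2 => if i = 0 then c.2 * ws
    else c.2 * wt)
  map_add' c c' := by
    funext x
    rcases x with (j | j) | i
    · simp
    · simp
    · simp only [Sum.elim_inr, Pi.add_apply, Prod.snd_add]
      split_ifs <;> ring
  map_smul' r c := by
    funext x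
    rcases x with (j | j) | i
    · simp
    · simp
    · simp only [Sum.elim_inr, Pi.smul_apply, smul_eq_mul, Prod.smul_snd, RingHom.id_apply]
      split_ifs <;> ring

theorem qt_iota4 (ws wt : F) (c : (Fin k → F) × F) (n : ℕ) :
    qt (iota4 ws wt c) n = if h : n < k then c.1 ⟨n, h⟩ else 0 := rfl

theorem bw_iota4 (a b ws wt : F) (c : (Fin k → F) × F) :
    bw a b ws wt (iota4 (k := k) ws wt c) = 2 * c.2 * (ws ^ 2 + a * ws * wt + b * wt ^ 2) := by
  have h0 : iota4 (k := k) ws wt c (Sum.inr 0) = c.2 * ws := rfl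
  have h1 : iota4 (k := k) ws wt c (Sum.inr 1) = c.2 * wt := rfl
  unfold bw
  rw [h0, h1]
  ring

end

theorem uex4M : StUex4M.{u} := by
  intro F _ _ k a b α h2 haniso hk hα
  classical
  have h4 : (4 : F) ≠ 0 := by
    have h0 : (4 : F) = 2 * 2 := by norm_num
    rw [h0]
    exact mul_ne_zero h2 h2
  have hD : 4 * b - a ^ 2 ≠ 0 := by
    intro h
    have h0 := haniso (-a) 2 (by linear_combination h)
    exact h2 h0.2
  obtain ⟨X, t₀, hXY⟩ := quad_solve1 h2 (4 * b - a ^ 2) (4 * α) hD
  obtain ⟨s₀, hs₀⟩ : ∃ s₀ : F, 2 * s₀ = X - a * t₀ := ⟨(X - a * t₀) / 2, by field_simp⟩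
  have hp₀ : s₀ ^ 2 + a * s₀ * t₀ + b * t₀ ^ 2 = α := by
    apply mul_left_cancel₀ h4
    linear_combination (2 * s₀ + X + a * t₀) * hs₀ + hXY
  obtain ⟨ws, hws⟩ : ∃ ws : F, ws = a * s₀ + 2 * b * t₀ := ⟨_, rfl⟩
  obtain ⟨wt, hwt⟩ : ∃ wt : F, wt = -(2 * s₀ + a * t₀) := ⟨_, rfl⟩
  have hw0 : ¬ (ws = 0 ∧ wt = 0) := by
    rintro ⟨h1, h2'⟩
    have h0 : 2 * α = 0 := by
      rw [← hp₀]
      linear_combination t₀ * h1 - s₀ * h2' - t₀ * hws + s₀ * hwt
    rcases mul_eq_zero.mp h0 with h | h
    · exact h2 h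
    · exact hα h
  obtain ⟨Qw, hQwdef⟩ : ∃ Qw : F, Qw = ws ^ 2 + a * ws * wt + b * wt ^ 2 := ⟨_, rfl⟩
  have hQw : Qw ≠ 0 := by
    rw [hQwdef]
    exact fun h => hw0 (haniso ws wt h)
  have hk0 : 0 < k := by
    obtain ⟨h, rfl⟩ := hk
    omega
  obtain ⟨N, hN⟩ : ∃ N : (MI k → F) →ₗ[F] (MI k → F), N = n4 a b ws wt := ⟨_, rfl⟩
  have hNN : ∀ (u : MI k → F) (x : MI k), N (N u) x =
      Sum.elim (Sum.elim (fun j : Fin k => if j.1 = 0 then -(2 * Qw * qt u 0) else 0)
        (fun _ => 0)) (fun _ => 0) x := by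
    intro u x
    rw [hN, hQwdef]
    exact n4_n4 a b ws wt u x
  have hN3 : ∀ u, N (N (N u)) = 0 := by
    intro u
    funext x
    rw [hNN, hN, qt_n4]
    rcases x with (j | j) | i <;> simp
  obtain ⟨x, hx, hxmul⟩ := unit_of_nil N hN3
  refine ⟨x, ?_, ?_, ?_, ?_, ?_⟩
  · intro u v
    show Cfsg.quadFormMinus k F a b ((x : Matrix (MI k) (MI k) F).mulVec u) =
      Cfsg.quadFormMinus k F a b u
    rw [hxmul, hN]
    exact n4_isom a b ws wt hk u
  · rw [hx]
    apply LinearMap.ext
    intro u
    simp only [pow_succ, pow_zero, one_mul, Module.End.mul_apply, LinearMap.zero_apply]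
    exact hN3 u
  · rw [hx]
    obtain ⟨f0, hf0⟩ : ∃ f0 : MI k → F, f0 = Pi.single (Sum.inl (Sum.inr ⟨0, hk0⟩)) 1 :=
      ⟨_, rfl⟩
    have hqf0 : qt f0 0 = 1 := by
      unfold qt
      rw [dif_pos hk0, hf0, Pi.single_eq_same]
    have h1 := finrank_range_of_param (N * N) (LinearMap.toSpanSingleton F (MI k → F) f0)
      (fun u => qt u 0) ?_ ?_
    · rw [h1, Module.finrank_self]
    · rw [injective_iff_map_eq_zero]
      intro c hc
      have h0 := congrFun hc (Sum.inl (Sum.inl ⟨0, hk0⟩))
      simp only [LinearMap.comp_apply, Module.End.mul_apply, LinearMap.toSpanSingleton_apply,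
        hNN, qt_smul, hqf0, Sum.elim_inl, if_true, Pi.zero_apply] at h0
      have h3 : 2 * Qw * (c * 1) = 0 := neg_eq_zero.mp h0
      rw [mul_one] at h3
      rcases mul_eq_zero.mp h3 with h | h
      · exact absurd h (mul_ne_zero h2 hQw)
      · exact h
    · intro u
      funext y
      simp only [Module.End.mul_apply, LinearMap.toSpanSingleton_apply, hNN, qt_smul, hqf0,
        mul_one]
  · rw [hx]
    have h1 := finrank_range_of_param N (iota4 (k := k) ws wt)
      (fun u => ((fun j : Fin k => u (Sum.inl (Sum.inr j))), bw a b ws wt u / (2 * Qw))) ?_ ?_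
    · rw [h1, Module.finrank_prod, Module.finrank_fin_fun, Module.finrank_self]
      ring
    · rw [injective_iff_map_eq_zero]
      intro c hc
      rw [LinearMap.comp_apply, hN] at hc
      have hq0 : qt (iota4 (k := k) ws wt c) 0 = 0 := by
        have e0 := congrFun hc (Sum.inr 0)
        have e1 := congrFun hc (Sum.inr 1)
        rw [n4_r0] at e0
        rw [n4_r1] at e1
        by_contra hne
        apply hw0
        constructor
        · exact (mul_eq_zero.mp e0).resolve_left hne
        · exact (mul_eq_zero.mp e1).resolve_left hne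
      have hc2 : c.2 = 0 := by
        have e0 := congrFun hc (Sum.inl (Sum.inl ⟨0, hk0⟩))
        rw [n4_ll, if_pos rfl, bw_iota4, hq0, ← hQwdef] at e0
        have e1 : 2 * c.2 * Qw = 0 := by
          have e2 : -(2 * c.2 * Qw) - Qw * 0 = 0 := e0
          linear_combination -e2
        rcases mul_eq_zero.mp e1 with h | h
        · rcases mul_eq_zero.mp h with h | h
          · exact absurd h h2
          · exact h
        · exact absurd h hQw
      have hc1 : ∀ j : Fin k, c.1 j = 0 := by
        intro j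
        obtain ⟨h, hh⟩ := hk
        have hqj : qt (iota4 (k := k) ws wt c) j.1 = c.1 j := by
          rw [qt_iota4, dif_pos j.2]
        rw [← hqj]
        rcases Nat.eq_zero_or_pos j.1 with hj0 | hjpos
        · rw [hj0]
          exact hq0
        · rcases Nat.mod_two_eq_zero_or_one j.1 with hpar | hpar
          · -- j even ≥ 2: use j - 1
            have hlt : j.1 - 1 < k := by omega
            have e0 := congrFun hc (Sum.inl (Sum.inl ⟨j.1 - 1, hlt⟩))
            rw [n4_ll] at e0
            have hne : ¬ (j.1 - 1 = 0) := by omega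
            have hodd : (j.1 - 1) % 2 = 1 := by omega
            have hsub : j.1 - 1 + 1 = j.1 := by omega
            simp only [if_neg hne, if_pos hodd, hsub] at e0
            exact e0
          · -- j odd: use j + 1
            have hlt : j.1 + 1 < k := by omega
            have e0 := congrFun hc (Sum.inl (Sum.inl ⟨j.1 + 1, hlt⟩))
            rw [n4_ll] at e0
            have hne : ¬ (j.1 + 1 = 0) := by omega
            have hodd : ¬ ((j.1 + 1) % 2 = 1) := by omega
            have hsub : j.1 + 1 - 1 = j.1 := by omega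
            simp only [if_neg hne, if_neg hodd, hsub] at e0
            exact neg_eq_zero.mp e0
      exact Prod.ext (funext hc1) hc2
    · intro u
      rw [hN]
      apply n4_congr
      · intro n
        rfl
      · rw [bw_iota4, ← hQwdef]
        field_simp
  · obtain ⟨p0, hp0⟩ : ∃ p0 : MI k → F, p0 = Sum.elim (fun _ => 0)
        (fun i : Fin 2 => if i = 0 then s₀ else t₀) := ⟨_, rfl⟩
    have hp0r0 : p0 (Sum.inr 0) = s₀ := by rw [hp0]; rfl
    have hp0r1 : p0 (Sum.inr 1) = t₀ := by rw [hp0]; rfl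
    have hp0l : ∀ y, p0 (Sum.inl y) = 0 := by
      intro y
      rw [hp0]
      rfl
    have hqp0 : ∀ n, qt p0 n = 0 := fun n => qt_eq_zero _ (fun j => hp0l _) n
    have hbw : bw a b ws wt p0 = 0 := by
      unfold bw
      rw [hp0r0, hp0r1, hws, hwt]
      ring
    have hNp0 : N p0 = 0 := by
      rw [hN]
      funext y
      rcases y with (j | j) | i
      · rw [n4_ll, hbw, hqp0, hqp0, hqp0]
        simp
      · rfl
      · have hi : i = 0 ∨ i = 1 := by
          fin_cases i <;> simp
        rcases hi with rfl | rfl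
        · rw [n4_r0, hqp0]
          simp
        · rw [n4_r1, hqp0]
          simp
    have hQp0 : Cfsg.quadFormMinus k F a b p0 = α := by
      unfold Cfsg.quadFormMinus
      rw [hp0r0, hp0r1, hp₀]
      simp [hp0l]
    refine ⟨p0, ?_, ?_, ?_⟩
    · rw [Matrix.toLin'_apply, hxmul, hNp0, add_zero]
    · rw [hQp0]
      exact hα
    · rw [hQp0]
      exact ⟨α, rfl⟩

example : StUex4M.{u} := uex4M

end Cfsg.Agent.H67.Nd
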