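import Mathlib
import Cfsg.Agent.H3.Critical
import Cfsg.Agent.H3.Class2

set_option autoImplicit false

namespace Cfsg.Agent.H67

open scoped commutatorElement in
/-- In a subgroup `H` with `H/K` elementary abelian (for the prime 2) and `K` central in `H`,
the fourth power map is multiplicative. -/
theorem mul_pow_four_of_central_elementary {P : Type*} [Group P]
    (H K : Subgroup P) (hKD : K ≤ Subgroup.centralizer (H : Set P))
    (hpow : ∀ x ∈ H, x ^ 2 ∈ K) (hcomm : ∀ x ∈ H, ∀ y : P, ⁅x, y⁆ ∈ K)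
    {u v : P} (hu : u ∈ H) (hv : v ∈ H) : (u * v) ^ 4 = u ^ 4 * v ^ 4 := by
  set u' : H := ⟨u, hu⟩ with hu'
  set v' : H := ⟨v, hv⟩ with hv'
  have htK : ((v'⁻¹ * u'⁻¹ * v' * u' : H) : P) ∈ K := by
    have h1 := hcomm _ (H.inv_mem hv) u⁻¹
    have h2 : ((v'⁻¹ * u'⁻¹ * v' * u' : H) : P) = ⁅v⁻¹, u⁻¹⁆ := by
      rw [commutatorElement_def]
      push_cast
      simp only [hu', hv']
      group
    rw [h2]; exact h1
  have ht : (v'⁻¹ * u'⁻¹ * v' * u' : H) ∈ Subgroup.center H := by
    rw [Subgroup.mem_center_iff]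
    intro g
    apply Subtype.ext
    push_cast
    exact Subgroup.mem_centralizer_iff.mp (hKD htK) g g.2
  have hrel := H3.basic_rel u' v'
  have hvp : v' ^ 2 * u' = u' * v' ^ 2 := by
    apply Subtype.ext
    push_cast
    exact (Subgroup.mem_centralizer_iff.mp (hKD (hpow v hv)) u hu).symm
  have htp : (v'⁻¹ * u'⁻¹ * v' * u' : H) ^ 2 = 1 := H3.rel_pow_eq_one hrel ht 2 hvp
  have h6 : Nat.choose 4 2 = 2 * 3 := by decide
  have h3 := H3.mul_pow_of_rel hrel ht 4
  rw [h6, pow_mul, htp, one_pow, mul_one] at h3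
  have h4 := congrArg Subtype.val h3
  push_cast at h4
  exact h4

/-- An odd-order automorphism of a finite `2`-group that fixes every element of order
dividing `4` is trivial. -/
theorem coprime_aut_trivial_of_omega_two {G : Type*} [Group G] [Finite G]
    (hG : IsPGroup 2 G) (a : MulAut G) (ha : Nat.Coprime (orderOf a) 2)
    (h : ∀ x : G, x ^ 4 = 1 → a x = x) : a = 1 := by
  have : Fact (Nat.Prime 2) := ⟨Nat.prime_two⟩
  obtain ⟨H, K, hHchar, hKchar, hKH, hKD, hDK, hpow, hcomm⟩ := H3.critical_subgroup_exists hG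
  have haH : ∀ x ∈ H, a x ∈ H := fun x hx =>
    Subgroup.characteristic_iff_le_comap.mp hHchar a hx
  -- a fixed-point argument
  have fix : ∀ x w : G, a x = x * w → a w = w → w = 1 := by
    intro x w hag haw
    have hpw : ∀ k : ℕ, (a ^ k) x = x * w ^ k := by
      intro k
      induction k with
      | zero => simp
      | succ k ih =>
        rw [pow_succ', MulAut.mul_apply, ih, map_mul, map_pow, haw, hag, pow_succ', mul_assoc]
    have hk := hpw (orderOf a)
    rw [pow_orderOf_eq_one, MulAut.one_apply] at hk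
    have hwk : w ^ orderOf a = 1 := by
      have : x * w ^ orderOf a = x * 1 := by rw [mul_one]; exact hk.symm
      exact mul_left_cancel this
    obtain ⟨n, hn'⟩ := hG w
    have h4 : orderOf w ∣ orderOf a := orderOf_dvd_of_pow_eq_one hwk
    have h5 : orderOf w ∣ 2 ^ n := orderOf_dvd_of_pow_eq_one hn'
    have h6 : orderOf w ∣ Nat.gcd (orderOf a) (2 ^ n) := Nat.dvd_gcd h4 h5
    rw [Nat.Coprime.pow_right n ha] at h6
    exact orderOf_eq_one_iff.mp (Nat.dvd_one.mp h6)
  have key : ∀ (k : ℕ) (x : G), x ∈ H → x ^ 4 ^ k = 1 → a x = x := by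
    intro k
    induction k with
    | zero =>
      intro x _ hx
      rw [pow_zero, pow_one] at hx
      rw [hx, map_one]
    | succ k ih =>
      intro x hxH hx
      have h1 : a (x ^ 4) = x ^ 4 :=
        ih (x ^ 4) (H.pow_mem hxH 4) (by rw [← pow_mul, ← pow_succ']; exact hx)
      have haxH : a x ∈ H := haH x hxH
      have hwp : (x⁻¹ * a x) ^ 4 = 1 := by
        rw [mul_pow_four_of_central_elementary H K hKD hpow hcomm (H.inv_mem hxH) haxH,
          ← map_pow, h1, inv_pow, inv_mul_cancel]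
      have haw : a (x⁻¹ * a x) = x⁻¹ * a x := h _ hwp
      have hw1 := fix x (x⁻¹ * a x) (by group) haw
      calc a x = x * (x⁻¹ * a x) := by group
        _ = x := by rw [hw1, mul_one]
  have hfixH : ∀ x ∈ H, a x = x := by
    intro x hx
    obtain ⟨k, hk⟩ := hG x
    apply key k x hx
    have h4 : (4 : ℕ) ^ k = 2 ^ k * 2 ^ k := by
      rw [← mul_pow]; norm_num
    rw [h4, pow_mul, hk, one_pow]
  -- now `C(H) ≤ H` forces `a = 1`
  have hn : H.Normal := inferInstance
  ext g
  show a g = g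
  have hwC : g⁻¹ * a g ∈ Subgroup.centralizer (H : Set G) := by
    rw [Subgroup.mem_centralizer_iff]
    intro x hx
    have hx' : g * x * g⁻¹ ∈ H := hn.conj_mem x hx g
    have e1 := hfixH _ hx'
    rw [map_mul, map_mul, hfixH x hx, map_inv] at e1
    have e2 : a g * x = g * x * g⁻¹ * a g := by
      rw [← e1]; group
    calc x * (g⁻¹ * a g) = g⁻¹ * (g * x * g⁻¹ * a g) := by group
      _ = g⁻¹ * (a g * x) := by rw [e2]
      _ = g⁻¹ * a g * x := by group
  have hwH : g⁻¹ * a g ∈ H := hKH (hDK hwC)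
  have hw1 := fix g (g⁻¹ * a g) (by group) (hfixH _ hwH)
  calc a g = g * (g⁻¹ * a g) := by group
    _ = g := by rw [hw1, mul_one]

/-- An element normalising `H` whose order is coprime to `|Aut H|` centralises `H`. -/
theorem mem_centralizer_of_coprime_card_mulAut {X : Type*} [Group X] [Finite X]
    (H : Subgroup X) (a : X) (ha : a ∈ Subgroup.normalizer (H : Set X))
    (hcop : Nat.Coprime (orderOf a) (Nat.card (MulAut H))) :
    a ∈ Subgroup.centralizer (H : Set X) := by
  set φ := H.normalizerMonoidHom ⟨a, ha⟩ with hφ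
  have h1 : orderOf φ ∣ orderOf a := by
    have h2 := orderOf_map_dvd H.normalizerMonoidHom (⟨a, ha⟩ : Subgroup.normalizer (H : Set X))
    rwa [← Subgroup.orderOf_coe] at h2
  have h2 : orderOf φ ∣ Nat.card (MulAut H) := orderOf_dvd_natCard φ
  have h3 : orderOf φ = 1 := Nat.eq_one_of_dvd_coprimes hcop h1 h2
  have h4 : φ = 1 := orderOf_eq_one_iff.mp h3
  have h5 : (⟨a, ha⟩ : Subgroup.normalizer (H : Set X)) ∈ H.normalizerMonoidHom.ker := h4
  rw [Subgroup.normalizerMonoidHom_ker, Subgroup.mem_subgroupOf] at h5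
  exact h5

/-- Intermediate subgroups of prescribed `p`-power order inside a subgroup `P`. -/
theorem exists_intermediate_card_pow {X : Type*} [Group X] [Finite X] (P : Subgroup X)
    {p : ℕ} [Fact p.Prime] (F : Subgroup X) (hFP : F ≤ P) {n m : ℕ}
    (hF : Nat.card F = p ^ n) (hnm : n ≤ m) (hm : p ^ m ∣ Nat.card P) :
    ∃ E : Subgroup X, F ≤ E ∧ E ≤ P ∧ Nat.card E = p ^ m := by
  have h1 : Nat.card (F.subgroupOf P) = p ^ n := by
    rw [← hF]
    exact Nat.card_congr (Subgroup.subgroupOfEquivOfLe hFP).toEquiv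
  obtain ⟨K, hK, hFK⟩ := Sylow.exists_subgroup_card_pow_prime_le p hm (F.subgroupOf P) h1 hnm
  refine ⟨K.map P.subtype, ?_, Subgroup.map_subtype_le K, ?_⟩
  · intro x hx
    exact ⟨⟨x, hFP hx⟩, hFK (Subgroup.mem_subgroupOf.mpr hx), rfl⟩
  · rw [Subgroup.card_map_of_injective P.subtype_injective, hK]

end Cfsg.Agent.H67
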