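import Mathlib
import Cfsg.Prelude.Def_Solvable
import Cfsg.Agent.H1.Basic
import Cfsg.Agent.H1.MinNormal
import Cfsg.Agent.H1.Hall
import Cfsg.Agent.H67.FrobSemi
import Cfsg.Agent.H67.SylowAux
import Cfsg.Agent.H67.Abelian

set_option autoImplicit false
set_option linter.style.haveILetI false

/-!
# Solvable groups with disconnected prime graph (Gruenberg–Kegel, solvable case)

`frobenius_or_two_frobenius_aux`: a finite solvable group in which no nontrivial `π`-element
commutes with a nontrivial `π'`-element (both kinds existing) is a Frobenius or 2-Frobenius group.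
-/

namespace Cfsg.Agent.H67

universe u

/-- `n` is a `π`-number for the set of primes `A`. -/
def PiNum (A : Set ℕ) (n : ℕ) : Prop := ∀ q : ℕ, q.Prime → q ∣ n → q ∈ A

theorem PiNum.mul {A : Set ℕ} {m n : ℕ} (hm : PiNum A m) (hn : PiNum A n) :
    PiNum A (m * n) := by
  intro q hq hd
  rcases (Nat.Prime.dvd_mul hq).1 hd with h | h
  · exact hm q hq h
  · exact hn q hq h

theorem PiNum.of_dvd {A : Set ℕ} {m n : ℕ} (hn : PiNum A n) (h : m ∣ n) : PiNum A m :=
  fun q hq hd => hn q hq (hd.trans h)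

theorem PiNum.coprime {A : Set ℕ} {m n : ℕ} (hm : PiNum A m) (hn : PiNum Aᶜ n) :
    m.Coprime n := by
  by_contra h
  obtain ⟨q, hq, hd⟩ := Nat.exists_prime_and_dvd h
  exact hn q hq (hd.trans (Nat.gcd_dvd_right m n)) (hm q hq (hd.trans (Nat.gcd_dvd_left m n)))

theorem PiNum.eq_one {A : Set ℕ} {n : ℕ} (h1 : PiNum A n) (h2 : PiNum Aᶜ n) : n = 1 := by
  by_contra h
  obtain ⟨q, hq, hd⟩ := Nat.exists_prime_and_dvd h
  exact h2 q hq hd (h1 q hq hd)

theorem PiNum.one (A : Set ℕ) : PiNum A 1 :=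
  fun _ hq hd => absurd (Nat.dvd_one.1 hd) hq.ne_one

theorem PiNum.prime_pow {A : Set ℕ} {p k : ℕ} (hp : p.Prime) (hpA : p ∈ A) :
    PiNum A (p ^ k) := by
  intro q hq hd
  have := (Nat.prime_dvd_prime_iff_eq hq hp).1 (hq.dvd_of_dvd_pow hd)
  rw [this]
  exact hpA

/-- no nontrivial `π`-element commutes with a nontrivial `π'`-element. -/
def NoComm (A : Set ℕ) (G : Type*) [Group G] : Prop :=
  ∀ x y : G, x ≠ 1 → y ≠ 1 → PiNum A (orderOf x) → PiNum Aᶜ (orderOf y) → x * y ≠ y * x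

section

variable {G : Type*} [Group G] [Finite G]

theorem noComm_of_disc (A : Set ℕ)
    (h : ∀ a ∈ A, ∀ b ∉ A, a.Prime → b.Prime → a ∣ Nat.card G → b ∣ Nat.card G →
      ¬ ∃ g : G, orderOf g = a * b) : NoComm A G := by
  intro x y hx1 hy1 hx hy hc
  have hox : orderOf x ≠ 1 := fun h => hx1 (orderOf_eq_one_iff.1 h)
  have hoy : orderOf y ≠ 1 := fun h => hy1 (orderOf_eq_one_iff.1 h)
  obtain ⟨a, hap, had⟩ := Nat.exists_prime_and_dvd hox
  obtain ⟨b, hbp, hbd⟩ := Nat.exists_prime_and_dvd hoy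
  have haA : a ∈ A := hx a hap had
  have hbA : b ∉ A := hy b hbp hbd
  have hx0 : orderOf x ≠ 0 := (orderOf_pos x).ne'
  have hy0 : orderOf y ≠ 0 := (orderOf_pos y).ne'
  have h1 : orderOf (x ^ (orderOf x / a)) = a := orderOf_pow_orderOf_div hx0 had
  have h2 : orderOf (y ^ (orderOf y / b)) = b := orderOf_pow_orderOf_div hy0 hbd
  have hcomm : Commute (x ^ (orderOf x / a)) (y ^ (orderOf y / b)) :=
    Commute.pow_pow (show Commute x y from hc) _ _
  have hab : a ≠ b := fun h => hbA (h ▸ haA)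
  have hcop : (orderOf (x ^ (orderOf x / a))).Coprime (orderOf (y ^ (orderOf y / b))) := by
    rw [h1, h2]
    exact (Nat.coprime_primes hap hbp).2 hab
  have h3 := hcomm.orderOf_mul_eq_mul_orderOf_of_coprime hcop
  rw [h1, h2] at h3
  exact h a haA b hbA hap hbp (had.trans (orderOf_dvd_natCard x))
    (hbd.trans (orderOf_dvd_natCard y)) ⟨_, h3⟩

theorem exists_max_normal_pi (A : Set ℕ) (G : Type*) [Group G] [Finite G] :
    ∃ N : Subgroup G, N.Normal ∧ PiNum A (Nat.card N) ∧
      ∀ M : Subgroup G, M.Normal → PiNum A (Nat.card M) → M ≤ N := by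
  classical
  have hne : Nonempty {M : Subgroup G // M.Normal ∧ PiNum A (Nat.card M)} :=
    ⟨⟨⊥, inferInstance, by rw [Subgroup.card_bot]; exact PiNum.one A⟩⟩
  obtain ⟨⟨N, hNn, hNpi⟩, hmax⟩ := Finite.exists_max
    (fun M : {M : Subgroup G // M.Normal ∧ PiNum A (Nat.card M)} => Nat.card (M : Subgroup G))
  refine ⟨N, hNn, hNpi, fun M hMn hMpi => ?_⟩
  have h1 : PiNum A (Nat.card (M ⊔ N : Subgroup G)) :=
    (hMpi.mul hNpi).of_dvd (Cfsg.Agent.H1.card_sup_dvd_of_normal M N)
  have h2 := hmax ⟨M ⊔ N, Subgroup.sup_normal M N, h1⟩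
  have h3 : N = M ⊔ N := Subgroup.eq_of_le_of_card_ge le_sup_right h2
  rw [h3]
  exact le_sup_left

/-- in the quotient by a normal `π`-subgroup, anything commuting with the image of a nontrivial
`π'`-element has `π'`-order. -/
theorem piNum_orderOf_mk_of_commute {A : Set ℕ} (hNC : NoComm A G) (N : Subgroup G) [N.Normal]
    (hNpi : PiNum A (Nat.card N)) (y : G) (hy1 : y ≠ 1) (hy : PiNum Aᶜ (orderOf y)) (x : G)
    (hc : (QuotientGroup.mk' N x) * (QuotientGroup.mk' N y)
      = (QuotientGroup.mk' N y) * (QuotientGroup.mk' N x)) :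
    PiNum Aᶜ (orderOf (QuotientGroup.mk' N x)) := by
  have hn : x * y * x⁻¹ * y⁻¹ ∈ N := by
    rw [← QuotientGroup.eq_one_iff, ← QuotientGroup.mk'_apply]
    simp only [map_mul, map_inv]
    rw [hc]
    group
  have hfix : ∀ n ∈ N, n * y = y * n → n = 1 := by
    intro n hnN hny
    by_contra hn1
    exact hNC n y hn1 hy1 (hNpi.of_dvd (Subgroup.orderOf_dvd_natCard N hnN)) hy hny
  obtain ⟨m, hm, hmy⟩ := exists_conj_of_fpf N y hfix _ hn
  have hx' : (m⁻¹ * x) * y = y * (m⁻¹ * x) := by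
    have h1 : m * y * m⁻¹ = x * y * x⁻¹ := by rw [hmy]; group
    calc (m⁻¹ * x) * y = m⁻¹ * (x * y * x⁻¹) * x := by group
      _ = m⁻¹ * (m * y * m⁻¹) * x := by rw [h1]
      _ = _ := by group
  have hmk : QuotientGroup.mk' N (m⁻¹ * x) = QuotientGroup.mk' N x := by
    rw [map_mul, map_inv]
    have : QuotientGroup.mk' N m = 1 := (QuotientGroup.eq_one_iff m).2 hm
    rw [this, inv_one, one_mul]
  intro q hq hd
  rw [← hmk] at hd
  have hd' : q ∣ orderOf (m⁻¹ * x) := hd.trans (orderOf_map_dvd _ _)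
  show q ∉ A
  intro hqA
  have ho : orderOf (m⁻¹ * x) ≠ 0 := (orderOf_pos (m⁻¹ * x)).ne'
  have hz : orderOf ((m⁻¹ * x) ^ (orderOf (m⁻¹ * x) / q)) = q := orderOf_pow_orderOf_div ho hd'
  have hz1 : (m⁻¹ * x) ^ (orderOf (m⁻¹ * x) / q) ≠ 1 := by
    intro h
    rw [h, orderOf_one] at hz
    exact hq.ne_one hz.symm
  have hzpi : PiNum A (orderOf ((m⁻¹ * x) ^ (orderOf (m⁻¹ * x) / q))) := by
    rw [hz]
    intro r hr hrq
    rw [(Nat.prime_dvd_prime_iff_eq hr hq).1 hrq]
    exact hqA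
  have hzy : (m⁻¹ * x) ^ (orderOf (m⁻¹ * x) / q) * y = y * (m⁻¹ * x) ^ (orderOf (m⁻¹ * x) / q) :=
    (Commute.pow_left (show Commute (m⁻¹ * x) y from hx') _).eq
  exact hNC _ y hz1 hy1 hzpi hy hzy

/-- relative Schur–Zassenhaus: a complement to `N` inside `K`. -/
theorem exists_complement_of_coprime_relIndex (N K : Subgroup G) [N.Normal] (hNK : N ≤ K)
    (hcop : (Nat.card N).Coprime (N.relIndex K)) :
    ∃ B : Subgroup G, B ≤ K ∧ N ⊓ B = ⊥ ∧ N ⊔ B = K ∧ Nat.card B = N.relIndex K := by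
  have hc : (Nat.card (N.subgroupOf K)).Coprime (N.subgroupOf K).index := by
    rw [card_subgroupOf_of_le hNK]
    exact hcop
  obtain ⟨H', hH'⟩ := Subgroup.exists_right_complement'_of_coprime hc
  have hBK : H'.map K.subtype ≤ K := Subgroup.map_subtype_le H'
  have hinf : N ⊓ H'.map K.subtype = ⊥ := by
    rw [eq_bot_iff]
    rintro x ⟨hxN, h, hh, rfl⟩
    have h1 : h ∈ N.subgroupOf K ⊓ H' := ⟨hxN, hh⟩
    rw [hH'.disjoint.eq_bot, Subgroup.mem_bot] at h1
    rw [Subgroup.mem_bot, h1]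
    rfl
  have hcard : Nat.card (H'.map K.subtype) = N.relIndex K := by
    rw [Subgroup.card_subtype]
    exact hH'.symm.index_eq_card.symm
  refine ⟨H'.map K.subtype, hBK, hinf, ?_, hcard⟩
  apply Subgroup.eq_of_le_of_card_ge (sup_le hNK hBK)
  have h1 : Nat.card (H'.map K.subtype ⊔ N : Subgroup G)
      = Nat.card (H'.map K.subtype) * Nat.card N :=
    Cfsg.Agent.H1.card_sup_of_le_normalizer _ N
      (by rw [Subgroup.normalizer_eq_top]; exact le_top) (by rw [inf_comm]; exact hinf)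
  rw [sup_comm, h1, hcard, mul_comm, card_mul_relIndex_of_le hNK]

theorem exists_minimal_normal_le (K : Subgroup G) [K.Normal] (hK : K ≠ ⊥) :
    ∃ V : Subgroup G, V.Normal ∧ V ≠ ⊥ ∧ V ≤ K ∧
      ∀ M : Subgroup G, M.Normal → M ≤ V → M = ⊥ ∨ M = V := by
  classical
  have hne : ∃ n, ∃ V : Subgroup G, V.Normal ∧ V ≠ ⊥ ∧ V ≤ K ∧ Nat.card V = n :=
    ⟨Nat.card K, K, inferInstance, hK, le_rfl, rfl⟩
  obtain ⟨V, hVn, hVb, hVK, hVc⟩ := Nat.find_spec hne
  refine ⟨V, hVn, hVb, hVK, fun M hM hMV => ?_⟩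
  by_contra hcon
  push Not at hcon
  have hlt : M < V := lt_of_le_of_ne hMV hcon.2
  have h1 : Nat.card M < Nat.find hne := by rw [← hVc]; exact card_lt_card_of_lt hlt
  exact Nat.find_min hne h1 ⟨M, hM, hcon.1, hMV.trans hVK, rfl⟩

end


/-- **Gruenberg–Kegel, solvable case** (with a fixed side for a minimal normal subgroup). -/
theorem frobenius_or_two_frobenius_aux (G : Type u) [Group G] [Finite G]
    [hsol : Group.IsSolvable G] (A : Set ℕ) (hNC : NoComm A G)
    (hb : ∃ b : ℕ, b.Prime ∧ b ∉ A ∧ b ∣ Nat.card G)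
    (N₀ : Subgroup G) [hN₀n : N₀.Normal] (hN₀ : N₀ ≠ ⊥)
    (hN₀comm : ∀ x ∈ N₀, ∀ y ∈ N₀, x * y = y * x) (hN₀pi : PiNum A (Nat.card N₀)) :
    (∃ C : Subgroup G, Cfsg.IsFrobeniusComplement C) ∨
    (∃ (H K : Subgroup G) (_ : H.Normal), K.Normal ∧ H < K ∧
      (∃ C : Subgroup ↥K, Cfsg.IsFrobeniusComplement C ∧
        Cfsg.frobeniusKernel C = (H.subgroupOf K : Set ↥K)) ∧
      (∃ C : Subgroup (G ⧸ H), Cfsg.IsFrobeniusComplement C ∧
        Cfsg.frobeniusKernel C = (K.map (QuotientGroup.mk' H) : Set (G ⧸ H)))) := by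
  classical
  obtain ⟨b, hbp, hbA, hbG⟩ := hb
  obtain ⟨N, hNn, hNpi, hNmax⟩ := exists_max_normal_pi A G
  haveI := hNn
  have hN₀N : N₀ ≤ N := hNmax N₀ hN₀n hN₀pi
  have hN1 : N ≠ ⊥ := fun h => hN₀ (le_bot_iff.1 (h ▸ hN₀N))
  have hcardG : Nat.card G = Nat.card (G ⧸ N) * Nat.card N :=
    Subgroup.card_eq_card_quotient_mul_card_subgroup N
  have hbN : ¬ b ∣ Nat.card N := fun h => hbA (hNpi b hbp h)
  have hbQ : b ∣ Nat.card (G ⧸ N) := by
    rw [hcardG] at hbG
    rcases (Nat.Prime.dvd_mul hbp).1 hbG with h | h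
    · exact h
    · exact absurd h hbN
  -- the quotient has no nontrivial normal `π`-subgroup
  have hQ2 : ∀ M : Subgroup (G ⧸ N), M.Normal → PiNum A (Nat.card M) → M = ⊥ := by
    intro M hMn hMpi
    haveI := hMn
    have h1 : PiNum A (Nat.card (M.comap (QuotientGroup.mk' N))) := by
      rw [Cfsg.Agent.H1.card_comap_mk']
      exact hMpi.mul hNpi
    have h2 := hNmax _ (Subgroup.normal_comap _) h1
    rw [← Subgroup.map_comap_eq_self_of_surjective (QuotientGroup.mk'_surjective N) M]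
    rw [eq_bot_iff, ← QuotientGroup.map_mk'_self N]
    exact Subgroup.map_mono h2
  by_cases hcase : PiNum Aᶜ (Nat.card (G ⧸ N))
  · -- Frobenius case
    left
    have hcop : (Nat.card N).Coprime N.index := by
      rw [Subgroup.index_eq_card]
      exact hNpi.coprime hcase
    obtain ⟨H₂, hH₂⟩ := Subgroup.exists_right_complement'_of_coprime hcop
    have hH₂card : Nat.card H₂ = Nat.card (G ⧸ N) := by
      rw [← hH₂.symm.index_eq_card, Subgroup.index_eq_card]
    refine ⟨H₂, (frobenius_of_semidirect N H₂ hH₂.disjoint.eq_bot hH₂.sup_eq_top hN1 ?_ ?_).1⟩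
    · intro h
      rw [h, Subgroup.card_bot] at hH₂card
      rw [← hH₂card] at hbQ
      exact hbp.ne_one (Nat.dvd_one.1 hbQ)
    · intro h hh n hn hc
      by_contra hcon
      push Not at hcon
      exact hNC n h hcon.2 hcon.1 (hNpi.of_dvd (Subgroup.orderOf_dvd_natCard N hn))
        ((hH₂card ▸ hcase).of_dvd (Subgroup.orderOf_dvd_natCard H₂ hh)) hc.symm
  · -- 2-Frobenius case
    right
    have ha : ∃ a : ℕ, a.Prime ∧ a ∈ A ∧ a ∣ Nat.card (G ⧸ N) := by
      unfold PiNum at hcase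
      push Not at hcase
      obtain ⟨a, hap, had, haA⟩ := hcase
      exact ⟨a, hap, by simpa using haA, had⟩
    obtain ⟨a, hap, haA, haQ⟩ := ha
    haveI : Nontrivial (G ⧸ N) := by
      apply Finite.one_lt_card_iff_nontrivial.1
      exact lt_of_lt_of_le hap.one_lt (Nat.le_of_dvd Nat.card_pos haQ)
    obtain ⟨Kb, hKbn, hKbpi, hKbmax⟩ := exists_max_normal_pi Aᶜ (G ⧸ N)
    haveI := hKbn
    have hKb1 : Kb ≠ ⊥ := by
      obtain ⟨p, M, hp, hMn, hM1, hMp⟩ := Cfsg.Agent.H1.exists_normal_pgroup (G := G ⧸ N)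
      haveI : Fact p.Prime := ⟨hp⟩
      obtain ⟨k, hk⟩ := IsPGroup.iff_card.1 hMp
      by_cases hpA : p ∈ A
      · exact absurd (hQ2 M hMn (hk ▸ PiNum.prime_pow hp hpA)) hM1
      · have h1 : M ≤ Kb := hKbmax M hMn (hk ▸ PiNum.prime_pow hp (show p ∈ Aᶜ from hpA))
        intro h
        exact hM1 (le_bot_iff.1 (h ▸ h1))
    have hKbtop : Kb ≠ ⊤ := by
      intro h
      rw [h, Subgroup.card_top] at hKbpi
      exact hKbpi a hap haQ haA
    obtain ⟨K, hKdef⟩ : ∃ K : Subgroup G, K = Kb.comap (QuotientGroup.mk' N) := ⟨_, rfl⟩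
    have hKn : K.Normal := by rw [hKdef]; exact Subgroup.normal_comap _
    have hNK : N ≤ K := by
      intro x hx
      rw [hKdef, Subgroup.mem_comap]
      have : QuotientGroup.mk' N x = 1 := (QuotientGroup.eq_one_iff x).2 hx
      rw [this]
      exact Kb.one_mem
    have hKmap : K.map (QuotientGroup.mk' N) = Kb := by
      rw [hKdef]
      exact Subgroup.map_comap_eq_self_of_surjective (QuotientGroup.mk'_surjective N) Kb
    have hKcard : Nat.card K = Nat.card Kb * Nat.card N := by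
      rw [hKdef]
      exact Cfsg.Agent.H1.card_comap_mk' N Kb
    have hrel : N.relIndex K = Nat.card Kb := by
      have h1 := card_mul_relIndex_of_le hNK
      rw [hKcard, mul_comm] at h1
      exact Nat.eq_of_mul_eq_mul_right Nat.card_pos h1
    obtain ⟨B, hBK, hNB, hNBsup, hBcard⟩ := exists_complement_of_coprime_relIndex N K hNK
      (by rw [hrel]; exact hNpi.coprime hKbpi)
    have hBpi : PiNum Aᶜ (Nat.card B) := by rw [hBcard, hrel]; exact hKbpi
    have hBmap : B.map (QuotientGroup.mk' N) = Kb := by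
      rw [← hKmap, ← hNBsup, Subgroup.map_sup, QuotientGroup.map_mk'_self, bot_sup_eq]
    have hB1 : B ≠ ⊥ := by
      intro h
      rw [h, Subgroup.map_bot] at hBmap
      exact hKb1 hBmap.symm
    have hBelt : ∀ x ∈ B, PiNum Aᶜ (orderOf x) :=
      fun x hx => hBpi.of_dvd (Subgroup.orderOf_dvd_natCard B hx)
    have hlift : ∀ k ∈ Kb, ∃ x ∈ B, QuotientGroup.mk' N x = k := by
      intro k hk
      rw [← hBmap] at hk
      obtain ⟨x, hx, rfl⟩ := hk
      exact ⟨x, hx, rfl⟩
    have hKbNC : ∀ k ∈ Kb, k ≠ 1 → ∀ c : G ⧸ N, c * k = k * c → PiNum Aᶜ (orderOf c) := by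
      intro k hk hk1 c hc
      obtain ⟨x, hx, rfl⟩ := hlift k hk
      obtain ⟨c', rfl⟩ := QuotientGroup.mk'_surjective N c
      have hx1 : x ≠ 1 := by
        rintro rfl
        exact hk1 (map_one _)
      exact piNum_orderOf_mk_of_commute hNC N hNpi x hx1 (hBelt x hx) c' hc
    have hBN : ∀ x ∈ B, QuotientGroup.mk' N x = 1 → x = 1 := by
      intro x hx h
      have hxN : x ∈ N := (QuotientGroup.eq_one_iff x).1 h
      have : x ∈ N ⊓ B := ⟨hxN, hx⟩
      rwa [hNB, Subgroup.mem_bot] at this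
    -- the key claim: `G / K` is a `π`-group
    have hX : PiNum A Kb.index := by
      intro b' hb'p hb'd
      by_contra hb'A
      haveI : Nontrivial ((G ⧸ N) ⧸ Kb) := by
        apply Finite.one_lt_card_iff_nontrivial.1
        rw [← Subgroup.index_eq_card]
        exact lt_of_lt_of_le hb'p.one_lt
          (Nat.le_of_dvd (Nat.pos_of_ne_zero Subgroup.index_ne_zero_of_finite) hb'd)
      obtain ⟨p, N', hp, hN'n, hN'1, hN'p⟩ :=
        Cfsg.Agent.H1.exists_normal_pgroup (G := (G ⧸ N) ⧸ Kb)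
      haveI : Fact p.Prime := ⟨hp⟩
      haveI := hN'n
      obtain ⟨k, hk⟩ := IsPGroup.iff_card.1 hN'p
      have hk0 : k ≠ 0 := by
        rintro rfl
        rw [pow_zero] at hk
        exact hN'1 (Subgroup.card_eq_one.1 hk)
      obtain ⟨Lb, hLbdef⟩ : ∃ Lb : Subgroup (G ⧸ N), Lb = N'.comap (QuotientGroup.mk' Kb) :=
        ⟨_, rfl⟩
      haveI hLbn : Lb.Normal := by rw [hLbdef]; exact Subgroup.normal_comap _
      have hLbcard : Nat.card Lb = p ^ k * Nat.card Kb := by
        rw [hLbdef, Cfsg.Agent.H1.card_comap_mk', hk]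
      have hKbLb : Kb ≤ Lb := by
        intro x hx
        rw [hLbdef, Subgroup.mem_comap]
        have : QuotientGroup.mk' Kb x = 1 := (QuotientGroup.eq_one_iff x).2 hx
        rw [this]
        exact N'.one_mem
      have hpA : p ∈ A := by
        by_contra hpA
        have h1 : PiNum Aᶜ (Nat.card Lb) := by
          rw [hLbcard]
          exact (PiNum.prime_pow hp (show p ∈ Aᶜ from hpA)).mul hKbpi
        have h2 : Lb ≤ Kb := hKbmax Lb hLbn h1
        have h3 : Nat.card Lb ≤ Nat.card Kb := Subgroup.card_le_of_le h2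
        rw [hLbcard] at h3
        have h4 : 1 < p ^ k := Nat.one_lt_pow hk0 hp.one_lt
        have h5 : 0 < Nat.card Kb := Nat.card_pos
        nlinarith
      have hb'p' : b' ≠ p := fun h => hb'A (h ▸ hpA)
      obtain ⟨P⟩ : Nonempty (Sylow p Lb) := inferInstance
      obtain ⟨P₁, hP₁⟩ : ∃ P₁ : Subgroup (G ⧸ N), P₁ = (P : Subgroup Lb).map Lb.subtype :=
        ⟨_, rfl⟩
      have hP₁ne : P₁ ≠ ⊥ := by
        have h1 : (P : Subgroup Lb) ≠ ⊥ := P.ne_bot_of_dvd_card
          (by rw [hLbcard]; exact Dvd.dvd.mul_right (dvd_pow_self p hk0) _)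
        intro h
        apply h1
        rw [hP₁] at h
        exact (Subgroup.map_eq_bot_iff_of_injective _ (Subgroup.subtype_injective Lb)).1 h
      have hP₁p : IsPGroup p P₁ := by rw [hP₁]; exact P.isPGroup'.map _
      have hfrat : Subgroup.normalizer (P₁ : Set (G ⧸ N)) ⊔ Lb = ⊤ := by
        rw [hP₁]
        exact Sylow.normalizer_sup_eq_top P
      obtain ⟨Nm, hNm⟩ : ∃ Nm : Subgroup (G ⧸ N), Nm = Subgroup.normalizer (P₁ : Set (G ⧸ N)) :=
        ⟨_, rfl⟩
      rw [← hNm] at hfrat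
      have hb'Nm : b' ∣ Nat.card Nm := by
        have h1 : Kb.relIndex Lb * Lb.index = Kb.index := Subgroup.relIndex_mul_index hKbLb
        have h2 : Kb.relIndex Lb = p ^ k := by
          have h3 := card_mul_relIndex_of_le hKbLb
          rw [hLbcard, mul_comm] at h3
          exact Nat.eq_of_mul_eq_mul_right Nat.card_pos h3
        rw [← h1, h2] at hb'd
        have h4 : b' ∣ Lb.index := by
          rcases (Nat.Prime.dvd_mul hb'p).1 hb'd with h | h
          · exact absurd ((Nat.prime_dvd_prime_iff_eq hb'p hp).1 (hb'p.dvd_of_dvd_pow h)) hb'p'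
          · exact h
        have h5 : Lb.index = Lb.relIndex Nm := by
          rw [← Subgroup.relIndex_top_right, ← hfrat, Subgroup.relIndex_sup_right]
        rw [h5] at h4
        exact h4.trans (Subgroup.relIndex_dvd_card Lb Nm)
      have hb'T : b' ∣ Nat.card (Nm.comap (QuotientGroup.mk' N)) := by
        rw [Cfsg.Agent.H1.card_comap_mk']
        exact Dvd.dvd.mul_right hb'Nm _
      haveI : Fact b'.Prime := ⟨hb'p⟩
      obtain ⟨y', hy'⟩ := exists_prime_orderOf_dvd_card' b' hb'T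
      obtain ⟨y, hydef⟩ : ∃ y : G, y = (y' : G) := ⟨_, rfl⟩
      have hyord : orderOf y = b' := by rw [hydef, Subgroup.orderOf_coe]; exact hy'
      have hyNm : QuotientGroup.mk' N y ∈ Nm := by rw [hydef]; exact y'.2
      have hy1 : y ≠ 1 := by
        intro h
        rw [h, orderOf_one] at hyord
        exact hb'p.ne_one hyord.symm
      have hypi : PiNum Aᶜ (orderOf y) := by
        rw [hyord]
        intro r hr hrd
        rw [(Nat.prime_dvd_prime_iff_eq hr hb'p).1 hrd]
        exact hb'A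
      obtain ⟨yb, hyb⟩ : ∃ yb : G ⧸ N, yb = QuotientGroup.mk' N y := ⟨_, rfl⟩
      rw [← hyb] at hyNm
      obtain ⟨⟨d, hdP⟩, hd1⟩ := Subgroup.ne_bot_iff_exists_ne_one.1 hP₁ne
      have hd1' : d ≠ 1 := fun h => hd1 (Subtype.ext h)
      have hdord : ∀ g ∈ P₁, g ≠ 1 → ¬ PiNum Aᶜ (orderOf g) := by
        intro g hg hg1 hpi
        obtain ⟨s, hs⟩ := hP₁p ⟨g, hg⟩
        have hs' : g ^ p ^ s = 1 := congrArg Subtype.val hs
        have h1 : orderOf g ∣ p ^ s := orderOf_dvd_of_pow_eq_one hs'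
        obtain ⟨t, ht, hto⟩ := (Nat.dvd_prime_pow hp).1 h1
        have ht0 : t ≠ 0 := by
          rintro rfl
          rw [pow_zero] at hto
          exact hg1 (orderOf_eq_one_iff.1 hto)
        exact hpi p hp (hto ▸ dvd_pow_self p ht0) hpA
      obtain ⟨c, hcdef⟩ : ∃ c : G ⧸ N, c = d⁻¹ * yb⁻¹ * d * yb := ⟨_, rfl⟩
      have hcP : c ∈ P₁ := by
        have h1 : yb⁻¹ * d * yb ∈ P₁ := by
          have h2 : yb⁻¹ ∈ Nm := Nm.inv_mem hyNm
          rw [hNm] at h2
          have := (Subgroup.mem_normalizer_iff.1 h2 d).1 hdP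
          rwa [inv_inv] at this
        have h3 : c = d⁻¹ * (yb⁻¹ * d * yb) := by rw [hcdef]; group
        rw [h3]
        exact P₁.mul_mem (P₁.inv_mem hdP) h1
      have hc1 : c ≠ 1 := by
        intro h
        have h1 : d * yb = yb * d := by
          calc d * yb = yb * d * (d⁻¹ * yb⁻¹ * d * yb) := by group
            _ = yb * d := by rw [← hcdef, h, mul_one]
        obtain ⟨d', rfl⟩ := QuotientGroup.mk'_surjective N d
        rw [hyb] at h1
        exact hdord _ hdP hd1' (piNum_orderOf_mk_of_commute hNC N hNpi y hy1 hypi d' h1)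
      -- a minimal normal subgroup inside `Kb`
      obtain ⟨V, hVn, hV1, hVK, hVmin⟩ := exists_minimal_normal_le Kb hKb1
      haveI := hVn
      obtain ⟨hVcomm, q, hq, hVq⟩ :=
        Cfsg.Agent.H1.minimal_normal_elementary_abelian V hV1 hVmin
      haveI : Fact q.Prime := ⟨hq⟩
      have hVlift : ∀ v ∈ V, ∃ x ∈ B, QuotientGroup.mk' N x = v := fun v hv => hlift v (hVK hv)
      have hcyc : ∀ x₁ ∈ B, ∀ x₂ ∈ B, QuotientGroup.mk' N x₁ ∈ V → QuotientGroup.mk' N x₂ ∈ V →
          x₂ ≠ 1 → x₁ ∈ Subgroup.zpowers x₂ := by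
        intro x₁ hx₁ x₂ hx₂ hv₁ hv₂ hx₂1
        have hcomm : x₁ * x₂ = x₂ * x₁ := by
          have h1 : QuotientGroup.mk' N (x₁ * x₂ * x₁⁻¹ * x₂⁻¹) = 1 := by
            simp only [map_mul, map_inv]
            rw [mul_comm_of_isMulCommutative hVcomm hv₁ hv₂]
            group
          have h2 := hBN _ (B.mul_mem (B.mul_mem (B.mul_mem hx₁ hx₂) (B.inv_mem hx₁))
            (B.inv_mem hx₂)) h1
          calc x₁ * x₂ = (x₁ * x₂ * x₁⁻¹ * x₂⁻¹) * (x₂ * x₁) := by group
            _ = x₂ * x₁ := by rw [h2, one_mul]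
        have hpow : ∀ x ∈ B, QuotientGroup.mk' N x ∈ V → x ^ q = 1 := by
          intro x hx hv
          apply hBN _ (B.pow_mem hx q)
          rw [map_pow]
          exact hVq _ hv
        have hqA : q ∉ A := by
          have h1 : orderOf x₂ = q := by
            rcases (Nat.dvd_prime hq).1 (orderOf_dvd_of_pow_eq_one (hpow x₂ hx₂ hv₂)) with h | h
            · exact absurd (orderOf_eq_one_iff.1 h) hx₂1
            · exact h
          exact hBelt x₂ hx₂ q hq (h1 ▸ dvd_rfl)
        have hqN₀ : ¬ q ∣ Nat.card N₀ := fun h => hqA (hN₀pi q hq h)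
        have hfin := mem_zpowers_of_fpf q N₀ hN₀comm hN₀ hqN₀ x₁ x₂ hcomm (hpow x₁ hx₁ hv₁)
          (hpow x₂ hx₂ hv₂) (by
            intro i j hne w hw hcw
            by_contra hw1
            have hmem : x₁ ^ i * x₂ ^ j ∈ B := B.mul_mem (B.pow_mem hx₁ i) (B.pow_mem hx₂ j)
            exact hNC w (x₁ ^ i * x₂ ^ j) hw1 hne
              (hN₀pi.of_dvd (Subgroup.orderOf_dvd_natCard N₀ hw)) (hBelt _ hmem) hcw.symm)
        rcases hfin with h | h
        · exact absurd h hx₂1
        · exact h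
      obtain ⟨⟨v, hvV⟩, hv1⟩ := Subgroup.ne_bot_iff_exists_ne_one.1 hV1
      have hv1' : v ≠ 1 := fun h => hv1 (Subtype.ext h)
      obtain ⟨x₀, hx₀B, hx₀v⟩ := hVlift v hvV
      have hx₀1 : x₀ ≠ 1 := by
        rintro rfl
        exact hv1' (by rw [← hx₀v, map_one])
      have hconj : ∀ g : G ⧸ N, ∃ i : ℤ, g * v * g⁻¹ = v ^ i := by
        intro g
        have h1 : g * v * g⁻¹ ∈ V := hVn.conj_mem v hvV g
        obtain ⟨x₁, hx₁B, hx₁v⟩ := hVlift _ h1
        have h2 := hcyc x₁ hx₁B x₀ hx₀B (hx₁v ▸ h1) (hx₀v ▸ hvV) hx₀1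
        obtain ⟨i, hi⟩ := Subgroup.mem_zpowers_iff.1 h2
        refine ⟨i, ?_⟩
        rw [← hx₁v, ← hi, map_zpow, hx₀v]
      obtain ⟨i, hi⟩ := hconj d
      obtain ⟨j, hj⟩ := hconj yb
      have hcv : c * v = v * c := by
        have h1 : (d * yb) * v * (d * yb)⁻¹ = (yb * d) * v * (yb * d)⁻¹ := by
          have e1 : (d * yb) * v * (d * yb)⁻¹ = d * (yb * v * yb⁻¹) * d⁻¹ := by group
          have e2 : (yb * d) * v * (yb * d)⁻¹ = yb * (d * v * d⁻¹) * yb⁻¹ := by group
          rw [e1, e2, hj, hi]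
          have e3 : d * v ^ j * d⁻¹ = (d * v * d⁻¹) ^ j := (conj_zpow).symm
          have e4 : yb * v ^ i * yb⁻¹ = (yb * v * yb⁻¹) ^ i := (conj_zpow).symm
          rw [e3, e4, hi, hj, ← zpow_mul, ← zpow_mul, mul_comm]
        have h2 : c = (yb * d)⁻¹ * (d * yb) := by rw [hcdef]; group
        rw [h2]
        calc (yb * d)⁻¹ * (d * yb) * v
            = (yb * d)⁻¹ * ((d * yb) * v * (d * yb)⁻¹) * (d * yb) := by group
          _ = (yb * d)⁻¹ * ((yb * d) * v * (yb * d)⁻¹) * (d * yb) := by rw [h1]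
          _ = _ := by group
      exact hdord c hcP hc1 (hKbNC v (hVK hvV) hv1' c hcv)
    refine ⟨N, K, hNn, hKn, ?_, ?_, ?_⟩
    · refine lt_of_le_of_ne hNK ?_
      intro h
      apply hKb1
      rw [← hKmap, ← h, QuotientGroup.map_mk'_self]
    · have hfr := frobenius_of_semidirect (X := K) (N.subgroupOf K) (B.subgroupOf K)
        (by
          rw [eq_bot_iff]
          rintro x ⟨hxN, hxB⟩
          have h1 : (x : G) ∈ N ⊓ B := ⟨hxN, hxB⟩
          rw [hNB, Subgroup.mem_bot] at h1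
          rw [Subgroup.mem_bot]
          exact Subtype.ext h1)
        (by
          rw [eq_top_iff]
          intro x _
          have hx : (x : G) ∈ N ⊔ B := hNBsup ▸ x.2
          obtain ⟨n, hn, b₀, hb₀, hnb⟩ := Subgroup.mem_sup_of_normal_left.1 hx
          have h1 : x = (⟨n, hNK hn⟩ : K) * ⟨b₀, hBK hb₀⟩ := Subtype.ext hnb.symm
          rw [h1]
          exact Subgroup.mul_mem _
            (Subgroup.mem_sup_left (show (⟨n, hNK hn⟩ : K) ∈ N.subgroupOf K from hn))
            (Subgroup.mem_sup_right (show (⟨b₀, hBK hb₀⟩ : K) ∈ B.subgroupOf K from hb₀)))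
        (by
          intro h
          apply hN1
          rw [eq_bot_iff]
          intro x hx
          have h1 : (⟨x, hNK hx⟩ : K) ∈ N.subgroupOf K := hx
          rw [h, Subgroup.mem_bot] at h1
          rw [Subgroup.mem_bot]
          exact congrArg Subtype.val h1)
        (by
          intro h
          apply hB1
          rw [eq_bot_iff]
          intro x hx
          have h1 : (⟨x, hBK hx⟩ : K) ∈ B.subgroupOf K := hx
          rw [h, Subgroup.mem_bot] at h1
          rw [Subgroup.mem_bot]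
          exact congrArg Subtype.val h1)
        (by
          intro x hx n hn hc
          have hc' : (x : G) * (n : G) = (n : G) * (x : G) := congrArg Subtype.val hc
          by_contra hcon
          push Not at hcon
          exact hNC (n : G) (x : G) (fun h => hcon.2 (Subtype.ext h))
            (fun h => hcon.1 (Subtype.ext h))
            (hNpi.of_dvd (Subgroup.orderOf_dvd_natCard N hn)) (hBelt _ hx) hc'.symm)
      exact ⟨B.subgroupOf K, hfr.1, hfr.2⟩
    · have hcop : (Nat.card Kb).Coprime Kb.index := (hX.coprime hKbpi).symm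
      obtain ⟨Cb, hCb⟩ := Subgroup.exists_right_complement'_of_coprime hcop
      have hCbcard : Nat.card Cb = Kb.index := hCb.symm.index_eq_card.symm
      have hfr := frobenius_of_semidirect Kb Cb hCb.disjoint.eq_bot hCb.sup_eq_top hKb1
        (by
          intro h
          rw [h, Subgroup.card_bot] at hCbcard
          exact hKbtop (Subgroup.index_eq_one.1 hCbcard.symm))
        (by
          intro c hc k hk hck
          by_cases hk1 : k = 1
          · exact Or.inr hk1
          · left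
            have h1 := hKbNC k hk hk1 c hck
            have h2 : PiNum A (orderOf c) :=
              (hCbcard ▸ hX).of_dvd (Subgroup.orderOf_dvd_natCard Cb hc)
            exact orderOf_eq_one_iff.1 (h2.eq_one h1))
      refine ⟨Cb, hfr.1, ?_⟩
      rw [hfr.2, hKmap]

end Cfsg.Agent.H67
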