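import Mathlib
import Cfsg.Agent.H69.RSDefs
import Cfsg.Agent.H67.SylowAux
import Cfsg.Agent.H67.Conj

/-!
# RS-A4 (helper67, for helper69's S2361)

`E ⊴ S`, `|E| = 4`, `|S| = 12`, `3 ∤ |C_G(E)|`, Sylow 2-subgroups of `G` commutative: `S` normalises
a Sylow 2-subgroup of `G`.
-/

set_option autoImplicit false
set_option linter.unusedVariables false
set_option linter.unusedSectionVars false
set_option linter.style.haveILetI false

namespace Cfsg.Agent.H67.RS

open Cfsg.Agent.H45.S8 Cfsg.Agent.H69.RS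

universe u

theorem a4 : StA4.{u} := by
  intro G _ _ hcomm E S hES hSN hE4 hS12 h3
  classical
  haveI : Fact (Nat.Prime 2) := ⟨Nat.prime_two⟩
  haveI : Fact (Nat.Prime 3) := ⟨Nat.prime_three⟩
  have hE2 : IsPGroup 2 E := IsPGroup.of_card (n := 2) (by rw [hE4]; norm_num)
  obtain ⟨P₀, hEP₀⟩ := hE2.exists_le_sylow
  -- an element of order 3
  have h3S : 3 ∣ Nat.card S := by rw [hS12]; norm_num
  obtain ⟨σ', hσ'⟩ := exists_prime_orderOf_dvd_card' 3 h3S
  have hσ3 : orderOf (σ' : G) = 3 := by rw [Subgroup.orderOf_coe]; exact hσ'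
  have hσS : (σ' : G) ∈ S := σ'.2
  obtain ⟨σ, hσdef⟩ : ∃ σ : G, σ = (σ' : G) := ⟨_, rfl⟩
  rw [← hσdef] at hσ3 hσS
  have hZN : Subgroup.zpowers σ ≤ Subgroup.normalizer (E : Set G) :=
    (Subgroup.zpowers_le.mpr hσS).trans hSN
  have hZ3 : IsPGroup 3 (Subgroup.zpowers σ) :=
    IsPGroup.of_card (n := 1) (by rw [Nat.card_zpowers, hσ3, pow_one])
  -- Sylow 2-subgroups containing `E` lie in the centraliser
  have hPC : ∀ P : Sylow 2 G, E ≤ (P : Subgroup G) →
      (P : Subgroup G) ≤ Subgroup.centralizer (E : Set G) := by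
    intro P hEP x hx
    rw [Subgroup.mem_centralizer_iff]
    intro e he
    exact hcomm P e (hEP he) x hx
  -- the `zpowers σ`-stable set of Sylow 2-subgroups containing `E`
  let Xs : SubMulAction ↥(Subgroup.zpowers σ) (Sylow 2 G) :=
    { carrier := {P | E ≤ (P : Subgroup G)}
      smul_mem' := by
        intro z P hP e he
        show e ∈ ((z • P : Sylow 2 G) : Subgroup G)
        rw [Subgroup.smul_def, Sylow.coe_subgroup_smul,
          Subgroup.mem_pointwise_smul_iff_inv_smul_mem, MulAut.smul_def, MulAut.conj_inv_apply]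
        have hz := hZN z.2
        have hz' : (z : G)⁻¹ ∈ Subgroup.normalizer (E : Set G) := inv_mem hz
        have := (Subgroup.mem_normalizer_iff.mp hz' e).mp he
        rw [inv_inv] at this
        exact hP this }
  have hXmem : ∀ P : Sylow 2 G, P ∈ Xs ↔ E ≤ (P : Subgroup G) := fun P => Iff.rfl
  -- `Xs` is the orbit of `P₀` under the centraliser
  have hXorb : (Xs : Set (Sylow 2 G)) =
      MulAction.orbit ↥(Subgroup.centralizer (E : Set G)) P₀ := by
    ext P
    constructor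
    · intro hP
      have hEP : E ≤ (P : Subgroup G) := hP
      have h1 : ¬ 2 ∣ (P₀ : Subgroup G).relIndex (Subgroup.centralizer (E : Set G)) := fun hd =>
        P₀.not_dvd_index (dvd_trans hd (Subgroup.relIndex_dvd_index_of_le (hPC P₀ hEP₀)))
      have h2 : ¬ 2 ∣ (P : Subgroup G).relIndex (Subgroup.centralizer (E : Set G)) := fun hd =>
        P.not_dvd_index (dvd_trans hd (Subgroup.relIndex_dvd_index_of_le (hPC P hEP)))
      obtain ⟨k, hk, hkP⟩ := Cfsg.Agent.H67.exists_conj_eq_of_isPGroup_of_not_dvd_relIndex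
        (hPC P₀ hEP₀) (hPC P hEP) P₀.isPGroup' h1 P.isPGroup' h2
      refine ⟨⟨k, hk⟩, ?_⟩
      apply Sylow.ext
      show ((⟨k, hk⟩ : ↥(Subgroup.centralizer (E : Set G))) • P₀ : Sylow 2 G).toSubgroup =
        (P : Subgroup G)
      rw [hkP]
      rfl
    · rintro ⟨c, rfl⟩
      show E ≤ ((c • P₀ : Sylow 2 G) : Subgroup G)
      intro e he
      rw [Subgroup.smul_def, Sylow.coe_subgroup_smul,
        Subgroup.mem_pointwise_smul_iff_inv_smul_mem, MulAut.smul_def, MulAut.conj_inv_apply]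
      have hc := Subgroup.mem_centralizer_iff.mp c.2 e he
      have : (c : G)⁻¹ * e * (c : G) = e := by
        rw [mul_assoc, hc, ← mul_assoc, inv_mul_cancel, one_mul]
      rw [this]
      exact hEP₀ he
  have hXcard : ¬ 3 ∣ Nat.card ↥Xs := by
    have e1 : Nat.card ↥Xs = (Xs : Set (Sylow 2 G)).ncard := Nat.card_coe_set_eq _
    rw [e1, hXorb, ← MulAction.index_stabilizer]
    exact fun hd => h3 (dvd_trans hd (Subgroup.index_dvd_card _))
  obtain ⟨⟨P, hP⟩, hfix⟩ := hZ3.nonempty_fixed_point_of_prime_not_dvd_card ↥Xs hXcard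
  have hEP : E ≤ (P : Subgroup G) := hP
  have hσP : σ ∈ Subgroup.normalizer ((P : Subgroup G) : Set G) := by
    have h1 := hfix ⟨σ, Subgroup.mem_zpowers σ⟩
    have h2 : ((⟨σ, Subgroup.mem_zpowers σ⟩ : ↥(Subgroup.zpowers σ)) • P : Sylow 2 G) = P :=
      congrArg Subtype.val h1
    have h3' : σ • P = P := h2
    exact Sylow.smul_eq_iff_mem_normalizer.mp h3'
  -- `S = E ⊔ zpowers σ`
  have hsup : E ⊔ Subgroup.zpowers σ = S := by
    apply Subgroup.eq_of_le_of_card_ge (sup_le hES (Subgroup.zpowers_le.mpr hσS))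
    rw [hS12]
    have h4 : 4 ∣ Nat.card ↥(E ⊔ Subgroup.zpowers σ) := by
      rw [← hE4]; exact Subgroup.card_dvd_of_le le_sup_left
    have h3'' : 3 ∣ Nat.card ↥(E ⊔ Subgroup.zpowers σ) := by
      have := Subgroup.card_dvd_of_le (le_sup_right : Subgroup.zpowers σ ≤ E ⊔ Subgroup.zpowers σ)
      rwa [Nat.card_zpowers, hσ3] at this
    have h12 : 12 ∣ Nat.card ↥(E ⊔ Subgroup.zpowers σ) :=
      Nat.Coprime.mul_dvd_of_dvd_of_dvd (by norm_num : Nat.Coprime 4 3) h4 h3''
    exact Nat.le_of_dvd Nat.card_pos h12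
  refine ⟨P, ?_⟩
  rw [← hsup]
  exact sup_le (hEP.trans Subgroup.le_normalizer) (Subgroup.zpowers_le.mpr hσP)

example : StA4.{u} := a4

end Cfsg.Agent.H67.RS
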