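import Cfsg.Agent.H87.RedDefs

set_option autoImplicit false
set_option linter.style.haveILetI false

/-!
# S5202-PSTEP (helper67, for helper87): index prime to `p` passes to the kernel subsystems
-/

namespace Cfsg.Agent.H67.Red

open Cfsg Cfsg.FusionSystem Cfsg.Agent.H86 Cfsg.Agent.H87

universe u

variable {Ω : Type u} [Group Ω] {S T : Subgroup Ω}

/-- A map of a subsystem (possibly over a smaller subgroup) is a map of the system. -/
lemma mor_sub' {T : Subgroup Ω} {E : FusionSystem T} {F : FusionSystem S}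
    (hEF : E.IsSubsystemOf F) {P : Subgroup Ω} {f : Ω → Ω} (h : Mor E P f) : Mor F P f := by
  obtain ⟨φ, hφ, hφf⟩ := h
  exact ⟨φ, hEF P hφ, hφf⟩

/-- If `f = a ∘ f₀` on `P` with `a` an automorphism of `S` in `F` and `f(P)` fully normalized,
then `f₀(P)` is fully normalized. -/
theorem fullyNormalized_of_frattini [Finite S] {F : FusionSystem S} {P Q₁ : Subgroup Ω}
    {f a f₀ : Ω → Ω} (hf : Mor F P f) (hfimg : imgS P f = Q₁) (hQ₁fn : F.IsFullyNormalized Q₁)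
    (ha : Mor F S a) (haS : imgS S a = S) (hf₀F : Mor F P f₀) (hfa : ∀ x ∈ P, f x = a (f₀ x)) :
    F.IsFullyNormalized (imgS P f₀) := by
  classical
  have hQ₁S : Q₁ ≤ S := hQ₁fn.1
  have hQS : imgS P f₀ ≤ S := hf₀F.imgS_le
  have haQ : Mor F (imgS P f₀) a := ha.restrict hQS
  have haQimg : imgS (imgS P f₀) a = Q₁ := by
    rw [← hf₀F.imgS_comp ha (fun x hx => hf₀F.mem hx), ← hfimg]
    exact (Mor.imgS_congr hf (fun x hx => hfa x hx)).symm
  have hQQ₁ : F.IsConj (imgS P f₀) Q₁ := isConj_iff.2 ⟨a, haQ, haQimg⟩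
  have hb : Mor F S (invOn S a) := by
    have := ha.inv
    rwa [haS] at this
  have hbQ : ∀ y ∈ Q₁, invOn S a y ∈ imgS P f₀ := by
    intro y hy
    rw [← haQimg] at hy
    obtain ⟨x, hx, rfl⟩ := haQ.mem_imgS.1 hy
    rw [invOn_apply ha.injOn (hQS hx)]
    exact hx
  have key : ∀ g ∈ normalizerIn S Q₁, ∀ y ∈ imgS P f₀,
      invOn S a g * y * (invOn S a g)⁻¹ ∈ imgS P f₀ := by
    intro g hg y hy
    obtain ⟨hgS, hgN⟩ := mem_normalizerIn_iff.1 hg
    have hay : a y ∈ Q₁ := by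
      rw [← haQimg]
      exact haQ.mem_imgS_of_mem hy
    have h1 : g * a y * g⁻¹ ∈ Q₁ := conj_mem_of_mem_normalizer hgN hay
    have h2 := hbQ _ h1
    rw [hb.map_mul (Subgroup.mul_mem _ hgS (hQ₁S hay)) (Subgroup.inv_mem _ hgS),
      hb.map_mul hgS (hQ₁S hay), hb.map_inv hgS, invOn_apply ha.injOn (hQS hy)] at h2
    exact h2
  have hbN : ∀ g ∈ normalizerIn S Q₁, invOn S a g ∈ normalizerIn S (imgS P f₀) := by
    intro g hg
    obtain ⟨hgS, hgN⟩ := mem_normalizerIn_iff.1 hg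
    refine mem_normalizerIn_iff.2 ⟨hb.mem hgS, ?_⟩
    refine mem_normalizer_of_forall_conj_mem (key g hg) (fun y hy => ?_)
    have := key g⁻¹ (Subgroup.inv_mem _ hg) y hy
    rwa [hb.map_inv hgS, inv_inv] at this
  refine ⟨hQS, fun Q' hQ' => ?_⟩
  have h1 : Nat.card (normalizerIn S Q') ≤ Nat.card (normalizerIn S Q₁) :=
    hQ₁fn.2 Q' (isConj_trans (isConj_symm hQQ₁) hQ')
  have h2 : Nat.card (normalizerIn S Q₁) ≤ Nat.card (normalizerIn S (imgS P f₀)) := by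
    have : Finite (normalizerIn S (imgS P f₀)) := finite_of_le (S := S) inf_le_left
    refine Nat.card_le_card_of_injective
      (fun c : normalizerIn S Q₁ => (⟨invOn S a c, hbN c c.2⟩ : normalizerIn S (imgS P f₀))) ?_
    intro c d hcd
    exact Subtype.ext (hb.injOn (mem_normalizerIn_iff.1 c.2).1 (mem_normalizerIn_iff.1 d.2).1
      (congrArg Subtype.val hcd))
  exact h1.trans h2

/-- The receptive case of PSTEP. -/
theorem step_receptive {p : ℕ}
    {X R : FusionSystem S} (hRX : R.HasPrimeToPIndexIn X p) {M : Subgroup Ω} (hMS : M ≤ S)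
    {XM RM : FusionSystem M} (hXMp : PPow XM X p) (hRMXM : RM.IsSubsystemOf XM)
    (hTheta : ∀ P : Subgroup Ω, P ≤ M → X.IsReceptive P → ∀ t ∈ S,
      Mor XM P (fun x => t * x * t⁻¹) → ∃ m ∈ M, ∀ x ∈ P, m * x * m⁻¹ = t * x * t⁻¹)
    (hRMp : PPow RM R p) {P : Subgroup Ω} (hP : P ≤ M) (hrec : X.IsReceptive P)
    (α : MulAut P) (hα : α ∈ XM.autGroup P) (k : ℕ) (hk : orderOf α = p ^ k) :
    α ∈ RM.autGroup P := by
  have hPS : P ≤ S := hP.trans hMS
  have haXM : Mor XM P (autFun P α) := (mem_autGroup_iff hP α).1 hα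
  have hαX : α ∈ X.autGroup P := by
    rw [mem_autGroup_iff hPS]
    exact mor_sub' hXMp.1 haXM
  have hαR : α ∈ R.autGroup P := by
    apply hRX.2 P hPS
    refine ⟨⟨α, hαX⟩, Subgroup.subset_closure ⟨k, ?_⟩, rfl⟩
    rw [Subgroup.orderOf_mk]
    exact hk
  have haR : Mor R P (autFun P α) := (mem_autGroup_iff hPS α).1 hαR
  obtain ⟨t, ht, htRM⟩ := hRMp.2.2 P (autFun P α) haR hP
  have himg : imgS P (autFun P α) = P := imgS_autFun haXM
  have htXM : Mor XM P (fun x => t * x * t⁻¹) := by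
    have h1 : Mor XM (imgS P (autFun P α)) (invOn P (autFun P α)) := haXM.inv
    rw [himg] at h1
    have h2 : Mor XM P ((fun x => t * autFun P α x * t⁻¹) ∘ invOn P (autFun P α)) :=
      h1.comp (mor_sub' hRMXM htRM) (fun x hx => haXM.invOn_mem (by rw [himg]; exact hx))
    refine h2.congr (fun x hx => ?_)
    show t * autFun P α (invOn P (autFun P α) x) * t⁻¹ = t * x * t⁻¹
    rw [haXM.apply_invOn (by rw [himg]; exact hx)]
  obtain ⟨m, hm, hmt⟩ := hTheta P hP hrec t ht htXM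
  rw [mem_autGroup_iff hP]
  have h3 : Mor RM (imgS P (fun x => t * autFun P α x * t⁻¹)) (fun y => m⁻¹ * y * m⁻¹⁻¹) :=
    Mor.conj RM htRM.imgS_le (M.inv_mem hm)
  have h4 := htRM.comp h3 (fun x hx => htRM.mem_imgS_of_mem hx)
  refine h4.congr (fun x hx => ?_)
  show m⁻¹ * (t * autFun P α x * t⁻¹) * m⁻¹⁻¹ = autFun P α x
  rw [← hmt _ (autFun_mem α hx)]
  group

set_option maxHeartbeats 400000 in
/-- **S5202-PSTEP.** -/
theorem primeIdx_step [Finite S] {p : ℕ} [Fact p.Prime] (hS : IsPGroup p S)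
    {X R : FusionSystem S} (hX : X.IsSaturated p) (hR : R.IsSaturated p)
    (hRX : R.HasPrimeToPIndexIn X p) {M : Subgroup Ω} (hMS : M ≤ S)
    (hhyp : X.hyperfocalSubgroup p ≤ M)
    {XM RM : FusionSystem M} (hXM : XM.IsSaturated p) (hXMp : PPow XM X p)
    (hTheta : ∀ P : Subgroup Ω, P ≤ M → X.IsReceptive P → ∀ t ∈ S,
      Mor XM P (fun x => t * x * t⁻¹) → ∃ m ∈ M, ∀ x ∈ P, m * x * m⁻¹ = t * x * t⁻¹)
    (hRM : RM.IsSaturated p) (hRMp : PPow RM R p) :
    RM.HasPrimeToPIndexIn XM p := by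
  haveI : Finite M := finite_of_le hMS
  have hMp : IsPGroup p M := hS.to_le hMS
  have hRMX : RM.IsSubsystemOf X := fun P => (hRMp.1 P).trans (hRX.1 P)
  have hRMXM : RM.IsSubsystemOf XM :=
    Cfsg.Agent.H88.subsystem_of_pPowerIndex hMp RM hRM hRMX hMS XM le_rfl
      (hXMp.hasPPowerIndexIn hhyp)
  refine ⟨hRMXM, fun P hP => ?_⟩
  rw [MonoidHom.map_closure, Subgroup.closure_le]
  rintro _ ⟨α, ⟨k, hk⟩, rfl⟩
  show (α : MulAut P) ∈ RM.autGroup P
  have hk' : orderOf (α : MulAut P) = p ^ k := by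
    rw [Subgroup.orderOf_coe]
    exact hk
  have hαXM : (α : MulAut P) ∈ XM.autGroup P := α.2
  have hPS : P ≤ S := hP.trans hMS
  -- Frattini for `R` in `X`
  obtain ⟨-, hfr0, -⟩ := primeIdx_main hS hX R hRX.1 (fun Q hQ => hRX.2 Q hQ.1)
  obtain ⟨P', hPP', hP'fn⟩ := exists_fullyNormalized_conj X hPS
  obtain ⟨ψ, hψ, hψimg⟩ := isConj_iff.1 hPP'
  obtain ⟨φ, hφ, hφf⟩ := id hψ
  obtain ⟨α₀, hα₀, φ₀, hφ₀, hα0⟩ := hfr0 P φ hφ
  have ha := (mem_autGroup_iff le_rfl α₀).1 hα₀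
  have hρ0 : Mor R P (extFun P φ₀) := mor_extFun hφ₀
  have hψa : ∀ x ∈ P, ψ x = autFun S α₀ (extFun P φ₀ x) := by
    intro x hx
    have hx0 : φ₀ ⟨x, hx⟩ ∈ S := (R.le_of_mem hφ₀).2 _
    rw [← hφf ⟨x, hx⟩, hα0 ⟨x, hx⟩ hx0, extFun_of_mem _ _ hx, autFun_of_mem α₀ hx0]
  have hfn0 : X.IsFullyNormalized (imgS P (extFun P φ₀)) :=
    fullyNormalized_of_frattini hψ hψimg hP'fn ha (imgS_autFun ha) (mor_sub' hRX.1 hρ0) hψa
  obtain ⟨t, ht, htRM⟩ := hRMp.2.2 P (extFun P φ₀) hρ0 hP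
  have hcomp := hρ0.imgS_comp (g := fun x => t * x * t⁻¹) (Mor.conj R hρ0.imgS_le ht)
    (fun x hx => hρ0.mem_imgS_of_mem hx)
  have hfn2' := fullyNormalized_conj hfn0 ht
  rw [← hcomp] at hfn2'
  simp only [Function.comp_def] at hfn2'
  have hfn2 : X.IsFullyNormalized (imgS P (fun x => t * extFun P φ₀ x * t⁻¹)) := hfn2'
  have hrec : X.IsReceptive (imgS P (fun x => t * extFun P φ₀ x * t⁻¹)) :=
    saturated_receptive_of_fullyCentralized hS hX (saturated_fullyNormalized hS hX hfn2).1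
  have hP2M : imgS P (fun x => t * extFun P φ₀ x * t⁻¹) ≤ M := htRM.imgS_le
  -- transport along the isomorphism
  obtain ⟨e, he⟩ : ∃ e : P ≃* imgS P (fun x => t * extFun P φ₀ x * t⁻¹),
      ∀ x : P, ((e x : imgS P (fun x => t * extFun P φ₀ x * t⁻¹)) : Ω) =
        t * extFun P φ₀ x * t⁻¹ := ⟨isoEquiv htRM rfl, isoEquiv_apply htRM rfl⟩
  have hβ2XM : MulAut.congr e (α : MulAut P) ∈
      XM.autGroup (imgS P (fun x => t * extFun P φ₀ x * t⁻¹)) :=
    congr_mem_autGroup (mor_sub' hRMXM htRM) rfl e he hαXM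
  have hord : orderOf (MulAut.congr e (α : MulAut P)) = p ^ k := by
    rw [MulEquiv.orderOf_eq]
    exact hk'
  have hβ2RM := step_receptive hRX hMS hXMp hRMXM hTheta hRMp hP2M hrec _ hβ2XM k hord
  have hesymm : ∀ y : imgS P (fun x => t * extFun P φ₀ x * t⁻¹),
      ((e.symm y : P) : Ω) = invOn P (fun x => t * extFun P φ₀ x * t⁻¹) y := by
    intro y
    obtain ⟨x, rfl⟩ := e.surjective y
    rw [MulEquiv.symm_apply_apply, he, invOn_apply htRM.injOn x.2]
  have hback := congr_mem_autGroup htRM.inv htRM.imgS_inv e.symm hesymm hβ2RM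
  have hid : MulAut.congr e.symm (MulAut.congr e (α : MulAut P)) = (α : MulAut P) := by
    ext x
    simp [MulAut.congr]
  rw [hid] at hback
  exact hback

end Cfsg.Agent.H67.Red
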