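import Mathlib
import Cfsg.Agent.H97.SuRDefs
import Cfsg.Agent.H51.SuRConv

/-!
# S2282-QU3 and S2282-QL3 (helper67, for helper97)

If `H` contains an `eU c S` for every `c` and every `eU 0 S` with `S` skew-hermitian, then `H`
contains the whole upper unipotent radical (`Qin σ H`); the mirror statement for `eL`/`Qlow`.
-/

set_option autoImplicit false
set_option linter.unusedVariables false

namespace Cfsg.Agent.H67.SuR
open Matrix Cfsg.Agent.H45.U Cfsg.Agent.H97.SuR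
variable {F : Type*} [Field F]

theorem eL_mul_h67 (σ : F →+* F) {k : ℕ} (c c' : Matrix (Fin k) (Fin 1) F)
    (S S' : Matrix (Fin k) (Fin k) F) :
    eL σ c S * eL σ c' S' = eL σ (c + c') (S + S' - c * ct σ c') := by
  unfold eL
  rw [blk3_mul]
  congr 1 <;> simp [ct_add] <;> abel

theorem qin_of_parts (σ : F →+* F) (hσ : ∀ a, σ (σ a) = a) {k : ℕ}
    (H : Subgroup ↥(UH σ (Fin k) (Fin 1)))
    (hc : ∀ c : Matrix (Fin k) (Fin 1) F, ∃ S : Matrix (Fin k) (Fin k) F,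
      ∃ x ∈ H, x.1.1 = eU σ c S)
    (hz : ∀ S : Matrix (Fin k) (Fin k) F, S + ct σ S = 0 → ∃ x ∈ H, x.1.1 = eU σ 0 S) :
    Qin σ H := by
  intro g c S hS hg
  obtain ⟨S₀, x₀, hx₀, hx₀e⟩ := hc c
  have h0 : S₀ + ct σ S₀ + c * ct σ c = 0 :=
    Cfsg.Agent.H51.SuR.cond_of_eU σ hσ x₀ c S₀ hx₀e
  have hskew : (S - S₀) + ct σ (S - S₀) = 0 := by
    rw [ct_sub]
    have : (S - S₀) + (ct σ S - ct σ S₀) =
        (S + ct σ S + c * ct σ c) - (S₀ + ct σ S₀ + c * ct σ c) := by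
      abel
    rw [this, hS, h0, sub_zero]
  obtain ⟨z, hzH, hze⟩ := hz (S - S₀) hskew
  have : g = z * x₀ := by
    apply UH_ext
    rw [UH_mul_coe, hg, hze, hx₀e, eU_mul]
    congr 1 <;> simp
  rw [this]; exact H.mul_mem hzH hx₀

theorem qlow_of_parts (σ : F →+* F) (hσ : ∀ a, σ (σ a) = a) {k : ℕ}
    (H : Subgroup ↥(UH σ (Fin k) (Fin 1)))
    (hc : ∀ c : Matrix (Fin k) (Fin 1) F, ∃ S : Matrix (Fin k) (Fin k) F,
      ∃ x ∈ H, x.1.1 = eL σ c S)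
    (hz : ∀ S : Matrix (Fin k) (Fin k) F, S + ct σ S = 0 → ∃ x ∈ H, x.1.1 = eL σ 0 S) :
    Qlow σ H := by
  intro g c S hS hg
  obtain ⟨S₀, x₀, hx₀, hx₀e⟩ := hc c
  have h0 : S₀ + ct σ S₀ + c * ct σ c = 0 :=
    Cfsg.Agent.H51.SuR.cond_of_eL σ hσ x₀ c S₀ hx₀e
  have hskew : (S - S₀) + ct σ (S - S₀) = 0 := by
    rw [ct_sub]
    have : (S - S₀) + (ct σ S - ct σ S₀) =
        (S + ct σ S + c * ct σ c) - (S₀ + ct σ S₀ + c * ct σ c) := by
      abel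
    rw [this, hS, h0, sub_zero]
  obtain ⟨z, hzH, hze⟩ := hz (S - S₀) hskew
  have : g = z * x₀ := by
    apply UH_ext
    rw [UH_mul_coe, hg, hze, hx₀e, eL_mul_h67]
    congr 1 <;> simp
  rw [this]; exact H.mul_mem hzH hx₀

end Cfsg.Agent.H67.SuR
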