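import Mathlib
import Cfsg.Agent.H67.Conj

set_option autoImplicit false

namespace Cfsg.Agent.H67

universe u

/-- `M` is a minimal normal subgroup or trivial: every normal subgroup inside it is `⊥` or `M`. -/
def IsMinNormal {G : Type u} [Group G] (M : Subgroup G) : Prop :=
  M.Normal ∧ ∀ K : Subgroup G, K.Normal → K ≤ M → K = ⊥ ∨ K = M

theorem IsMinNormal.map_equiv {G : Type u} [Group G] {M : Subgroup G} (hM : IsMinNormal M)
    (φ : G ≃* G) : IsMinNormal (M.map φ.toMonoidHom) := by
  refine ⟨hM.1.map _ φ.surjective, ?_⟩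
  intro K hK hKM
  have h1 : (K.comap φ.toMonoidHom).Normal := hK.comap _
  have h2 : K.comap φ.toMonoidHom ≤ M := by
    intro x hx
    obtain ⟨y, hy, hyx⟩ := hKM hx
    have : y = x := φ.injective hyx
    rwa [← this]
  have h3 : (K.comap φ.toMonoidHom).map φ.toMonoidHom = K :=
    Subgroup.map_comap_eq_self_of_surjective φ.surjective K
  rcases hM.2 _ h1 h2 with h | h
  · left
    rw [← h3, h, Subgroup.map_bot]
  · right
    rw [← h3, h]

/-- In a finite group, every nontrivial normal subgroup contains a minimal normal subgroup. -/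
theorem exists_isMinNormal_le {G : Type u} [Group G] [Finite G] (M : Subgroup G) (hMn : M.Normal)
    (hM : M ≠ ⊥) : ∃ M₁ : Subgroup G, IsMinNormal M₁ ∧ M₁ ≤ M ∧ M₁ ≠ ⊥ := by
  obtain ⟨M₁, ⟨h1, h2, h3⟩, hmin⟩ := Set.exists_min_image
    {K : Subgroup G | K.Normal ∧ K ≤ M ∧ K ≠ ⊥} (fun K => Nat.card K) (Set.toFinite _)
    ⟨M, hMn, le_rfl, hM⟩
  refine ⟨M₁, ⟨h1, ?_⟩, h2, h3⟩
  intro K hK hKM
  by_cases hKb : K = ⊥
  · exact Or.inl hKb
  · right
    exact Subgroup.eq_of_le_of_card_ge hKM (hmin K ⟨hK, hKM.trans h2, hKb⟩)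

theorem card_lt_of_lt_top {G : Type u} [Group G] [Finite G] {N : Subgroup G} (h : N < ⊤) :
    Nat.card N < Nat.card G := by
  by_contra hle
  exact h.ne (Subgroup.eq_top_of_le_card N (not_lt.1 hle))

/-- transfer of normalizer membership from a subgroup `N ⊇ H` to the ambient group. -/
theorem coe_mem_normalizer_of_mem_normalizer_subgroupOf {G : Type u} [Group G] {H N : Subgroup G}
    (hHN : H ≤ N) (y : ↥N) (hy : y ∈ Subgroup.normalizer ((H.subgroupOf N : Subgroup ↥N) : Set ↥N)) :
    (y : G) ∈ Subgroup.normalizer (H : Set G) := by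
  rw [mem_normalizer_iff_map_conj] at hy ⊢
  rw [map_conj_subgroupOf, Subgroup.subgroupOf_inj, inf_eq_left.2 hHN,
    inf_eq_left.2 (map_conj_le_of_mem hHN y.2)] at hy
  exact hy

/-- **Wielandt**: a minimal normal subgroup of a finite group normalizes every subnormal
subgroup. -/
theorem isMinNormal_le_normalizer_of_isSubnormal_aux (n : ℕ) :
    ∀ (G : Type u) [Group G] [Finite G], Nat.card G = n → ∀ (H M : Subgroup G),
      H.IsSubnormal → IsMinNormal M → M ≤ Subgroup.normalizer (H : Set G) := by
  induction n using Nat.strong_induction_on with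
  | _ n ih =>
    intro G _ _ hn H M hH hM
    by_cases hHtop : H = ⊤
    · subst hHtop
      intro x _
      rw [Subgroup.mem_normalizer_iff]
      intro h
      simp
    obtain ⟨N, hNn, hHN, hNlt⟩ := hH.exists_normal_and_le_and_lt_top_of_ne hHtop
    have hMn : M.Normal := hM.1
    have hMNn : (M ⊓ N).Normal := Subgroup.normal_inf_normal M N
    rcases hM.2 _ hMNn inf_le_left with h | h
    · -- M and N commute
      intro x hx
      apply Subgroup.centralizer_le_normalizer
      rw [Subgroup.mem_centralizer_iff]
      intro y hy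
      exact (Subgroup.commute_of_normal_of_disjoint M N hMn hNn (disjoint_iff.2 h) x y hx
        (hHN hy)).eq.symm
    · have hMN : M ≤ N := inf_eq_left.1 h
      by_cases hMbot : M = ⊥
      · rw [hMbot]; exact bot_le
      -- a minimal normal subgroup of N inside M
      have hM'n : (M.subgroupOf N).Normal := hMn.subgroupOf N
      have hM'bot : M.subgroupOf N ≠ ⊥ := by
        intro hb
        rw [Subgroup.subgroupOf_eq_bot] at hb
        apply hMbot
        have := disjoint_iff.1 hb
        rwa [inf_eq_left.2 hMN] at this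
      obtain ⟨M₁, hM₁, hM₁le, hM₁bot⟩ := exists_isMinNormal_le (M.subgroupOf N) hM'n hM'bot
      have hcard : Nat.card N < n := hn ▸ card_lt_of_lt_top hNlt
      have hHsub : (H.subgroupOf N).IsSubnormal := hH.subgroupOf
      -- the normal closure of M₁ in G is M
      have hL : Subgroup.normalClosure ((M₁.map N.subtype : Subgroup G) : Set G) = M := by
        have hle : Subgroup.normalClosure ((M₁.map N.subtype : Subgroup G) : Set G) ≤ M := by
          apply Subgroup.normalClosure_le_normal
          rintro x ⟨y, hy, rfl⟩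
          exact hM₁le hy
        rcases hM.2 _ Subgroup.normalClosure_normal hle with h | h
        · exfalso
          apply hM₁bot
          rw [eq_bot_iff]
          intro y hy
          have : (y : G) ∈ Subgroup.normalClosure ((M₁.map N.subtype : Subgroup G) : Set G) :=
            Subgroup.le_normalClosure ⟨y, hy, rfl⟩
          rw [h, Subgroup.mem_bot] at this
          rw [Subgroup.mem_bot]
          exact Subtype.ext this
        · exact h
      rw [← hL]
      unfold Subgroup.normalClosure
      rw [Subgroup.closure_le]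
      intro x hx
      rw [Group.mem_conjugatesOfSet_iff] at hx
      obtain ⟨a, ⟨y, hy, rfl⟩, hconj⟩ := hx
      rw [isConj_iff] at hconj
      obtain ⟨g, rfl⟩ := hconj
      -- g * y * g⁻¹ = φ_g y
      have hmin : IsMinNormal (M₁.map (MulAut.conjNormal (H := N) g).toMonoidHom) :=
        hM₁.map_equiv _
      have hmem : (MulAut.conjNormal (H := N) g) y ∈
          M₁.map (MulAut.conjNormal (H := N) g).toMonoidHom := ⟨y, hy, rfl⟩
      have := ih (Nat.card N) hcard N rfl (H.subgroupOf N) _ hHsub hmin hmem
      have h2 := coe_mem_normalizer_of_mem_normalizer_subgroupOf hHN _ this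
      simpa [MulAut.conjNormal_apply] using h2

theorem IsMinNormal.le_normalizer_of_isSubnormal {G : Type u} [Group G] [Finite G]
    {H M : Subgroup G} (hM : IsMinNormal M) (hH : H.IsSubnormal) :
    M ≤ Subgroup.normalizer (H : Set G) :=
  isMinNormal_le_normalizer_of_isSubnormal_aux _ G rfl H M hH hM

end Cfsg.Agent.H67
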