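import Mathlib
import Cfsg.Agent.H72.ZasDefs
import Cfsg.Agent.H59.UniqueOrderP
import Cfsg.Agent.H67.ZasLu

/-!
# Piece NOZ of helper72's S0690 project (Zassenhaus)

A perfect group in which abelian subgroups are cyclic has no nontrivial normal subgroup of odd
order.
-/

set_option autoImplicit false
set_option linter.style.haveILetI false

namespace Cfsg.Agent.H67.Zas

open Cfsg.Agent.H72.Zas
open scoped commutatorElement

universe u

section Aux

variable {G : Type*} [Group G]

/-- The subgroup generated by two commuting elements is commutative. -/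
theorem closure_pair_comm (a b : G) (hab : a * b = b * a) :
    ∀ x ∈ Subgroup.closure ({a, b} : Set G), ∀ y ∈ Subgroup.closure ({a, b} : Set G),
      x * y = y * x := by
  have h1 : ∀ s ∈ ({a, b} : Set G),
      Subgroup.closure ({a, b} : Set G) ≤ Subgroup.centralizer {s} := by
    intro s hs
    rw [Subgroup.closure_le]
    intro t ht
    rw [SetLike.mem_coe, Subgroup.mem_centralizer_iff]
    intro u hu
    rw [Set.mem_singleton_iff] at hu
    rw [hu]
    have hs' : s = a ∨ s = b := by simpa using hs
    have ht' : t = a ∨ t = b := by simpa using ht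
    rcases hs' with h | h <;> rcases ht' with h' | h' <;> rw [h, h']
    · exact hab
    · exact hab.symm
  have h2 : Subgroup.closure ({a, b} : Set G) ≤
      Subgroup.centralizer (Subgroup.closure ({a, b} : Set G) : Set G) := by
    rw [Subgroup.closure_le]
    intro s hs
    rw [SetLike.mem_coe, Subgroup.mem_centralizer_iff]
    intro z hz
    exact ((Subgroup.mem_centralizer_iff.1 (h1 s hs hz)) s rfl).symm
  intro x hx y hy
  exact (Subgroup.mem_centralizer_iff.1 (h2 hy)) x hx

/-- If all abelian subgroups are cyclic, then the `p`-subgroups are cyclic for odd `p`. -/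
theorem isCyclic_of_pgroup_odd [Finite G]
    (hab : ∀ A : Subgroup G, (∀ x ∈ A, ∀ y ∈ A, x * y = y * x) → IsCyclic A)
    (p : ℕ) [Fact p.Prime] (hp2 : p ≠ 2) (H : Subgroup G) (hH : IsPGroup p H) : IsCyclic H := by
  have hp : p.Prime := Fact.out
  have huniq : ∀ A B : Subgroup H, Nat.card A = p → Nat.card B = p → A = B := by
    intro A B hA hB
    haveI : Nontrivial H := by
      rw [← Finite.one_lt_card_iff_nontrivial]
      calc 1 < p := hp.one_lt
        _ = Nat.card A := hA.symm
        _ ≤ Nat.card H := Subgroup.card_le_card_group A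
    haveI hZn : Nontrivial (Subgroup.center H) := hH.center_nontrivial
    have hpc : p ∣ Nat.card (Subgroup.center H) := by
      have hZ : IsPGroup p (Subgroup.center H) := hH.to_subgroup _
      rcases hZ.card_eq_or_dvd with h | h
      · exfalso
        exact (Finite.one_lt_card_iff_nontrivial.2 hZn).ne' h
      · exact h
    obtain ⟨z, hz⟩ := exists_prime_orderOf_dvd_card' p hpc
    have hzo : orderOf (z : H) = p := by rw [Subgroup.orderOf_coe]; exact hz
    have key : ∀ h : H, h ^ p = 1 → h ∈ Subgroup.zpowers (z : H) := by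
      intro h hh
      have hcomm : ((h : H) : G) * ((z : H) : G) = ((z : H) : G) * ((h : H) : G) := by
        have h1 := (Subgroup.mem_center_iff.1 z.2) h
        exact congrArg Subtype.val h1
      obtain ⟨A', hA'⟩ : ∃ A' : Subgroup G,
          A' = Subgroup.closure ({((h : H) : G), ((z : H) : G)} : Set G) := ⟨_, rfl⟩
      haveI : IsCyclic A' := hab A' (by rw [hA']; exact closure_pair_comm _ _ hcomm)
      have hhA : ((h : H) : G) ∈ A' := by rw [hA']; exact Subgroup.subset_closure (by simp)
      have hzA : ((z : H) : G) ∈ A' := by rw [hA']; exact Subgroup.subset_closure (by simp)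
      have h1 := mem_zpowers_of_cyclic (G := A') hp.pos (x := ⟨_, hzA⟩) (y := ⟨_, hhA⟩)
        (by rw [Subgroup.orderOf_mk, Subgroup.orderOf_coe]; exact hzo)
        (by
          apply Subtype.ext
          show ((h : H) : G) ^ p = 1
          rw [← Subgroup.coe_pow, hh, Subgroup.coe_one])
      obtain ⟨k, hk⟩ := Subgroup.mem_zpowers_iff.1 h1
      rw [Subgroup.mem_zpowers_iff]
      refine ⟨k, ?_⟩
      apply Subtype.ext
      have h2 := congrArg (fun w : A' => (w : G)) hk
      simpa using h2
    have hle : ∀ A : Subgroup H, Nat.card A = p → A = Subgroup.zpowers (z : H) := by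
      intro A hA
      apply Subgroup.eq_of_le_of_card_ge
      · intro a ha
        apply key
        have h1 : (⟨a, ha⟩ : A) ^ Nat.card A = 1 := pow_card_eq_one'
        rw [hA] at h1
        have h2 := congrArg Subtype.val h1
        rw [Subgroup.coe_pow, Subgroup.coe_one] at h2
        exact h2
      · rw [Nat.card_zpowers, hzo, hA]
    rw [hle A hA, hle B hB]
  rcases Cfsg.Agent.H59.cyclic_or_quaternion_of_unique p hH huniq with h | ⟨h, -⟩
  · exact h
  · exact absurd h hp2

end Aux

/-- **Piece NOZ of S0690.** -/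
theorem zas_noz : StNoz.{u} := by
  intro G _ _ hax hperf N hN hodd
  by_contra hne
  -- `N` is a Z-group
  haveI : IsZGroup N := by
    refine ⟨fun q hq P => ?_⟩
    haveI : Fact q.Prime := ⟨hq⟩
    by_cases hq2 : q = 2
    · have h1 : Nat.card P ∣ Nat.card N := Subgroup.card_subgroup_dvd_card _
      obtain ⟨k, hk⟩ := (P.2 : IsPGroup q P).exists_card_eq
      have h2 : Nat.card P = 1 := by
        rw [hk] at h1 ⊢
        rcases Nat.eq_zero_or_pos k with h0 | hpos
        · rw [h0, pow_zero]
        · exfalso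
          have h3 : 2 ∣ Nat.card N := by
            rw [hq2] at h1
            exact (dvd_pow_self 2 hpos.ne').trans h1
          exact (Nat.not_even_iff_odd.2 hodd) (even_iff_two_dvd.2 h3)
      haveI : Subsingleton P := (Nat.card_eq_one_iff_unique.1 h2).1
      exact isCyclic_of_subsingleton
    · have h1 : IsPGroup q ((P : Subgroup N).map N.subtype) := P.2.map N.subtype
      haveI := isCyclic_of_pgroup_odd hax.ab q hq2 _ h1
      exact isCyclic_of_surjective
        (Subgroup.equivMapOfInjective (P : Subgroup N) N.subtype N.subtype_injective).symm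
        (Subgroup.equivMapOfInjective (P : Subgroup N) N.subtype N.subtype_injective).symm.surjective
  -- a nontrivial abelian normal subgroup `D ≤ N`
  obtain ⟨D, hDn, hDN, hDne, hDc⟩ : ∃ D : Subgroup G, D.Normal ∧ D ≤ N ∧ D ≠ ⊥ ∧
      ∀ x ∈ D, ∀ y ∈ D, x * y = y * x := by
    by_cases hc : ⁅N, N⁆ = ⊥
    · refine ⟨N, hN, le_rfl, hne, ?_⟩
      have h1 := Subgroup.commutator_eq_bot_iff_le_centralizer.1 hc
      intro x hx y hy
      exact (Subgroup.mem_centralizer_iff.1 (h1 hy)) x hx
    · haveI : IsCyclic (commutator N) := IsZGroup.isCyclic_commutator N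
      refine ⟨⁅N, N⁆, Subgroup.commutator_normal N N, Subgroup.commutator_le_self N, hc, ?_⟩
      intro x hx y hy
      rw [← Subgroup.map_subtype_commutator] at hx hy
      obtain ⟨a, ha, rfl⟩ := Subgroup.mem_map.1 hx
      obtain ⟨b, hb, rfl⟩ := Subgroup.mem_map.1 hy
      have h1 := mul_comm' (⟨a, ha⟩ : commutator N) ⟨b, hb⟩
      have h2 : a * b = b * a := congrArg Subtype.val h1
      rw [← map_mul, ← map_mul, h2]
  haveI := hDn
  haveI : IsCyclic D := hax.ab D hDc
  -- `D` is central, since `G` is perfect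
  obtain ⟨d₀, hd₀⟩ := IsCyclic.exists_generator (α := D)
  have hconj : ∀ g : G, ∃ i : ℤ, g * (d₀ : G) * g⁻¹ = (d₀ : G) ^ i := by
    intro g
    have h1 : g * (d₀ : G) * g⁻¹ ∈ D := hDn.conj_mem _ d₀.2 g
    obtain ⟨i, hi⟩ := Subgroup.mem_zpowers_iff.1 (hd₀ ⟨_, h1⟩)
    refine ⟨i, ?_⟩
    have h2 := congrArg (fun w : D => (w : G)) hi
    simpa using h2.symm
  have hswap : ∀ a b : G, ∀ z ∈ D, a * (b * z * b⁻¹) * a⁻¹ = b * (a * z * a⁻¹) * b⁻¹ := by
    intro a b z hz
    obtain ⟨m, hm⟩ := Subgroup.mem_zpowers_iff.1 (hd₀ ⟨z, hz⟩)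
    have hm' : (d₀ : G) ^ m = z := by
      have h2 := congrArg (fun w : D => (w : G)) hm
      simpa using h2
    obtain ⟨i, hi⟩ := hconj a
    obtain ⟨j, hj⟩ := hconj b
    have hc : ∀ (g : G) (k n : ℤ), g * (d₀ : G) * g⁻¹ = (d₀ : G) ^ k →
        g * (d₀ : G) ^ n * g⁻¹ = (d₀ : G) ^ (k * n) := by
      intro g k n h
      rw [← conj_zpow, h, ← zpow_mul]
    rw [← hm', hc b j m hj, hc a i (j * m) hi, hc a i m hi, hc b j (i * m) hj]
    congr 1
    ring
  have hcen : ∀ g : G, ∀ z ∈ D, z * g = g * z := by
    have h1 : commutator G ≤ Subgroup.centralizer (D : Set G) := by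
      rw [commutator_def, Subgroup.commutator_le]
      intro a _ b _
      rw [Subgroup.mem_centralizer_iff]
      intro z hz
      have hu : (b * a)⁻¹ * z * (b * a)⁻¹⁻¹ ∈ D := hDn.conj_mem _ hz _
      have h2 := hswap a b _ hu
      have h3 : ⁅a, b⁆ * z * ⁅a, b⁆⁻¹ = z := by
        calc ⁅a, b⁆ * z * ⁅a, b⁆⁻¹
            = a * (b * ((b * a)⁻¹ * z * (b * a)⁻¹⁻¹) * b⁻¹) * a⁻¹ := by
              rw [commutatorElement_def]; group
          _ = b * (a * ((b * a)⁻¹ * z * (b * a)⁻¹⁻¹) * a⁻¹) * b⁻¹ := h2
          _ = z := by group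
      calc z * ⁅a, b⁆ = (⁅a, b⁆ * z * ⁅a, b⁆⁻¹) * ⁅a, b⁆ := by rw [h3]
        _ = ⁅a, b⁆ * z := by group
    intro g z hz
    have h2 : g ∈ Subgroup.centralizer (D : Set G) := h1 (by rw [hperf]; exact Subgroup.mem_top g)
    exact (Subgroup.mem_centralizer_iff.1 h2) z hz
  -- an element of odd prime order in `D`
  have hcard1 : Nat.card D ≠ 1 := by
    intro h
    exact hDne ((Subgroup.card_eq_one).1 h)
  obtain ⟨p, hp, hpD⟩ := Nat.exists_prime_and_dvd hcard1
  haveI : Fact p.Prime := ⟨hp⟩
  have hp2 : p ≠ 2 := by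
    intro h
    rw [h] at hpD
    have h3 : 2 ∣ Nat.card N := hpD.trans (Subgroup.card_dvd_of_le hDN)
    exact (Nat.not_even_iff_odd.2 hodd) (even_iff_two_dvd.2 h3)
  obtain ⟨d, hd⟩ := exists_prime_orderOf_dvd_card' p hpD
  have hdZ : (d : G) ∈ Subgroup.center G := by
    rw [Subgroup.mem_center_iff]
    intro g
    exact (hcen g d d.2).symm
  have hpZ : p ∣ Nat.card (Subgroup.center G) := by
    have h1 : orderOf (⟨(d : G), hdZ⟩ : Subgroup.center G) ∣ Nat.card (Subgroup.center G) :=
      orderOf_dvd_natCard _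
    rwa [Subgroup.orderOf_mk, Subgroup.orderOf_coe, hd] at h1
  -- the transfer into the center is trivial
  have hpow : ∀ g : G, g ^ (Subgroup.center G).index = 1 := by
    intro g
    have h1 : commutator G ≤ (MonoidHom.transferCenterPow G).ker := by
      rw [commutator_def, Subgroup.commutator_le]
      intro a _ b _
      have hc : MonoidHom.transferCenterPow G a * MonoidHom.transferCenterPow G b =
          MonoidHom.transferCenterPow G b * MonoidHom.transferCenterPow G a := by
        apply Subtype.ext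
        exact (Subgroup.mem_center_iff.1 (MonoidHom.transferCenterPow G b).2)
          (MonoidHom.transferCenterPow G a : G)
      rw [MonoidHom.mem_ker, commutatorElement_def, map_mul, map_mul, map_mul, map_inv, map_inv,
        hc, mul_inv_cancel_right, mul_inv_cancel]
    have h2 : MonoidHom.transferCenterPow G g = 1 :=
      MonoidHom.mem_ker.1 (h1 (by rw [hperf]; exact Subgroup.mem_top g))
    have h3 : ((MonoidHom.transferCenterPow G g : Subgroup.center G) : G) = 1 := by
      rw [h2]; rfl
    rw [MonoidHom.transferCenterPow_apply] at h3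
    exact h3
  -- a cyclic Sylow `p`-subgroup
  obtain ⟨P⟩ : Nonempty (Sylow p G) := inferInstance
  haveI : IsCyclic P := isCyclic_of_pgroup_odd hax.ab p hp2 _ P.2
  obtain ⟨g₀, hg₀⟩ := IsCyclic.exists_generator (α := P)
  have hg₀o : orderOf (g₀ : G) = Nat.card P := by
    rw [Subgroup.orderOf_coe]
    exact orderOf_eq_card_of_forall_mem_zpowers hg₀
  have h1 : Nat.card P ∣ (Subgroup.center G).index := by
    rw [← hg₀o]
    exact orderOf_dvd_of_pow_eq_one (hpow _)
  have h2 : p * Nat.card P ∣ Nat.card G := by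
    rw [← Subgroup.card_mul_index (Subgroup.center G)]
    exact mul_dvd_mul hpZ h1
  have h3 : p ∣ (P : Subgroup G).index := by
    rw [← Subgroup.card_mul_index (P : Subgroup G), mul_comm p] at h2
    exact Nat.dvd_of_mul_dvd_mul_left Nat.card_pos h2
  exact P.not_dvd_index h3

end Cfsg.Agent.H67.Zas
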